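import Cfsg.Prelude.Def_JComponents
import Cfsg.Agent.Lib.CharP.Sylow
import Cfsg.Agent.Lib.PLocal.ThompsonSubgroup

/-!
The set-up of the J-component chain: elementary abelian subgroups of largest order of a subgroup,
`Z₀`, transport by conjugation.
-/

set_option autoImplicit false
set_option linter.unusedSectionVars false

namespace Cfsg.Agent.JComp

open Subgroup Cfsg Cfsg.Agent.CharP Cfsg.Agent.PLocal.ThompsonSubgroup

variable {G : Type*} [Group G]

instance fact_two : Fact (Nat.Prime 2) := ⟨Nat.prime_two⟩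

/-- `J(T)`. -/
abbrev Jt (T : Subgroup G) : Subgroup G := thompsonSubgroupOf 2 T

/-- Conjugation of subgroups. -/
abbrev cjg (g : G) (H : Subgroup G) : Subgroup G := H.map (MulAut.conj g).toMonoidHom

theorem mem_cjg {g x : G} {H : Subgroup G} : x ∈ cjg g H ↔ g⁻¹ * x * g ∈ H := by
  constructor
  · rintro ⟨y, hy, rfl⟩
    simpa [mul_assoc] using hy
  · intro h
    exact ⟨_, h, by simp [mul_assoc]⟩

theorem conj_mem_cjg {g x : G} {H : Subgroup G} (hx : x ∈ H) : g * x * g⁻¹ ∈ cjg g H :=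
  ⟨x, hx, rfl⟩

theorem cjg_cjg (g h : G) (H : Subgroup G) : cjg g (cjg h H) = cjg (g * h) H := conj_map_map g h H

theorem cjg_inv_cjg (g : G) (H : Subgroup G) : cjg g⁻¹ (cjg g H) = H := by
  rw [cjg_cjg, inv_mul_cancel]; exact conj_map_one H

theorem cjg_inv_cjg' (g : G) (H : Subgroup G) : cjg g (cjg g⁻¹ H) = H := by
  rw [cjg_cjg, mul_inv_cancel]; exact conj_map_one H

theorem card_cjg (g : G) (H : Subgroup G) : Nat.card ↥(cjg g H) = Nat.card ↥H :=
  card_map_of_injective (MulAut.conj g).injective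

theorem cjg_mono {g : G} {H K : Subgroup G} (h : H ≤ K) : cjg g H ≤ cjg g K := map_mono h

theorem cjg_eq_self {g : G} {H : Subgroup G} :
    cjg g H = H ↔ g ∈ normalizer (H : Set G) := mem_normalizer_iff_map_conj_eq.symm

theorem mem_normalizer_of_cjg_le [Finite G] {g : G} {H : Subgroup G} (h : cjg g H ≤ H) :
    g ∈ normalizer (H : Set G) :=
  cjg_eq_self.1 (eq_of_le_of_card_ge h (card_cjg g H).ge)

theorem cjg_centralizer (g : G) (H : Subgroup G) :
    cjg g (centralizer (H : Set G)) = centralizer (cjg g H : Set G) := by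
  ext x
  rw [mem_cjg, mem_centralizer_iff, mem_centralizer_iff]
  constructor
  · rintro h _ ⟨y, hy, rfl⟩
    have := congrArg (fun z => g * z * g⁻¹) (h y hy)
    simpa [mul_assoc] using this
  · intro h y hy
    have := congrArg (fun z => g⁻¹ * z * g) (h _ ⟨y, hy, rfl⟩)
    simpa [mul_assoc] using this

/-- `A` is an elementary abelian subgroup of `T` of largest order. -/
def MaxEA (T A : Subgroup G) : Prop :=
  A ≤ T ∧ IsElementaryAbelian 2 A ∧
    ∀ B : Subgroup G, B ≤ T → IsElementaryAbelian 2 B → Nat.card ↥B ≤ Nat.card ↥A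

variable [Finite G]

theorem exists_maxEA (T : Subgroup G) : ∃ A, MaxEA T A := by
  obtain ⟨A, hA, hmax⟩ := Set.exists_max_image {A : Subgroup G | A ≤ T ∧ IsElementaryAbelian 2 A}
    (fun A => Nat.card A) (Set.toFinite _) ⟨⊥, bot_le, isElementaryAbelian_bot⟩
  exact ⟨A, hA.1, hA.2, fun B hB hBe => hmax B ⟨hB, hBe⟩⟩

theorem MaxEA.subgroupOf {T A : Subgroup G} (h : MaxEA T A) :
    A.subgroupOf T ∈ maxElementaryAbelianSubgroups 2 ↥T := by
  refine ⟨IsElementaryAbelian.comap h.2.1 T.subtype_injective, fun B hB => ?_⟩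
  rw [Nat.card_congr (subgroupOfEquivOfLe h.1).toEquiv, ← card_map_of_injective T.subtype_injective]
  exact h.2.2 _ (map_subtype_le B) (IsElementaryAbelian.map hB _)

theorem maxEA_map {T : Subgroup G} {B : Subgroup ↥T}
    (hB : B ∈ maxElementaryAbelianSubgroups 2 ↥T) : MaxEA T (B.map T.subtype) := by
  refine ⟨map_subtype_le B, IsElementaryAbelian.map hB.1 _, fun C hCT hC => ?_⟩
  rw [card_map_of_injective (K := B) T.subtype_injective,
    ← Nat.card_congr (subgroupOfEquivOfLe hCT).toEquiv]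
  exact hB.2 _ (IsElementaryAbelian.comap hC T.subtype_injective)

theorem MaxEA.le_J {T A : Subgroup G} (h : MaxEA T A) : A ≤ Jt T :=
  (map_subgroupOf_eq_of_le h.1).symm.le.trans (map_mono (le_sSup h.subgroupOf))

theorem J_le_of_forall {T X : Subgroup G} (h : ∀ A, MaxEA T A → A ≤ X) : Jt T ≤ X := by
  rw [Jt, thompsonSubgroupOf, thompsonSubgroup, map_le_iff_le_comap]
  exact sSup_le fun B hB => map_le_iff_le_comap.1 (h _ (maxEA_map hB))

theorem J_le (T : Subgroup G) : Jt T ≤ T := thompsonSubgroupOf_le T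

theorem maxElemAbelianOrder_eq {T A : Subgroup G} (h : MaxEA T A) :
    maxElemAbelianOrder T = Nat.card ↥A := by
  have hset : ((fun B : Subgroup ↥T => Nat.card ↥B) '' maxElementaryAbelianSubgroups 2 ↥T) =
      {Nat.card ↥A} := by
    refine Set.eq_singleton_iff_unique_mem.2
      ⟨⟨_, h.subgroupOf, Nat.card_congr (subgroupOfEquivOfLe h.1).toEquiv⟩, ?_⟩
    rintro _ ⟨B, hB, rfl⟩
    have hm := maxEA_map hB
    have := card_map_of_injective (K := B) T.subtype_injective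
    exact le_antisymm (this.symm.trans_le (h.2.2 _ hm.1 hm.2.1))
      ((hm.2.2 _ h.1 h.2.1).trans_eq this)
  rw [maxElemAbelianOrder, hset, csSup_singleton]

/-- The largest order of an elementary abelian subgroup of `T`. -/
noncomputable abbrev aOrd (T : Subgroup G) : ℕ := maxElemAbelianOrder T

theorem card_le_aOrd {T B : Subgroup G} (hB : B ≤ T) (hBe : IsElementaryAbelian 2 B) :
    Nat.card ↥B ≤ aOrd T := by
  obtain ⟨A, hA⟩ := exists_maxEA T
  rw [aOrd, maxElemAbelianOrder_eq hA]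
  exact hA.2.2 B hB hBe

theorem MaxEA.card {T A : Subgroup G} (h : MaxEA T A) : Nat.card ↥A = aOrd T :=
  (maxElemAbelianOrder_eq h).symm

theorem maxEA_of_card {T A : Subgroup G} (hA : A ≤ T) (hAe : IsElementaryAbelian 2 A)
    (hc : aOrd T ≤ Nat.card ↥A) : MaxEA T A :=
  ⟨hA, hAe, fun _ hB hBe => (card_le_aOrd hB hBe).trans hc⟩

theorem aOrd_mono {T U : Subgroup G} (h : T ≤ U) : aOrd T ≤ aOrd U := by
  obtain ⟨A, hA⟩ := exists_maxEA T
  rw [← hA.card]
  exact card_le_aOrd (hA.1.trans h) hA.2.1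

theorem aOrd_le_of_J_le {T U : Subgroup G} (h : Jt T ≤ U) : aOrd T ≤ aOrd U := by
  obtain ⟨A, hA⟩ := exists_maxEA T
  rw [← hA.card]
  exact card_le_aOrd (hA.le_J.trans h) hA.2.1

theorem J_le_J {T U : Subgroup G} (h : Jt T ≤ U) (ha : aOrd U ≤ aOrd T) : Jt T ≤ Jt U :=
  J_le_of_forall fun _ hA => (maxEA_of_card (hA.le_J.trans h) hA.2.1 (hA.card ▸ ha)).le_J

theorem aOrd_congr {T U : Subgroup G} (h : Jt T = Jt U) : aOrd T = aOrd U :=
  le_antisymm (aOrd_le_of_J_le (h.le.trans (J_le U))) (aOrd_le_of_J_le (h.ge.trans (J_le T)))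

theorem MaxEA.congr {T U A : Subgroup G} (h : Jt T = Jt U) (hA : MaxEA T A) : MaxEA U A :=
  maxEA_of_card ((hA.le_J.trans h.le).trans (J_le U)) hA.2.1
    (by rw [hA.card, aOrd_congr h])

theorem J_eq_of_le_of_le {S U : Subgroup G} (h1 : Jt S ≤ U) (h2 : U ≤ S) : Jt U = Jt S :=
  thompsonSubgroupOf_eq_of_le_of_le h1 h2

theorem J_cjg (g : G) (T : Subgroup G) : Jt (cjg g T) = cjg g (Jt T) :=
  (map_thompsonSubgroupOf (p := 2) (K := T) (f := (MulAut.conj g).toMonoidHom)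
    (MulAut.conj g).injective).symm

theorem MaxEA.cjg {T A : Subgroup G} (h : MaxEA T A) (g : G) :
    MaxEA (cjg g T) (cjg g A) := by
  refine ⟨map_mono h.1, IsElementaryAbelian.map h.2.1 _, fun B hB hBe => ?_⟩
  rw [card_cjg, ← card_cjg g⁻¹ B]
  refine h.2.2 _ ?_ (IsElementaryAbelian.map hBe _)
  exact (cjg_mono hB).trans (cjg_inv_cjg g T).le

theorem aOrd_cjg (g : G) (T : Subgroup G) : aOrd (cjg g T) = aOrd T := by
  obtain ⟨A, hA⟩ := exists_maxEA T
  rw [← (hA.cjg g).card, ← hA.card, card_cjg]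

theorem normalizer_le_normalizer_J (T : Subgroup G) :
    normalizer (T : Set G) ≤ normalizer (Jt T : Set G) :=
  normalizer_le_normalizer_thompsonSubgroupOf T

theorem le_normalizer_J (T : Subgroup G) : T ≤ normalizer (Jt T : Set G) :=
  le_normalizer.trans (normalizer_le_normalizer_J T)

theorem isPGroup_J {T : Subgroup G} (hT : IsPGroup 2 ↥T) : IsPGroup 2 ↥(Jt T) :=
  hT.to_le (J_le T)

theorem mem_maxEA_of_centralizes {T A : Subgroup G} (hA : MaxEA T A) {x : G} (hxT : x ∈ T)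
    (hx : ∀ a ∈ A, a * x = x * a) (hx2 : x * x = 1) : x ∈ A := by
  have h := mem_of_centralizes hA.subgroupOf (x := ⟨x, hxT⟩)
    (fun a ha => Subtype.ext (hx _ ha)) (Subtype.ext (by simpa [pow_two] using hx2))
  exact h

theorem J_ne_bot {T : Subgroup G} (hT : IsPGroup 2 ↥T) (hT1 : T ≠ ⊥) : Jt T ≠ ⊥ := by
  intro hb
  obtain ⟨A, hA⟩ := exists_maxEA T
  have : Nontrivial ↥T := (nontrivial_iff_ne_bot T).2 hT1
  obtain ⟨n, hn⟩ := IsPGroup.iff_card.1 hT
  have hn0 : n ≠ 0 := fun e => by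
    have := Finite.one_lt_card (α := ↥T)
    rw [hn, e] at this
    simp at this
  obtain ⟨z, hz⟩ := exists_prime_orderOf_dvd_card' (G := ↥T) 2 (hn ▸ dvd_pow_self 2 hn0)
  have h2 := pow_orderOf_eq_one z
  rw [hz] at h2
  have hzA : (z : G) ∈ A := by
    refine mem_maxEA_of_centralizes hA z.2 (fun a ha => ?_) ?_
    · rw [mem_bot.1 (hb.le (hA.le_J ha)), one_mul, mul_one]
    · have := congrArg Subtype.val h2
      simpa [pow_two] using this
  have := mem_bot.1 (hb.le (hA.le_J hzA))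
  rw [show z = 1 from Subtype.ext this, orderOf_one] at hz
  exact absurd hz (by norm_num)

/-! ### `Ω₁(Z(X))` -/

theorem mem_omegaCenterOf {X : Subgroup G} {x : G} :
    x ∈ omegaCenterOf X ↔ x ∈ X ∧ (∀ y ∈ X, y * x = x * y) ∧ x * x = 1 := by
  refine ⟨fun h => ?_, fun ⟨h1, h2, h3⟩ =>
    subset_closure ⟨⟨h1, h2⟩, by rw [pow_two]; exact h3⟩⟩
  rw [omegaCenterOf, omegaOne] at h
  induction h using closure_induction with
  | mem x hx => exact ⟨hx.1.1, hx.1.2, by rw [← pow_two]; exact hx.2⟩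
  | one => exact ⟨one_mem _, fun y _ => by simp, one_mul 1⟩
  | mul x y _ _ hx hy =>
    refine ⟨mul_mem hx.1 hy.1, fun z hz => ?_, ?_⟩
    · rw [← mul_assoc, hx.2.1 z hz, mul_assoc, hy.2.1 z hz, ← mul_assoc]
    · have e := hx.2.1 y hy.1
      calc x * y * (x * y) = x * (y * x) * y := by group
        _ = (x * x) * (y * y) := by rw [e]; group
        _ = 1 := by rw [hx.2.2, hy.2.2, one_mul]
  | inv x _ hx =>
    refine ⟨inv_mem hx.1, fun z hz => ?_, ?_⟩
    · exact (Commute.inv_right (a := z) (b := x) (hx.2.1 z hz)).eq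
    · rw [← mul_inv_rev, hx.2.2, inv_one]

theorem omegaCenterOf_le (X : Subgroup G) : omegaCenterOf X ≤ X :=
  fun _ hx => (mem_omegaCenterOf.1 hx).1

theorem elem_omegaCenterOf (X : Subgroup G) : IsElementaryAbelian 2 (omegaCenterOf X) :=
  isElementaryAbelian_iff.2
    ⟨fun a ha b hb => ((mem_omegaCenterOf.1 hb).2.1 a (mem_omegaCenterOf.1 ha).1),
      fun a ha => by rw [pow_two]; exact (mem_omegaCenterOf.1 ha).2.2⟩

theorem cjg_omegaCenterOf (g : G) (X : Subgroup G) :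
    cjg g (omegaCenterOf X) = omegaCenterOf (cjg g X) := by
  ext x
  rw [mem_cjg, mem_omegaCenterOf, mem_omegaCenterOf, mem_cjg]
  refine and_congr_right fun _ => and_congr ⟨fun h y hy => ?_, fun h y hy => ?_⟩ ⟨fun h => ?_, fun h => ?_⟩
  · have := congrArg (fun z => g * z * g⁻¹) (h _ (mem_cjg.1 hy))
    simpa [mul_assoc] using this
  · have := congrArg (fun z => g⁻¹ * z * g) (h _ (conj_mem_cjg (g := g) hy))
    simpa [mul_assoc] using this
  · have := congrArg (fun z => g * z * g⁻¹) h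
    simpa [mul_assoc] using this
  · have := congrArg (fun z => g⁻¹ * z * g) h
    simpa [mul_assoc] using this

theorem normalizer_le_normalizer_omegaCenterOf (X : Subgroup G) :
    normalizer (X : Set G) ≤ normalizer (omegaCenterOf X : Set G) := fun g hg => by
  rw [← cjg_eq_self, cjg_omegaCenterOf, cjg_eq_self.2 hg]

/-- `Z₀ = Ω₁(Z(J(T)))`. -/
abbrev Z0 (T : Subgroup G) : Subgroup G := omegaCenterOf (Jt T)

theorem Z0_le_maxEA {T A : Subgroup G} (hA : MaxEA T A) : Z0 T ≤ A := fun x hx => by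
  obtain ⟨h1, h2, h3⟩ := mem_omegaCenterOf.1 hx
  exact mem_maxEA_of_centralizes hA (J_le T h1) (fun a ha => h2 a (hA.le_J ha)) h3

theorem mem_Z0 {T : Subgroup G} {x : G} (hx : x ∈ T) (hc : ∀ y ∈ Jt T, y * x = x * y)
    (h2 : x * x = 1) : x ∈ Z0 T := by
  obtain ⟨A, hA⟩ := exists_maxEA T
  exact mem_omegaCenterOf.2
    ⟨hA.le_J (mem_maxEA_of_centralizes hA hx (fun a ha => hc a (hA.le_J ha)) h2), hc, h2⟩

theorem omegaCenterOf_le_Z0 (T : Subgroup G) : omegaCenterOf T ≤ Z0 T := fun x hx => by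
  obtain ⟨h1, h2, h3⟩ := mem_omegaCenterOf.1 hx
  exact mem_Z0 h1 (fun y hy => h2 y (J_le T hy)) h3

/-! ### Sylow subgroups in subgroups -/

theorem isSylowTwoIn_iff {T L : Subgroup G} : IsSylowTwoIn T L ↔ IsSylIn 2 T L := by
  rw [isSylIn_iff, IsSylowTwoIn, ← Nat.not_even_iff_odd, even_iff_two_dvd]

theorem isSylowTwoIn_cjg {T L : Subgroup G} (h : IsSylowTwoIn T L) (g : G) :
    IsSylowTwoIn (cjg g T) (cjg g L) :=
  isSylowTwoIn_iff.2 ((isSylowTwoIn_iff.1 h).conj g)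

theorem exists_sylowTwo_ge {P L : Subgroup G} (hP : IsPGroup 2 ↥P) (h : P ≤ L) :
    ∃ T, IsSylowTwoIn T L ∧ P ≤ T := by
  obtain ⟨T, hT, hle⟩ := exists_isSylIn_ge (p := 2) hP h
  exact ⟨T, isSylowTwoIn_iff.2 hT, hle⟩

theorem sylowTwo_conj {T T' L : Subgroup G} (h : IsSylowTwoIn T L) (h' : IsSylowTwoIn T' L) :
    ∃ g ∈ L, cjg g T = T' :=
  (isSylowTwoIn_iff.1 h).exists_conj (isSylowTwoIn_iff.1 h')

theorem sylowTwo_eq_of_le {T U L : Subgroup G} (h : IsSylowTwoIn T L) (hU : IsPGroup 2 ↥U)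
    (hUL : U ≤ L) (hTU : T ≤ U) : U = T :=
  (isSylowTwoIn_iff.1 h).eq_of_le hU hUL hTU

/-- `J(T)` inside another Sylow subgroup of `L`. -/
theorem J_eq_of_sylow {T T' L : Subgroup G} (hT : IsSylowTwoIn T L) (hT' : IsSylowTwoIn T' L)
    (h : Jt T ≤ T') : Jt T' = Jt T := by
  obtain ⟨g, -, rfl⟩ := sylowTwo_conj hT hT'
  refine (eq_of_le_of_card_ge (J_le_J h (aOrd_cjg g T).le) ?_).symm
  rw [J_cjg, card_cjg]

end Cfsg.Agent.JComp
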