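import Cfsg.Agent.Lib.JComp.Chain

/-!
A component normalised by `T`: the subgroup `P = ⟨K, T⟩`, and pairs of such components.
-/

set_option autoImplicit false
set_option linter.unusedSectionVars false
set_option linter.style.haveILetI false

namespace Cfsg.Agent.JComp

open Subgroup Cfsg Cfsg.Agent.CharP Cfsg.Agent.PLocal.ThompsonSubgroup
open scoped commutatorElement

variable {G : Type*} [Group G] [Finite G]

theorem omega_ne_bot {P : Subgroup G} (hP : IsPGroup 2 ↥P) (hP1 : P ≠ ⊥) :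
    omegaCenterOf P ≠ ⊥ := by
  obtain ⟨z, hz, hzo, hzc⟩ := exists_order_prime_central (p := 2) hP le_rfl le_normalizer hP1
  intro h
  have hmem : z ∈ omegaCenterOf P := by
    refine mem_omegaCenterOf.2 ⟨hz, fun y hy => hzc y hy, ?_⟩
    have := pow_orderOf_eq_one z
    rwa [hzo, pow_two] at this
  rw [h, mem_bot] at hmem
  rw [hmem, orderOf_one] at hzo
  omega

/-- A group fixing an involution of a four-group induces at most a transposition. -/
theorem four_stab_index {W B : Subgroup G} (hcard : Nat.card W = 4) (hexp : ∀ w ∈ W, w * w = 1)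
    (hB : B ≤ normalizer (W : Set G)) {z a : G} (hz : z ∈ W) (hz1 : z ≠ 1)
    (hfix : ∀ b ∈ B, b * z = z * b) (ha : a ∈ B) (haC : a ∉ centralizer (W : Set G)) :
    (B ⊓ centralizer (W : Set G)).relIndex B = 2 := by
  obtain ⟨w, hw, hw1, hwz⟩ := four_exists_other hcard z
  have hconj : ∀ b ∈ B, b * z * b⁻¹ = z := fun b hb => by rw [hfix b hb, mul_inv_cancel_right]
  have key : ∀ b ∈ B, b ∉ centralizer (W : Set G) → b * w * b⁻¹ = z * w := by
    intro b hb hbC
    rcases four_cases hcard hexp hz hw hz1 hw1 hwz.symm (conj_mem_normalizer (hB hb) hw) with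
      h | h | h | h
    · exact absurd (conj_eq_one_iff.1 h) hw1
    · exact absurd (mul_left_cancel (mul_right_cancel (h.trans (hconj b hb).symm))) hwz
    · exact absurd (fun v hv => (four_commutes hcard hexp hz hw hz1 hw1 hwz.symm
        (hfix b hb) (mul_inv_eq_iff_eq_mul.1 h) v hv).symm) hbC
    · exact h
  rw [relIndex, index_eq_two_iff_exists_notMem_and]
  refine ⟨⟨a, ha⟩, fun h => haC (mem_subgroupOf.1 h).2, fun b => ?_⟩
  by_cases hb : (b : G) ∈ centralizer (W : Set G)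
  · exact Or.inr (mem_subgroupOf.2 ⟨b.2, hb⟩)
  refine Or.inl (mem_subgroupOf.2 ⟨mul_mem b.2 ha, ?_⟩)
  intro v hv
  refine (four_commutes hcard hexp hz hw hz1 hw1 hwz.symm (hfix _ (mul_mem b.2 ha)) ?_ v hv).symm
  refine mul_inv_eq_iff_eq_mul.1 ?_
  calc (b : G) * a * w * ((b : G) * a)⁻¹ = b * (a * w * a⁻¹) * (b : G)⁻¹ := by group
    _ = (b * z * (b : G)⁻¹) * (b * w * (b : G)⁻¹) := by rw [key a ha haC]; group
    _ = w := by rw [hconj b b.2, key b b.2 hb, ← mul_assoc, hexp z hz, one_mul]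

theorem mul_equiv_perm_three {Q : Type*} [Group Q] [Finite Q] (hc : Nat.card Q = 6)
    (hne : ∃ a b : Q, a * b ≠ b * a) : Nonempty (Q ≃* Equiv.Perm (Fin 3)) := by
  obtain ⟨a, ha⟩ := exists_prime_orderOf_dvd_card' (G := Q) 2 (hc ▸ by norm_num)
  haveI : Fact (Nat.Prime 3) := ⟨Nat.prime_three⟩
  obtain ⟨x, hx⟩ := exists_prime_orderOf_dvd_card' (G := Q) 3 (hc ▸ by norm_num)
  set H := zpowers a
  have hH : Nat.card H = 2 := by rw [Nat.card_zpowers, ha]
  have hidx : Nat.card (Q ⧸ H) = 3 := by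
    have := H.card_mul_index
    rw [hH, hc] at this
    show H.index = 3
    omega
  have hsup : zpowers x ⊔ H = ⊤ := by
    refine eq_top_of_card_eq _ (le_antisymm (card_le_card_group _) ?_)
    rw [hc]
    have h2 : 2 ∣ Nat.card ↥(zpowers x ⊔ H) := hH ▸ card_dvd_of_le le_sup_right
    have h3 : 3 ∣ Nat.card ↥(zpowers x ⊔ H) := by
      rw [← hx, ← Nat.card_zpowers]; exact card_dvd_of_le le_sup_left
    exact Nat.le_of_dvd Nat.card_pos (Nat.Coprime.mul_dvd_of_dvd_of_dvd (by norm_num) h2 h3)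
  have hcomm : a * x ≠ x * a := by
    intro h
    obtain ⟨u, v, huv⟩ := hne
    have hxc : zpowers x ⊔ H ≤ centralizer ({x, a} : Set Q) := by
      refine sup_le (zpowers_le.2 ?_) (zpowers_le.2 ?_) <;> rw [mem_centralizer_iff] <;>
        rintro g (rfl | rfl) <;> first | rfl | exact h | exact h.symm
    have hc2 : ∀ g : Q, g ∈ centralizer ({x, a} : Set Q) := fun g => hxc (hsup.ge (mem_top g))
    have hxa : zpowers x ⊔ H ≤ centralizer ({v} : Set Q) := by
      refine sup_le (zpowers_le.2 ?_) (zpowers_le.2 ?_) <;> rw [mem_centralizer_singleton_iff]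
      · exact mem_centralizer_iff.1 (hc2 v) x (by simp)
      · exact mem_centralizer_iff.1 (hc2 v) a (by simp)
    exact huv (mem_centralizer_singleton_iff.1 (hxa (hsup.ge (mem_top u))))
  have hcore : H.normalCore = ⊥ := by
    rcases (Nat.dvd_prime Nat.prime_two).1 (hH ▸ card_dvd_of_le H.normalCore_le) with h | h
    · exact card_eq_one.1 h
    exfalso
    have he : H.normalCore = H := eq_of_le_of_card_ge H.normalCore_le (by rw [hH, h])
    have hn : x * a * x⁻¹ ∈ H :=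
      he.le (Normal.conj_mem inferInstance a (he.ge (mem_zpowers a)) x)
    obtain ⟨i, hi⟩ := mem_zpowers_iff.1 hn
    rw [← zpow_mod_orderOf, ha] at hi
    rcases Int.emod_two_eq_zero_or_one i with h' | h' <;> push_cast at hi <;> rw [h'] at hi
    · rw [zpow_zero] at hi
      have := conj_eq_one_iff.1 hi.symm
      rw [this, orderOf_one] at ha
      omega
    · rw [zpow_one] at hi
      exact hcomm (mul_inv_eq_iff_eq_mul.1 hi.symm).symm
  let φ := MulAction.toPermHom Q (Q ⧸ H)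
  have hinj : Function.Injective φ := by
    rw [← MonoidHom.ker_eq_bot_iff, ← normalCore_eq_ker, hcore]
  have hbij : Function.Bijective φ := hinj.bijective_of_nat_card_le (by
    rw [Nat.card_perm, hidx, hc]; decide)
  exact ⟨(MulEquiv.ofBijective φ hbij).trans
    (Equiv.permCongrHom ((Finite.equivFin (Q ⧸ H)).trans (finCongr hidx)))⟩

/-- A component outside `M`, normalised by `T`, in its maximal 2-local subgroup `L`. -/
structure Member (M T K L : Subgroup G) : Prop where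
  comp : IsJComponent T K
  nM : ¬ K ≤ M
  norm : T ≤ normalizer (K : Set G)
  max : IsMaximalTwoLocal L
  le : K ⊔ T ≤ L
  ov : L ∈ jOvergroups T

variable {S : Sylow 2 G} {M T K L : Subgroup G}

theorem Member.core_K (m : Member M T K L) (z : ZN G) (hT : IsPGroup 2 ↥T) (hT1 : T ≠ ⊥) :
    K ⊓ T = Qk K := by
  refine le_antisymm (comp_two_le m.comp (hT.to_le inf_le_right) inf_le_left)
    (le_inf (pCoreOf_le 2 K) ?_)
  obtain ⟨V, X, Ws, E, o⟩ := exists_ovg z hT hT1 m.ov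
  obtain ⟨W, -, -, -, hQ, -⟩ := o.comp_data z hT hT1 m.comp (le_sup_left.trans m.le)
  exact hQ.trans o.Q_le_T

theorem Member.sylow (m : Member M T K L) (z : ZN G) (hT : IsPGroup 2 ↥T) (hT1 : T ≠ ⊥) :
    IsSylowTwoIn T (K ⊔ T) ∧ T.relIndex (K ⊔ T) = 3 := by
  have h := card_sup_mul_inf (A := K) (B := T) m.norm
  rw [m.core_K z hT hT1, comp_card m.comp, ← card_mul_relIndex' (le_sup_right : T ≤ K ⊔ T)] at h
  have h' : Nat.card T * Nat.card (Qk K) * T.relIndex (K ⊔ T) =
      Nat.card T * Nat.card (Qk K) * 3 := by linear_combination h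
  have h3 := Nat.eq_of_mul_eq_mul_left (Nat.mul_pos Nat.card_pos Nat.card_pos) h'
  exact ⟨⟨le_sup_right, hT, by rw [h3]; decide⟩, h3⟩

/-- `T` fixes the involution of `Z₀ ∩ W_K`. -/
theorem Member.fix_z (m : Member M T K L) (hT : IsPGroup 2 ↥T) :
    ∃ z ∈ wOf K, z ≠ 1 ∧ z ∈ Z0 T ∧ z ∈ omegaCenterOf T ∧
      (∀ w ∈ wOf K, w ∈ Z0 T → w = 1 ∨ w = z) ∧ ∀ t ∈ T, t * z = z * t := by
  obtain ⟨z, hzW, hz0, hz1, hun⟩ := comp_exists_z hT m.comp
  have hfix : ∀ t ∈ T, t * z = z * t := fun t ht => mul_inv_eq_iff_eq_mul.1 ((hun _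
    (conj_mem_normalizer (normalizer_le_normalizer_wOf K (m.norm ht)) hzW)
    (conj_mem_normalizer (normalizer_J_le_normalizer_Z0 T (le_normalizer_J T ht)) hz0)
    ).resolve_left fun e => hz1 (conj_eq_one_iff.1 e))
  exact ⟨z, hzW, hz1, hz0, mem_omegaCenterOf.2 ⟨J_le T (omegaCenterOf_le _ hz0),
    hfix, (mem_omegaCenterOf.1 hz0).2.2⟩, hun, hfix⟩

theorem Member.core_index (m : Member M T K L) (z : ZN G) (hT : IsPGroup 2 ↥T) (hT1 : T ≠ ⊥) :
    Qk (K ⊔ T) = T ⊓ centralizer (wOf K : Set G) ∧ (Qk (K ⊔ T)).relIndex (K ⊔ T) = 6 := by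
  obtain ⟨x, hx, hxo⟩ := comp_exists_three m.comp
  set W := wOf K with hW
  set C := T ⊓ centralizer (W : Set G) with hC
  have hPW : K ⊔ T ≤ normalizer (W : Set G) := sup_le
    (le_normalizer.trans (normalizer_le_normalizer_wOf K))
    (m.norm.trans (normalizer_le_normalizer_wOf K))
  have hKn : K ≤ normalizer (centralizer (W : Set G) : Set G) :=
    (le_normalizer.trans (normalizer_le_normalizer_wOf K)).trans
      (normalizer_le_normalizer_centralizer' W)
  have hKC : K ≤ normalizer (C : Set G) := by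
    intro k hk
    refine mem_normalizer_of_cjg_le ?_
    rintro _ ⟨c, ⟨hcT, hcC⟩, rfl⟩
    rw [MulEquiv.coe_toMonoidHom, MulAut.conj_apply]
    have hcC' : k * c * k⁻¹ ∈ centralizer (W : Set G) := conj_mem_normalizer (hKn hk) hcC
    have hk2 : k * c * k⁻¹ * c⁻¹ ∈ K ⊓ centralizer (W : Set G) := by
      refine mem_inf.2 ⟨?_, mul_mem hcC' (inv_mem (show c ∈ centralizer (W : Set G) from hcC))⟩
      rw [show k * c * k⁻¹ * c⁻¹ = k * (c * k⁻¹ * c⁻¹) by group]
      exact mul_mem hk (conj_mem_normalizer (m.norm hcT) (inv_mem hk))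
    have hne : ¬ K ≤ centralizer (W : Set G) := fun h => comp_not_centralizes m.comp hx hxo (h hx)
    have hmem : k * c * k⁻¹ * c⁻¹ ∈ T :=
      ((m.core_K z hT hT1).ge (comp_inf_le_Qk m.comp hKn hne hk2)).2
    refine ⟨?_, hcC'⟩
    have := mul_mem hmem hcT
    rwa [inv_mul_cancel_right] at this
  have hTC : T ≤ normalizer (C : Set G) := (le_inf le_normalizer
    ((le_sup_right.trans hPW).trans (normalizer_le_normalizer_centralizer' W))).trans
      (normalizer_inf_le_normalizer_inf _ _)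
  have hCO : Qk (K ⊔ T) = C := by
    refine le_antisymm (le_inf ?_ ?_) (le_pCoreOf (inf_le_left.trans le_sup_right)
      (sup_le hKC hTC) (hT.to_le inf_le_left))
    · exact pCoreOf_le_of_isSylIn (isSylowTwoIn_iff.1 (m.sylow z hT hT1).1)
    · exact two_group_trivial (comp_wcard m.comp) (comp_wexp m.comp) (isPGroup_pCoreOf 2 _)
        ((pCoreOf_le 2 _).trans hPW) (hPW (mem_sup_left hx))
        (le_normalizer_pCoreOf 2 _ (mem_sup_left hx)) fun w hw h =>
          comp_fixed_W m.comp hx hxo hw h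
  refine ⟨hCO, ?_⟩
  obtain ⟨A, hA, a, ha, haC⟩ := comp_exists_moving m.comp
  obtain ⟨zz, hzW, hz1, -, -, -, hfix⟩ := m.fix_z hT
  have h2 := four_stab_index (comp_wcard m.comp) (comp_wexp m.comp) (le_sup_right.trans hPW) hzW hz1
    hfix (hA.1 ha) haC
  rw [hCO, ← relIndex_mul_relIndex C T (K ⊔ T) inf_le_left le_sup_right, h2,
    (m.sylow z hT hT1).2]

theorem Member.not_comm (m : Member M T K L) (z : ZN G) (hT : IsPGroup 2 ↥T) (hT1 : T ≠ ⊥) :
    ¬ ⁅K ⊔ T, K ⊔ T⁆ ≤ Qk (K ⊔ T) := by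
  intro hle
  obtain ⟨A, hA, a, ha, haC⟩ := comp_exists_moving m.comp
  obtain ⟨x, hx, hxo⟩ := comp_exists_three m.comp
  have hWn := normalizer_le_normalizer_wOf K
  obtain ⟨zz, hzW, hz1, hza, hfix⟩ := comp_transvection m.comp
    (isElementaryAbelian_two_sq hA.2.1 ha) (comp_A_normalizer m.comp hA ha) haC
  have hd := ((m.core_index z hT hT1).1.le (hle (commutator_mem_commutator
    (mem_sup_left hx : x ∈ K ⊔ T) (mem_sup_right (hA.1 ha) : a ∈ K ⊔ T)))).2
  have hu : a * (x * zz * x⁻¹) * a⁻¹ ∈ wOf K := conj_mem_normalizer (comp_A_normalizer m.comp hA ha)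
    (conj_mem_normalizer (hWn (le_normalizer hx)) hzW)
  have h1 : a * (x * zz * x⁻¹) = (x * zz * x⁻¹) * a := by
    apply mul_inv_eq_iff_eq_mul.1
    have e := hd _ hu
    calc a * (x * zz * x⁻¹) * a⁻¹
        = (a * (x * zz * x⁻¹) * a⁻¹) * ⁅x, a⁆ * ⁅x, a⁆⁻¹ := by group
      _ = ⁅x, a⁆ * (a * (x * zz * x⁻¹) * a⁻¹) * ⁅x, a⁆⁻¹ := by rw [e]
      _ = x * (a * zz * a⁻¹) * x⁻¹ := by simp only [commutatorElement_def]; group
      _ = x * zz * x⁻¹ := by rw [hza, mul_inv_cancel_right]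
  rcases hfix _ (conj_mem_normalizer (hWn (le_normalizer hx)) hzW) h1 with h | h
  · exact hz1 (conj_eq_one_iff.1 h)
  · exact hz1 (comp_fixed_W m.comp hx hxo hzW (mul_inv_eq_iff_eq_mul.1 h))

theorem Member.omega_not_central (m : Member M T K L) (hT : IsPGroup 2 ↥T) :
    ⁅omegaCenterOf T, K ⊔ T⁆ ≠ ⊥ := by
  intro h
  obtain ⟨x, hx, hxo⟩ := comp_exists_three m.comp
  obtain ⟨zz, hzW, hz1, -, hzT, -, -⟩ := m.fix_z hT
  have hle := commutator_eq_bot_iff_le_centralizer.1 h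
  have := hle hzT x (mem_sup_left hx)
  exact hz1 (comp_fixed_W m.comp hx hxo hzW this)

theorem Member.cent (m : Member M T K L) (z : ZN G) (hT : IsPGroup 2 ↥T) (hT1 : T ≠ ⊥) :
    centralizer (Qk (K ⊔ T) : Set G) ≤ Qk (K ⊔ T) := by
  have hQT : Qk L ≤ T := pCoreOf_le_of_isSylIn (isSylowTwoIn_iff.1 m.ov.1)
  have hle : Qk L ≤ Qk (K ⊔ T) := le_pCoreOf (hQT.trans le_sup_right)
    (m.le.trans (le_normalizer_pCoreOf 2 L)) (isPGroup_pCoreOf 2 L)
  exact (centralizer_le hle).trans (m.ov.2.2.trans hle)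

theorem Member.unique (m : Member M T K L) (h : Hyp S M) (hT : T ∈ maxStraddlingTwoSubgroups M)
    {L' : Subgroup G} (hL' : IsMaximalTwoLocal L') (hle : K ⊔ T ≤ L') : L' = L :=
  max_unique h hT m.comp m.nM hL' ((sup_le_sup_left (J_le T) K).trans hle) m.max
    ((sup_le_sup_left (J_le T) K).trans m.le)

/-- Two members with different maximal 2-local subgroups. -/
structure TwoComps (M T K1 K2 L1 L2 : Subgroup G) : Prop where
  m1 : Member M T K1 L1
  m2 : Member M T K2 L2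
  ne : L1 ≠ L2

theorem TwoComps.core_bot {K1 K2 L1 L2 : Subgroup G} (p : TwoComps M T K1 K2 L1 L2) (h : Hyp S M)
    (hT : T ∈ maxStraddlingTwoSubgroups M) :
    pCoreOf 2 ((K1 ⊔ T) ⊔ (K2 ⊔ T)) = ⊥ := by
  by_contra hne
  obtain ⟨L0, hL0, hle⟩ := exists_maxTwoLocal
    (isTwoLocal_normalizer (isPGroup_pCoreOf 2 _) hne)
  have hP := (le_normalizer_pCoreOf 2 ((K1 ⊔ T) ⊔ (K2 ⊔ T))).trans hle
  exact p.ne ((p.m1.unique h hT hL0 (le_sup_left.trans hP)).symm.trans
    (p.m2.unique h hT hL0 (le_sup_right.trans hP)))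

theorem Member.conj (m : Member M T K L) (h : Hyp S M) (hT : T ∈ maxStraddlingTwoSubgroups M)
    {n : G} (hn : n ∈ normalizer (T : Set G)) : Member M T (cjg n K) (cjg n L) := by
  have hnM : n ∈ M := normalizer_J_le h hT (normalizer_le_normalizer_J T hn)
  have e : cjg n T = T := cjg_eq_self.2 hn
  refine ⟨comp_congr (congrArg Jt e).symm (comp_cjg m.comp n), fun hle => m.nM ?_, ?_,
    maxLocal_cjg m.max n, ?_, ?_⟩
  · have := cjg_mono (g := n⁻¹) hle
    rwa [cjg_inv_cjg, cjg_eq_self.2 (le_normalizer (inv_mem hnM))] at this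
  · have := cjg_mono (g := n) m.norm
    rw [e] at this
    exact this.trans (map_equiv_normalizer_eq K (MulAut.conj n)).le
  · calc cjg n K ⊔ T = cjg n K ⊔ cjg n T := by rw [e]
      _ = cjg n (K ⊔ T) := (Subgroup.map_sup _ _ _).symm
      _ ≤ cjg n L := cjg_mono m.le
  · obtain ⟨hs, hJ, -⟩ := m.ov
    have hs' := isSylowTwoIn_cjg hs n
    rw [e] at hs'
    refine h.zn.mem_jOvergroups (maxLocal_cjg m.max n).1 hs' fun hle => hJ ?_
    rw [Qk_cjg] at hle
    have := cjg_mono (g := n⁻¹) hle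
    rwa [cjg_inv_cjg, cjg_eq_self.2 (normalizer_le_normalizer_J T (inv_mem hn))] at this

theorem Member.twoComps (m : Member M T K L) (h : Hyp S M) (hT : T ∈ maxStraddlingTwoSubgroups M)
    {n : G} (hn : n ∈ normalizer (T : Set G)) (hnL : n ∉ L) :
    TwoComps M T K (cjg n K) L (cjg n L) :=
  ⟨m, m.conj h hT hn, fun e => hnL (maxLocal_normalizer m.max (cjg_eq_self.1 e.symm))⟩

/-- An element of `N_S(T)` outside the overgroups with Sylow subgroup `T`. -/
theorem exists_outer_of_ne (hTS : T ≤ (S : Subgroup G)) (hne : T ≠ (S : Subgroup G))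
    {L : Subgroup G} (hL : IsSylowTwoIn T L) :
    ∃ n ∈ (S : Subgroup G), n ∉ T ∧ n ∈ normalizer (T : Set G) ∧ n ∉ L := by
  obtain ⟨n, hnS, hnT, hnN⟩ := exists_normalizes_not_mem S.isPGroup' hTS hne
  refine ⟨n, hnS, hnT, hnN, fun hnL => hnT ?_⟩
  have := sylowTwo_eq_of_le hL (S.isPGroup'.to_le (sup_le hTS (zpowers_le.2 hnS)))
    (sup_le hL.1 (zpowers_le.2 hnL)) le_sup_left
  exact this.le (mem_sup_right (mem_zpowers n))

end Cfsg.Agent.JComp
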