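import Cfsg.Agent.Lib.JComp.Thompson
import Cfsg.Agent.Lib.CharP.Basic
import Cfsg.Agent.Lib.CharP.CharP

/-!
Generic lemmas for the J-component chain: products of subgroups, four-groups, odd parts.
-/

set_option autoImplicit false
set_option linter.unusedSectionVars false
set_option linter.style.haveILetI false

namespace Cfsg.Agent.JComp

open Subgroup Cfsg Cfsg.Agent.CharP
open scoped commutatorElement

variable {G : Type*} [Group G]

theorem conj_mem_normalizer {H : Subgroup G} {g x : G} (hg : g ∈ normalizer (H : Set G))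
    (hx : x ∈ H) : g * x * g⁻¹ ∈ H :=
  (mem_normalizer_iff.1 hg x).1 hx

theorem normalizer_inf_le_normalizer_commutator (A B : Subgroup G) :
    normalizer (A : Set G) ⊓ normalizer (B : Set G) ≤ normalizer ((⁅A, B⁆ : Subgroup G) : Set G) := by
  intro g hg
  rw [← cjg_eq_self, cjg, map_commutator, conj_map_of_mem hg.1, conj_map_of_mem hg.2]

theorem normalizer_inf_le_normalizer_inf (A B : Subgroup G) :
    normalizer (A : Set G) ⊓ normalizer (B : Set G) ≤ normalizer ((A ⊓ B : Subgroup G) : Set G) := by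
  intro g hg
  rw [← cjg_eq_self, cjg, map_inf _ _ _ (MulAut.conj g).injective, conj_map_of_mem hg.1,
    conj_map_of_mem hg.2]

theorem normalizer_inf_le_normalizer_sup (A B : Subgroup G) :
    normalizer (A : Set G) ⊓ normalizer (B : Set G) ≤ normalizer ((A ⊔ B : Subgroup G) : Set G) := by
  intro g hg
  rw [← cjg_eq_self, cjg, Subgroup.map_sup, conj_map_of_mem hg.1, conj_map_of_mem hg.2]

theorem normalizer_le_normalizer_centralizer' (A : Subgroup G) :
    normalizer (A : Set G) ≤ normalizer (centralizer (A : Set G) : Set G) := fun g hg => by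
  rw [← cjg_eq_self, cjg_centralizer, cjg_eq_self.2 hg]

theorem normalizer_le_normalizer_pCoreOf (p : ℕ) (A : Subgroup G) :
    normalizer (A : Set G) ≤ normalizer (pCoreOf p A : Set G) := fun g hg => by
  rw [← cjg_eq_self, cjg, ← pCoreOf_conj, conj_map_of_mem hg]

theorem le_normalizer_of_commute {A B : Subgroup G} (h : ∀ a ∈ A, ∀ b ∈ B, a * b = b * a) :
    B ≤ normalizer (A : Set G) := by
  intro b hb
  rw [mem_normalizer_iff]
  intro a
  constructor
  · intro ha
    rwa [← h a ha b hb, mul_inv_cancel_right]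
  · intro ha
    have e := h _ ha b⁻¹ (inv_mem hb)
    have : a = b * a * b⁻¹ := by
      have e' : b * a * b⁻¹ * b⁻¹ = a * b⁻¹ := by
        rw [e]; group
      calc a = a * b⁻¹ * b := by group
        _ = b * a * b⁻¹ * b⁻¹ * b := by rw [e']
        _ = b * a * b⁻¹ := by group
    rw [this]; exact ha

variable [Finite G]

theorem card_sup_mul_inf {A B : Subgroup G} (h : B ≤ normalizer (A : Set G)) :
    Nat.card ↥(A ⊔ B) * Nat.card ↥(A ⊓ B) = Nat.card A * Nat.card B := by
  set H := A ⊔ B
  haveI : (A.subgroupOf H).Normal :=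
    normal_subgroupOf_of_le_normalizer (sup_le le_normalizer h)
  have htop : B.subgroupOf H ⊔ A.subgroupOf H = ⊤ := by
    rw [← subgroupOf_sup le_sup_right le_sup_left, sup_comm B A, subgroupOf_self]
  have h1 : A.relIndex H = A.relIndex B := by
    rw [← relIndex_subgroupOf (H := A) (le_refl H), subgroupOf_self, ← htop,
      relIndex_sup_right, relIndex_subgroupOf (le_sup_right : B ≤ H)]
  have h2 : Nat.card A * A.relIndex H = Nat.card H := by
    rw [← relIndex_bot_left, ← relIndex_bot_left, relIndex_mul_relIndex ⊥ _ _ bot_le le_sup_left]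
  have h3 : Nat.card ↥(A ⊓ B) * A.relIndex B = Nat.card B := by
    rw [← inf_relIndex_right A B, ← relIndex_bot_left, ← relIndex_bot_left,
      relIndex_mul_relIndex ⊥ _ _ bot_le inf_le_right]
  rw [← h2, ← h3, h1]
  ring

theorem card_mul_relIndex' {A B : Subgroup G} (h : A ≤ B) :
    Nat.card A * A.relIndex B = Nat.card B := by
  rw [← relIndex_bot_left, ← relIndex_bot_left, relIndex_mul_relIndex ⊥ _ _ bot_le h]

theorem exists_mul_of_le_normalizer {A B : Subgroup G} (h : B ≤ normalizer (A : Set G)) {g : G}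
    (hg : g ∈ A ⊔ B) : ∃ a ∈ A, ∃ b ∈ B, g = a * b :=
  exists_mul_of_card_eq (card_sup_mul_inf h).le hg

/-- An element of odd order in a group with a 2-power index normal subgroup lies in it. -/
theorem odd_mem_of_two_index {K Y : Subgroup G} (hn : Y ≤ normalizer (K : Set G)) {n : ℕ}
    (hidx : K.relIndex Y ∣ 2 ^ n) {y : G} (hy : y ∈ Y) (ho : Odd (orderOf y)) : y ∈ K := by
  haveI : (K.subgroupOf Y).Normal := normal_subgroupOf_of_le_normalizer hn
  have h := pow_index_mem (K.subgroupOf Y) (⟨y, hy⟩ : Y)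
  rw [mem_subgroupOf, show (((⟨y, hy⟩ : Y) ^ (K.subgroupOf Y).index : Y) : G) =
    y ^ K.relIndex Y from rfl] at h
  obtain ⟨m, hm⟩ := exists_pow_eq_self_of_coprime (x := y) (n := K.relIndex Y)
    (Nat.Coprime.coprime_dvd_left hidx (Nat.Coprime.pow_left n (Nat.coprime_two_left.2 ho)))
  rw [← hm]
  exact pow_mem h m

theorem isElementaryAbelian_two_comm {A : Subgroup G} (h : IsElementaryAbelian 2 A) {a b : G}
    (ha : a ∈ A) (hb : b ∈ A) : a * b = b * a :=
  (PLocal.ThompsonSubgroup.isElementaryAbelian_iff.1 h).1 a ha b hb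

theorem isElementaryAbelian_two_sq {A : Subgroup G} (h : IsElementaryAbelian 2 A) {a : G}
    (ha : a ∈ A) : a * a = 1 := by
  rw [← pow_two]
  exact (PLocal.ThompsonSubgroup.isElementaryAbelian_iff.1 h).2 a ha

omit [Finite G] in
theorem isElementaryAbelian_two_of {A : Subgroup G} (h : ∀ a ∈ A, a * a = 1) :
    IsElementaryAbelian 2 A := by
  refine PLocal.ThompsonSubgroup.isElementaryAbelian_iff.2
    ⟨fun a ha b hb => ?_, fun a ha => by rw [pow_two]; exact h a ha⟩
  have hi : ∀ c ∈ A, c⁻¹ = c := fun c hc => inv_eq_of_mul_eq_one_right (h c hc)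
  rw [← hi _ (mul_mem ha hb), mul_inv_rev, hi a ha, hi b hb]

/-- A Sylow subgroup meets a normal subgroup in a Sylow subgroup. -/
theorem sylowTwo_inf_normal {T L N : Subgroup G} (hT : IsSylowTwoIn T L) (hNL : N ≤ L)
    (hn : L ≤ normalizer (N : Set G)) : IsSylowTwoIn (T ⊓ N) N := by
  refine ⟨inf_le_right, hT.2.1.to_le inf_le_left, ?_⟩
  have e1 := card_sup_mul_inf (A := N) (B := T) (hT.1.trans hn)
  rw [inf_comm, ← card_mul_relIndex' (le_sup_right : T ≤ N ⊔ T),
    ← card_mul_relIndex' (inf_le_right : T ⊓ N ≤ N)] at e1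
  have e2 : T.relIndex (N ⊔ T) = (T ⊓ N).relIndex N :=
    Nat.eq_of_mul_eq_mul_left (Nat.mul_pos (Nat.card_pos (α := T))
      (Nat.card_pos (α := ↥(T ⊓ N)))) (by linear_combination e1)
  have e3 : T.relIndex (N ⊔ T) ∣ T.relIndex L := ⟨(N ⊔ T).relIndex L,
    (relIndex_mul_relIndex T (N ⊔ T) L le_sup_right (sup_le hNL hT.1)).symm⟩
  rw [← e2]
  exact hT.2.2.of_dvd_nat e3

/-! ### Four-groups -/

theorem four_cases {W : Subgroup G} (hcard : Nat.card W = 4) (hexp : ∀ w ∈ W, w * w = 1)
    {a b : G} (ha : a ∈ W) (hb : b ∈ W) (ha1 : a ≠ 1) (hb1 : b ≠ 1) (hab : a ≠ b) {w : G}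
    (hw : w ∈ W) : w = 1 ∨ w = a ∨ w = b ∨ w = a * b := by
  classical
  have hne1 : a * b ≠ 1 := fun e => hab (by
    calc a = a * (b * b) := by rw [hexp b hb, mul_one]
      _ = b := by rw [← mul_assoc, e, one_mul])
  have hne2 : a * b ≠ a := fun e => hb1 (by simpa using e)
  have hne3 : a * b ≠ b := fun e => ha1 (by simpa using e)
  have hs : ({1, a, b, a * b} : Finset G) ⊆ (W : Set G).toFinite.toFinset := by
    intro x hx
    simp only [Finset.mem_insert, Finset.mem_singleton] at hx
    rw [Set.Finite.mem_toFinset]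
    rcases hx with rfl | rfl | rfl | rfl
    exacts [one_mem _, ha, hb, mul_mem ha hb]
  have hc : ({1, a, b, a * b} : Finset G).card = 4 := by
    rw [Finset.card_insert_of_notMem (by simp [ha1.symm, hb1.symm, hne1.symm]),
      Finset.card_insert_of_notMem (by simp [hab, hne2.symm]),
      Finset.card_insert_of_notMem (by simp [hne3.symm]), Finset.card_singleton]
  have heq := Finset.eq_of_subset_of_card_le hs (by
    rw [hc, ← Set.ncard_eq_toFinset_card _ _, ← Nat.card_coe_set_eq]
    exact hcard.le)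
  have : w ∈ ({1, a, b, a * b} : Finset G) := by
    rw [heq, Set.Finite.mem_toFinset]; exact hw
  simpa [Finset.mem_insert, Finset.mem_singleton] using this

theorem four_commutes {W : Subgroup G} (hcard : Nat.card W = 4) (hexp : ∀ w ∈ W, w * w = 1)
    {a b : G} (ha : a ∈ W) (hb : b ∈ W) (ha1 : a ≠ 1) (hb1 : b ≠ 1) (hab : a ≠ b) {g : G}
    (hga : g * a = a * g) (hgb : g * b = b * g) : ∀ w ∈ W, g * w = w * g := by
  intro w hw
  rcases four_cases hcard hexp ha hb ha1 hb1 hab hw with rfl | rfl | rfl | rfl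
  · simp
  · exact hga
  · exact hgb
  · rw [← mul_assoc, hga, mul_assoc, hgb, mul_assoc]

/-- A subgroup of a four-group with only one possible nontrivial element has order at most two. -/
theorem card_le_two_of_forall {H : Subgroup G} {z : G} (h : ∀ w ∈ H, w = 1 ∨ w = z) :
    Nat.card H ≤ 2 := by
  classical
  have hs : (H : Set G) ⊆ {1, z} := fun w hw => by simpa using h w hw
  calc Nat.card H = (H : Set G).ncard := Nat.card_coe_set_eq _
    _ ≤ ({1, z} : Set G).ncard := Set.ncard_le_ncard hs (Set.toFinite _)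
    _ ≤ 2 := (Set.ncard_insert_le _ _).trans (by rw [Set.ncard_singleton])

end Cfsg.Agent.JComp
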