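import Cfsg.Agent.Lib.JComp.Centre
import Cfsg.Agent.S2858

/-!
The amalgam theorem supplied to the component library.
-/

set_option autoImplicit false

namespace Cfsg.Agent.JComp

theorem amal {G : Type*} [Group G] (H : Subgroup G) : Amal ↥H := fun P₁ P₂ _ _ =>
  S2858.result P₁ P₂

end Cfsg.Agent.JComp
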