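import Cfsg.Agent.Lib.JComp.Basic
import Cfsg.Agent.Lib.PLocal.Offender.Section
import Cfsg.Agent.Lib.PLocal.Offender.Operator
import Cfsg.Agent.Lib.PLocal.SolvableSeparable
import Cfsg.Agent.S0606

/-!
The transvection blocks of a solvable group on a module: the offender theorem read inside the
ambient group.
-/

set_option autoImplicit false
set_option linter.unusedSectionVars false
set_option linter.style.haveILetI false

namespace Cfsg.Agent.JComp

open Subgroup Cfsg Cfsg.Agent.CharP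
open Cfsg.Agent.PLocal.Offender (Sec.img Sec.base Point factorGroup factor)
open scoped commutatorElement MatrixGroups

/-- The blocks of `L` on `V`, with kernel `X`: four-groups `W ≤ V` with groups `E W` inducing
`S₃` on `W`, through which the elementary abelian subgroups of `T` of largest order act. -/
structure Blocks {G : Type*} [Group G] (T L V X : Subgroup G) (Ws : Set (Subgroup G))
    (E : Subgroup G → Subgroup G) : Prop where
  le_V : ∀ W ∈ Ws, W ≤ V
  card_W : ∀ W ∈ Ws, Nat.card W = 4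
  X_le : ∀ W ∈ Ws, X ≤ E W
  E_le : ∀ W ∈ Ws, E W ≤ L
  index : ∀ W ∈ Ws, X.relIndex (E W) = 6
  norm : ∀ W ∈ Ws, E W ≤ normalizer (W : Set G)
  faithful : ∀ W ∈ Ws, E W ⊓ centralizer (W : Set G) ≤ X
  disj : ∀ W ∈ Ws, W ⊓ centralizer (E W : Set G) = ⊥
  split : ∀ W ∈ Ws, W ⊔ V ⊓ centralizer (E W : Set G) = V
  sep : ∀ W ∈ Ws, ∀ W' ∈ Ws, W ≠ W' → W ⊓ W' = ⊥ ∧ E W' ≤ centralizer (W : Set G) ∧
    ⁅E W, E W'⁆ ≤ X
  conj : ∀ W ∈ Ws, ∀ g ∈ L, cjg g W ∈ Ws ∧ cjg g (E W) = E (cjg g W)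
  gen : ∀ A, MaxEA T A → A ≤ X ⊔ closure {a | a ∈ A ∧ ∃ W ∈ Ws, a ∈ E W ∧ a ∉ X}

theorem card_SL_two : Nat.card SL(2, ZMod 2) = 6 := by
  rw [Nat.card_eq_fintype_card]
  decide

variable {G : Type*} [Group G] [Finite G]

/-- A largest elementary abelian subgroup of a Sylow subgroup is one of the whole group. -/
theorem MaxEA.mem_max_of_sylow {T L A : Subgroup G} (hT : IsSylowTwoIn T L) (hA : MaxEA T A) :
    A.subgroupOf L ∈ maxElementaryAbelianSubgroups 2 ↥L := by
  refine ⟨PLocal.ThompsonSubgroup.IsElementaryAbelian.comap hA.2.1 L.subtype_injective,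
    fun B hB => ?_⟩
  rw [Nat.card_congr (subgroupOfEquivOfLe (hA.1.trans hT.1)).toEquiv,
    ← card_map_of_injective (K := B) L.subtype_injective]
  have hBe := PLocal.ThompsonSubgroup.IsElementaryAbelian.map hB L.subtype
  obtain ⟨T', hT', hle⟩ := exists_sylowTwo_ge (L := L)
    (PLocal.ThompsonSubgroup.IsElementaryAbelian.isPGroup hBe) (map_subtype_le B)
  obtain ⟨g, -, rfl⟩ := sylowTwo_conj hT hT'
  rw [hA.card, ← aOrd_cjg g T]
  exact card_le_aOrd hle hBe

theorem exists_blocks {T L V X : Subgroup G} (hT : IsSylowTwoIn T L) (hsol : Group.IsSolvable ↥L)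
    (hVL : V ≤ L) (hVn : L ≤ normalizer (V : Set G)) (hVe : IsElementaryAbelian 2 V)
    (hX : X = L ⊓ centralizer (V : Set G))
    (hO : ∀ N : Subgroup G, X ≤ N → N ≤ L → L ≤ normalizer (N : Set G) →
      (∃ k, X.relIndex N = 2 ^ k) → N ≤ X) :
    ∃ Ws E, Blocks T L V X Ws E := by
  haveI := hsol
  haveI hnV : (V.subgroupOf L).Normal := normal_subgroupOf_of_le_normalizer hVn
  set Vs : Subgroup ↥L := V.subgroupOf L
  have hVse : IsElementaryAbelian 2 Vs :=
    PLocal.ThompsonSubgroup.IsElementaryAbelian.comap hVe L.subtype_injective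
  set f : ↥L →* PLocal.Offender.Sec.Amb Vs := Sec.img Vs with hf
  set C : Subgroup ↥L := centralizer (Vs : Set ↥L) with hCdef
  have hC : C = X.subgroupOf L := by
    ext g
    rw [mem_subgroupOf, hX, mem_inf, and_iff_right g.2, mem_centralizer_iff, mem_centralizer_iff]
    exact ⟨fun h v hv => congrArg Subtype.val (h ⟨v, hVL hv⟩ (mem_subgroupOf.2 hv)),
      fun h v hv => Subtype.ext (h v (mem_subgroupOf.1 hv))⟩
  have hker : f.ker = C := PLocal.Offender.Sec.ker_img Vs
  have hXL : X ≤ L := hX.le.trans inf_le_left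
  have hpc : pCore 2 (↥L ⧸ C) = ⊥ := by
    set N0 := (pCore 2 (↥L ⧸ C)).comap (QuotientGroup.mk' C) with hN0
    haveI : N0.Normal := Normal.comap inferInstance _
    have hCN : C ≤ N0 := (QuotientGroup.ker_mk' C).ge.trans (MonoidHom.ker_le_comap _ _)
    obtain ⟨k, hk⟩ := IsPGroup.iff_card.1 (isPGroup_pCore 2 (↥L ⧸ C))
    have hidx : C.relIndex N0 = 2 ^ k := by
      have h := relIndex_ker (QuotientGroup.mk' C) (K := N0)
      rw [QuotientGroup.ker_mk', hN0,
        map_comap_eq_self_of_surjective (QuotientGroup.mk'_surjective C), hk] at h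
      exact h
    have hsub : (N0.map L.subtype).subgroupOf L = N0 :=
      comap_map_eq_self_of_injective L.subtype_injective N0
    have hle : N0.map L.subtype ≤ X := by
      refine hO _ (fun x hx => ⟨⟨x, hXL hx⟩, hCN (hC.ge (mem_subgroupOf.2 hx)), rfl⟩)
        (map_subtype_le _) ?_ ⟨k, ?_⟩
      · rw [← normal_subgroupOf_iff_le_normalizer (map_subtype_le _), hsub]
        infer_instance
      · rw [← hidx, hC, ← relIndex_subgroupOf (H := X) (map_subtype_le N0), hsub]
    rw [eq_bot_iff]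
    intro y hy
    obtain ⟨g, rfl⟩ := QuotientGroup.mk'_surjective C y
    exact mem_bot.2 ((QuotientGroup.eq_one_iff g).2
      (hC.ge (mem_subgroupOf.2 (hle ⟨g, hy, rfl⟩))))
  have s := PLocal.Offender.Sec.setup (p := 2) Vs hVse (J := (⊤ : Subgroup ↥L))
    (PLocal.SolvableSeparable.isPSolvable_of_isSolvable 2 ↥L) hpc
  set H := (⊤ : Subgroup ↥L).map f with hH
  set F := (pPrimeCore 2 ↥H).map H.subtype
  set B0 := Sec.base Vs
  have hrange : ∀ g : ↥L, f g ∈ H := fun g => ⟨g, mem_top g, rfl⟩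
  -- the module and the group of a point
  let Wamb : Subgroup (PLocal.Offender.Sec.Amb Vs) → Subgroup (PLocal.Offender.Sec.Amb Vs) :=
    fun P => ⁅B0, factorGroup F P⁆
  let El : Subgroup (PLocal.Offender.Sec.Amb Vs) → Subgroup G :=
    fun P => ((factorGroup F P).comap f).map L.subtype
  let Wl : Subgroup (PLocal.Offender.Sec.Amb Vs) → Subgroup G :=
    fun P => ((Wamb P).comap SemidirectProduct.inl).map ((L.subtype).comp Vs.subtype)
  let ι : ↥Vs →* G := (L.subtype).comp Vs.subtype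
  have hι : Function.Injective ι := L.subtype_injective.comp Vs.subtype_injective
  have hWB : ∀ {P}, Point 2 B0 H P → Wamb P ≤ B0 := fun {P} hP =>
    le_normalizer_iff_commutator_le_left.1 ((PLocal.Offender.factorGroup_le s hP).trans s.norm)
  have hfGr : ∀ {P}, Point 2 B0 H P → factorGroup F P ≤ f.range := fun {P} hP =>
    (PLocal.Offender.factorGroup_le s hP).trans (map_le_range f _)
  -- commuting in `G` and in the semidirect product
  have hcomm : ∀ (g : ↥L) (v : ↥Vs), f g * SemidirectProduct.inl v = SemidirectProduct.inl v * f g ↔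
      (g : G) * ι v = ι v * g := fun g v => by
    rw [hf, PLocal.Offender.Sec.commute_inl_iff, Subtype.ext_iff]
    rfl
  have hcard : ∀ {P}, Point 2 B0 H P → Nat.card (Wl P) = 4 := fun {P} hP => by
    show Nat.card ↥((((Wamb P).comap SemidirectProduct.inl)).map ι) = 4
    rw [card_map_of_injective hι,
      ← card_map_of_injective (K := (Wamb P).comap SemidirectProduct.inl)
        (SemidirectProduct.inl_injective (φ := MonoidHom.id (MulAut ↥Vs))),
      map_comap_eq_self (hWB hP)]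
    exact (factor s hP).card
  have hWinj : ∀ {P P'}, Point 2 B0 H P → Point 2 B0 H P' → Wl P = Wl P' → Wamb P = Wamb P' := by
    intro P P' hP hP' h
    have h2 := map_injective hι h
    rw [← map_comap_eq_self (hWB hP), ← map_comap_eq_self (hWB hP')]
    exact congrArg (Subgroup.map SemidirectProduct.inl) h2
  have hXEl : ∀ {P}, Point 2 B0 H P → X ≤ El P := fun {P} hP x hx =>
    ⟨⟨x, hXL hx⟩, by
      show f ⟨x, hXL hx⟩ ∈ factorGroup F P
      rw [MonoidHom.mem_ker.1 (hker.ge (hC.ge (mem_subgroupOf.2 hx)))]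
      exact one_mem _, rfl⟩
  have hidx : ∀ {P}, Point 2 B0 H P → X.relIndex (El P) = 6 := fun {P} hP => by
    obtain ⟨e⟩ := (factor s hP).iso
    rw [← relIndex_subgroupOf (H := X) (map_subtype_le ((factorGroup F P).comap f)),
      show (((factorGroup F P).comap f).map L.subtype).subgroupOf L = (factorGroup F P).comap f from
        comap_map_eq_self_of_injective L.subtype_injective _,
      ← hC, ← hker, relIndex_ker, map_comap_eq_self (hfGr hP), factorGroup,
      Nat.card_congr e.toEquiv, card_SL_two]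
  -- membership
  have hWmem : ∀ {P w}, w ∈ Wl P → ∃ v : ↥Vs, ι v = w ∧ SemidirectProduct.inl v ∈ Wamb P := by
    rintro P _ ⟨v, hv, rfl⟩
    exact ⟨v, rfl, hv⟩
  have hWmk : ∀ {P} (v : ↥Vs), SemidirectProduct.inl v ∈ Wamb P → ι v ∈ Wl P :=
    fun v hv => ⟨v, hv, rfl⟩
  have hconjι : ∀ (g : ↥L) (v : ↥Vs), ι (MulAut.conjNormal g v) = (g : G) * ι v * (g : G)⁻¹ := by
    intro g v
    show ((MulAut.conjNormal g v : ↥L) : G) = _
    rw [MulAut.conjNormal_apply]
    rfl
  have hcW : ∀ {P} (g : ↥L), Point 2 B0 H P →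
      Point 2 B0 H (P.map (MulAut.conj (f g)).toMonoidHom) ∧
      cjg (g : G) (Wl P) = Wl (P.map (MulAut.conj (f g)).toMonoidHom) ∧
      cjg (g : G) (El P) = El (P.map (MulAut.conj (f g)).toMonoidHom) := by
    intro P g hP
    set P' := P.map (MulAut.conj (f g)).toMonoidHom with hP'def
    have hP' : Point 2 B0 H P' := PLocal.Offender.conj_point s hP (hrange g)
    have hmod : (Wamb P).map (MulAut.conj (f g)).toMonoidHom = Wamb P' :=
      PLocal.Offender.map_module (s.norm (hrange g)) (s.core_norm (hrange g)) P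
    have hfg : (factorGroup F P).map (MulAut.conj (f g)).toMonoidHom = factorGroup F P' :=
      PLocal.Offender.map_factorGroup (s.core_norm (hrange g)) P
    refine ⟨hP', eq_of_le_of_card_ge ?_ (by rw [card_cjg, hcard hP, hcard hP']), ?_⟩
    · rintro _ ⟨w, hw, rfl⟩
      obtain ⟨v, rfl, hv⟩ := hWmem hw
      rw [MulEquiv.coe_toMonoidHom, MulAut.conj_apply, ← hconjι]
      refine hWmk _ ?_
      rw [← PLocal.Offender.Sec.conj_inl, ← hmod]
      exact ⟨_, hv, rfl⟩
    · refine eq_of_le_of_card_ge ?_ ?_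
      · rintro _ ⟨_, ⟨e, he, rfl⟩, rfl⟩
        refine ⟨g * e * g⁻¹, ?_, rfl⟩
        show f (g * e * g⁻¹) ∈ factorGroup F P'
        rw [← hfg, map_mul, map_mul, map_inv]
        exact ⟨_, he, rfl⟩
      · rw [card_cjg, ← card_mul_relIndex' (hXEl hP), ← card_mul_relIndex' (hXEl hP'), hidx hP,
          hidx hP']
  have hnormW : ∀ {P}, Point 2 B0 H P → El P ≤ normalizer (Wl P : Set G) := by
    rintro P hP _ ⟨e, he, rfl⟩
    refine mem_normalizer_of_cjg_le ?_
    rintro _ ⟨w, hw, rfl⟩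
    obtain ⟨v, rfl, hv⟩ := hWmem hw
    rw [MulEquiv.coe_toMonoidHom, MulAut.conj_apply, coe_subtype, ← hconjι]
    refine hWmk _ ?_
    rw [← PLocal.Offender.Sec.conj_inl]
    exact conj_mem_normalizer (normalizer_commutator_ge_right B0 (factorGroup F P) he) hv
  have hEmem : ∀ {P} {v : ↥Vs}, Point 2 B0 H P →
      (SemidirectProduct.inl v ∈ centralizer (factorGroup F P : Set (PLocal.Offender.Sec.Amb Vs))
        ↔ ι v ∈ centralizer (El P : Set G)) := by
    intro P v hP
    constructor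
    · rintro h _ ⟨e, he, rfl⟩
      exact (hcomm e v).1 (h _ he)
    · intro h y hy
      obtain ⟨e, rfl⟩ := hfGr hP hy
      exact (hcomm e v).2 (h _ ⟨e, hy, rfl⟩)
  let Ws : Set (Subgroup G) := {W | ∃ P, Point 2 B0 H P ∧ Wl P = W}
  let E : Subgroup G → Subgroup G :=
    fun W => ⨆ P : {P // Point 2 B0 H P ∧ Wl P = W}, El P.1
  have hE : ∀ {P}, Point 2 B0 H P → E (Wl P) = El P := by
    intro P hP
    refine le_antisymm (iSup_le fun Q => ?_) (le_iSup_of_le ⟨P, hP, rfl⟩ le_rfl)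
    have := PLocal.Offender.factor_eq_of_eq s hP Q.2.1 (hWinj hP Q.2.1 Q.2.2.symm)
    show ((factorGroup F Q.1).comap f).map L.subtype ≤ _
    rw [this]
  refine ⟨Ws, E, ?_⟩
  constructor
  case le_V =>
    rintro W ⟨P, hP, rfl⟩ w hw
    obtain ⟨v, rfl, -⟩ := hWmem hw
    exact mem_subgroupOf.1 v.2
  case card_W => rintro W ⟨P, hP, rfl⟩; exact hcard hP
  case X_le => rintro W ⟨P, hP, rfl⟩; rw [hE hP]; exact hXEl hP
  case E_le => rintro W ⟨P, hP, rfl⟩; rw [hE hP]; exact map_subtype_le _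
  case index => rintro W ⟨P, hP, rfl⟩; rw [hE hP]; exact hidx hP
  case norm => rintro W ⟨P, hP, rfl⟩; rw [hE hP]; exact hnormW hP
  case faithful =>
    rintro W ⟨P, hP, rfl⟩ x ⟨hx, hxc⟩
    rw [hE hP] at hx
    obtain ⟨e, he, rfl⟩ := hx
    have hmem : f e ∈ factorGroup F P ⊓ centralizer (Wamb P : Set (PLocal.Offender.Sec.Amb Vs)) := by
      refine ⟨he, fun w hw => ?_⟩
      obtain ⟨v, rfl⟩ := hWB hP hw
      exact ((hcomm e v).2 (hxc _ (hWmk v hw)).symm).symm
    have h1 : f e = 1 := mem_bot.1 ((factor s hP).faithful.le hmem)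
    exact mem_subgroupOf.1 (hC.le (hker.le h1))
  case disj =>
    rintro W ⟨P, hP, rfl⟩
    rw [hE hP]
    refine (eq_bot_iff_forall _).2 fun w ⟨hw, hwc⟩ => ?_
    obtain ⟨v, rfl, hv⟩ := hWmem hw
    have h1 : SemidirectProduct.inl v = (1 : PLocal.Offender.Sec.Amb Vs) := mem_bot.1
      ((factor s hP).disj.le ⟨hv, hWB hP hv, (hEmem hP).2 hwc⟩)
    rw [SemidirectProduct.inl_injective (h1.trans (map_one _).symm), map_one]
  case split =>
    rintro W ⟨P, hP, rfl⟩
    rw [hE hP]
    refine le_antisymm (sup_le ?_ inf_le_left) fun v hv => ?_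
    · intro w hw
      obtain ⟨v, rfl, -⟩ := hWmem hw
      exact mem_subgroupOf.1 v.2
    set v' : ↥Vs := ⟨⟨v, hVL hv⟩, mem_subgroupOf.2 hv⟩
    have hs : SemidirectProduct.inl v' ∈ Wamb P ⊔
        B0 ⊓ centralizer (factorGroup F P : Set (PLocal.Offender.Sec.Amb Vs)) :=
      (factor s hP).split.ge ⟨v', rfl⟩
    have hB0c : ∀ a ∈ B0, ∀ b ∈ B0, a * b = b * a :=
      (PLocal.ThompsonSubgroup.isElementaryAbelian_iff.1 s.elem).1
    obtain ⟨w, hw, c, hc, hwc⟩ := exists_mul_of_le_normalizer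
      (le_normalizer_of_commute (A := Wamb P)
        (B := B0 ⊓ centralizer (factorGroup F P : Set (PLocal.Offender.Sec.Amb Vs)))
        fun a ha b hb => hB0c a (hWB hP ha) b hb.1) hs
    obtain ⟨w', rfl⟩ := hWB hP hw
    obtain ⟨c', rfl⟩ := hc.1
    rw [← map_mul] at hwc
    have h2 : v' = w' * c' := SemidirectProduct.inl_injective hwc
    have h3 : v = ι w' * ι c' := by rw [← map_mul, ← h2]; rfl
    rw [h3]
    exact mul_mem (mem_sup_left (hWmk w' hw))
      (mem_sup_right ⟨mem_subgroupOf.1 c'.2, (hEmem hP).1 hc.2⟩)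
  case sep =>
    rintro W ⟨P, hP, rfl⟩ W' ⟨P', hP', rfl⟩ hne
    have hne' : Wamb P ≠ Wamb P' := fun h => hne (by
      show ((Wamb P).comap _).map _ = ((Wamb P').comap _).map _
      rw [h])
    obtain ⟨h1, h2⟩ := PLocal.Offender.separate s hP hP' hne'
    refine ⟨(eq_bot_iff_forall _).2 fun w ⟨hw, hw'⟩ => ?_, ?_, ?_⟩
    · obtain ⟨v, rfl, hv⟩ := hWmem hw
      obtain ⟨u, hu, hv'⟩ := hWmem hw'
      rw [hι hu] at hv'
      have : SemidirectProduct.inl v = (1 : PLocal.Offender.Sec.Amb Vs) :=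
        mem_bot.1 (h1.le ⟨hv, hv'⟩)
      rw [SemidirectProduct.inl_injective (this.trans (map_one _).symm), map_one]
    · rw [hE hP']
      intro e he w hw
      obtain ⟨v, rfl, hv⟩ := hWmem hw
      exact (((hEmem hP').1 (h2 hv).2) e he).symm
    · rw [hE hP, hE hP', commutator_le]
      rintro _ ⟨e, he, rfl⟩ _ ⟨e', he', rfl⟩
      rw [← map_commutatorElement]
      refine (show (⁅e, e'⁆ : ↥L) ∈ X.subgroupOf L from hC.le (hker.le ?_))
      show f ⁅e, e'⁆ = 1
      rw [map_commutatorElement]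
      exact mem_bot.1 ((PLocal.Offender.commute_factors s hP hP' hne').le
        (commutator_mem_commutator he he'))
  case conj =>
    rintro W ⟨P, hP, rfl⟩ g hg
    obtain ⟨h1, h2, h3⟩ := hcW ⟨g, hg⟩ hP
    refine ⟨⟨_, h1, h2.symm⟩, ?_⟩
    rw [hE hP, h2, hE h1]
    exact h3
  case gen =>
    intro A hA
    set A' := A.subgroupOf L with hA'
    have hoff := PLocal.Offender.Sec.offender Vs
      (Cfsg.Agent.S0606.result Vs hVse A' (hA.mem_max_of_sylow hT))
    obtain ⟨hel, hfull⟩ := (PLocal.Offender.isBestOffender_iff s (map_mono le_top)).1 hoff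
    obtain ⟨k, B, hB, -, hsup⟩ :=
      PLocal.Offender.exists_decomposition s (map_mono le_top) hel hfull
    set R : Subgroup ↥L := C ⊔ ⨆ i, A' ⊓ (B i).comap f
    have hAR : A' ≤ R := by
      intro a ha
      have h1 : f a ∈ R.map f := by
        refine (?_ : A'.map f ≤ R.map f) ⟨a, ha, rfl⟩
        refine hsup.symm.le.trans (iSup_le fun i => ?_)
        intro y hy
        obtain ⟨x, hx, rfl⟩ := (hB i).1 hy
        exact ⟨x, mem_sup_right (le_iSup (fun i => A' ⊓ (B i).comap f) i ⟨hx, hy⟩), rfl⟩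
      obtain ⟨r, hr, hre⟩ := h1
      have h2 : a * r⁻¹ ∈ C := hker.le (MonoidHom.mem_ker.2 (by
        rw [map_mul, map_inv, hre, mul_inv_cancel]))
      simpa using mul_mem (mem_sup_left (T := ⨆ i, A' ⊓ (B i).comap f) h2 : a * r⁻¹ ∈ R) hr
    intro a ha
    have haL : a ∈ L := hT.1 (hA.1 ha)
    have h := hAR (x := ⟨a, haL⟩) (mem_subgroupOf.2 ha)
    have hle : R ≤ (X ⊔ closure {a | a ∈ A ∧ ∃ W ∈ Ws, a ∈ E W ∧ a ∉ X}).subgroupOf L := by
      refine sup_le (fun c hc => mem_subgroupOf.2 (mem_sup_left (mem_subgroupOf.1 (hC.le hc))))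
        (iSup_le fun i x hx => mem_subgroupOf.2 ?_)
      by_cases hxX : (x : G) ∈ X
      · exact mem_sup_left hxX
      refine mem_sup_right (subset_closure ⟨mem_subgroupOf.1 hx.1, ?_⟩)
      have hP : Point 2 B0 H (B i) :=
        ⟨(hB i).1.trans (map_mono le_top), (hB i).2.1, (hB i).2.2⟩
      refine ⟨_, ⟨B i, hP, rfl⟩, ?_, hxX⟩
      rw [hE hP]
      exact ⟨x, mem_sup_right (S := ⁅F, B i⁆) hx.2, rfl⟩
    exact mem_subgroupOf.1 (hle h)

end Cfsg.Agent.JComp
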