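import Cfsg.Agent.Lib.JComp.Chain2

/-!
The three cases for `Ω₁ Z(S)` against `Z₀`.
-/

set_option autoImplicit false
set_option linter.unusedSectionVars false
set_option linter.style.haveILetI false

namespace Cfsg.Agent.JComp

open Subgroup Cfsg Cfsg.Agent.CharP Cfsg.Agent.PLocal.ThompsonSubgroup
open scoped commutatorElement

variable {G : Type*} [Group G] [Finite G] {S : Sylow 2 G} {M T K L : Subgroup G}

/-- `T` centralises `Z₀` when `|Z₀| ≤ 4` and `T` normalises a component. -/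
theorem omega_eq_Z0 (hTp : IsPGroup 2 ↥T) (hK : IsJComponent T K)
    (hnorm : T ≤ normalizer (K : Set G)) (h4 : Nat.card (Z0 T) ≤ 4) :
    omegaCenterOf T = Z0 T := by
  obtain ⟨z, hzW, hz0, hz1, hun⟩ := comp_exists_z hTp hK
  refine le_antisymm (omegaCenterOf_le_Z0 T) fun v hv => ?_
  refine mem_omegaCenterOf.2 ⟨J_le T (omegaCenterOf_le _ hv), fun t ht => ?_,
    (mem_omegaCenterOf.1 hv).2.2⟩
  have hC2 : Nat.card (CK T K) ≤ 2 := by have := card_CK hTp hK; omega
  have ht0 : t ∈ normalizer (Z0 T : Set G) :=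
    normalizer_J_le_normalizer_Z0 T (le_normalizer_J T ht)
  have hle : CK T K ⊔ Z0 T ⊓ wOf K ≤ centralizer ({t} : Set G) := by
    refine sup_le (fun c hc => ?_) fun w hw => ?_ <;> rw [mem_centralizer_singleton_iff]
    · rcases eq_or_ne c 1 with rfl | hc1
      · rw [one_mul, mul_one]
      have hK' : t ∈ normalizer (K ⊔ Jt T : Subgroup G) :=
        (normalizer_inf_le_normalizer_sup K (Jt T)) ⟨hnorm ht, le_normalizer_J T ht⟩
      have hcc : t * c * t⁻¹ ∈ CK T K := mem_inf.2 ⟨conj_mem_normalizer ht0 hc.1,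
        conj_mem_normalizer (normalizer_le_normalizer_centralizer' _ hK') hc.2⟩
      rcases card_two_cases hC2 hc hc1 hcc with e | e
      · exact absurd (conj_eq_one_iff.1 e) hc1
      · exact (mul_inv_eq_iff_eq_mul.1 e).symm
    · rcases eq_or_ne w 1 with rfl | hw1
      · rw [one_mul, mul_one]
      have e1 := (hun w hw.2 hw.1).resolve_left hw1
      have hww : t * w * t⁻¹ ∈ wOf K :=
        conj_mem_normalizer (normalizer_le_normalizer_wOf K (hnorm ht)) hw.2
      have e2 := (hun _ hww (conj_mem_normalizer ht0 hw.1)).resolve_left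
        fun e => hw1 (conj_eq_one_iff.1 e)
      exact (mul_inv_eq_iff_eq_mul.1 (e2.trans e1.symm)).symm
  rw [← CK_sup hTp hK] at hv
  exact (mem_centralizer_singleton_iff.1 (hle hv)).symm

/-- A conjugate of an element centralised by `S` has its centraliser in no group with Sylow
subgroup smaller than `S`. -/
theorem conj_ne_of_small (hlt : Nat.card T < Nat.card (S : Subgroup G)) (hsyl : IsSylowTwoIn T L)
    {u d : G} (hu : ∀ y ∈ (S : Subgroup G), y * u = u * y) (hd : centralizer ({d} : Set G) ≤ L)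
    (g : G) : g * u * g⁻¹ ≠ d := by
  intro e
  have hle : cjg g (S : Subgroup G) ≤ L := by
    refine le_trans ?_ hd
    rintro _ ⟨y, hy, rfl⟩
    rw [mem_centralizer_singleton_iff, ← e, MulEquiv.coe_toMonoidHom, MulAut.conj_apply]
    calc g * y * g⁻¹ * (g * u * g⁻¹) = g * (y * u) * g⁻¹ := by group
      _ = g * (u * y) * g⁻¹ := by rw [hu y hy]
      _ = g * u * g⁻¹ * (g * y * g⁻¹) := by group
  have := sylowTwo_card_le hsyl (S.isPGroup'.map _) hle
  rw [card_cjg] at this
  omega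

/-- `|Z₀| = 4` and `T < S`: `C_L(Z₀)` has index 2 in `N(Z₀)`. -/
theorem index_two_of_small (h : Hyp S M) (hT : T ∈ maxStraddlingTwoSubgroups M)
    (hTS : T ≤ (S : Subgroup G)) (hne : T ≠ (S : Subgroup G)) (hK : IsJComponent T K)
    (hKM : ¬ K ≤ M) (hL : IsMaximalTwoLocal L) (hKL : K ⊔ T ≤ L) (hsyl : IsSylowTwoIn T L)
    (hZ : omegaCenterOf (S : Subgroup G) ≤ Z0 T) (h4 : Nat.card (Z0 T) = 4) :
    (L ⊓ centralizer (Z0 T : Set G)).relIndex (normalizer (Z0 T : Set G)) = 2 := by
  haveI : Fact (Nat.Prime 2) := ⟨Nat.prime_two⟩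
  have hTp := (straddle_props hT).1
  have hlt : Nat.card T < Nat.card (S : Subgroup G) :=
    lt_of_not_ge fun hge => hne (eq_of_le_of_card_ge hTS hge)
  obtain ⟨n, hnS, -, hnN, hnL⟩ := exists_outer_of_ne hTS hne hsyl
  have hn0 : n ∈ normalizer (Z0 T : Set G) :=
    normalizer_J_le_normalizer_Z0 T (normalizer_le_normalizer_J T hnN)
  obtain ⟨c, hcK, hc1⟩ : ∃ c ∈ CK T K, c ≠ 1 := by
    by_contra hcon; push Not at hcon
    have := card_CK hTp hK
    rw [(eq_bot_iff_forall _).2 hcon, card_bot] at this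
    omega
  have hCc : centralizer ({c} : Set G) ≤ L :=
    CK_centralizer_le h hT hK hKM hL ((sup_le_sup_left (J_le T) K).trans hKL) hcK hc1
  have hCn : centralizer ({n * c * n⁻¹} : Set G) ≤ cjg n L := by
    intro y hy
    rw [mem_cjg]
    refine hCc (mem_centralizer_singleton_iff.2 ?_)
    have e := mem_centralizer_singleton_iff.1 hy
    calc n⁻¹ * y * n * c = n⁻¹ * (y * (n * c * n⁻¹)) * n := by group
      _ = n⁻¹ * (n * c * n⁻¹ * y) * n := by rw [e]
      _ = c * (n⁻¹ * y * n) := by group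
  set d := n * c * n⁻¹ with hd
  have hd0 : d ∈ Z0 T := conj_mem_normalizer hn0 hcK.1
  have hd1 : d ≠ 1 := fun e => hc1 (conj_eq_one_iff.1 e)
  have hcd : c ≠ d := fun e =>
    hnL (hCc (mem_centralizer_singleton_iff.2 (mul_inv_eq_iff_eq_mul.1 e.symm)))
  have hexp : ∀ a ∈ Z0 T, a * a = 1 := fun a ha => (mem_omegaCenterOf.1 ha).2.2
  have hcases := fun {v : G} (hv : v ∈ Z0 T) => four_cases h4 hexp hcK.1 hd0 hc1 hd1 hcd hv
  have hsyl' : IsSylowTwoIn T (cjg n L) := by
    have := isSylowTwoIn_cjg hsyl n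
    rwa [cjg_eq_self.2 hnN] at this
  -- the element centralised by `S`
  obtain ⟨u, hu, hu1⟩ : ∃ u ∈ omegaCenterOf (S : Subgroup G), u ≠ 1 := by
    by_contra hcon; push Not at hcon
    refine omega_ne_bot S.isPGroup' (fun hb => ?_) ((eq_bot_iff_forall _).2 hcon)
    exact (straddle_props hT).2.1 (le_bot_iff.1 (hTS.trans hb.le))
  have hcent := (mem_omegaCenterOf.1 hu).2.1
  have hfix : ∀ g ∈ normalizer (Z0 T : Set G), g * (c * d) * g⁻¹ = c * d := by
    have hne' : ∀ g : G, g * u * g⁻¹ ≠ c ∧ g * u * g⁻¹ ≠ d := fun g =>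
      ⟨conj_ne_of_small hlt hsyl hcent hCc g, conj_ne_of_small hlt hsyl' hcent hCn g⟩
    have hkey : ∀ g ∈ normalizer (Z0 T : Set G), g * u * g⁻¹ = c * d := by
      intro g hg
      rcases hcases (conj_mem_normalizer hg (hZ hu)) with e | e | e | e
      · exact absurd (conj_eq_one_iff.1 e) hu1
      · exact absurd e (hne' g).1
      · exact absurd e (hne' g).2
      · exact e
    have hu' : u = c * d := by simpa using hkey 1 (one_mem _)
    intro g hg
    rw [← hu']
    exact (hkey g hg).trans hu'.symm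
  have hLC : L ⊓ centralizer (Z0 T : Set G) = centralizer (Z0 T : Set G) :=
    inf_eq_right.2 fun y hy => hCc (mem_centralizer_singleton_iff.2 (hy c hcK.1).symm)
  rw [hLC]
  have hcc : c * c = 1 := hexp c hcK.1
  have hfixC : ∀ g ∈ normalizer (Z0 T : Set G), g * c * g⁻¹ = c →
      g ∈ centralizer (Z0 T : Set G) := by
    intro g hg hgc v hv
    refine (four_commutes h4 hexp hcK.1 hd0 hc1 hd1 hcd (mul_inv_eq_iff_eq_mul.1 hgc) ?_ v hv).symm
    have := hfix g hg
    rw [show g * (c * d) * g⁻¹ = (g * c * g⁻¹) * (g * d * g⁻¹) by group, hgc] at this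
    exact mul_inv_eq_iff_eq_mul.1 (mul_left_cancel this)
  rw [relIndex, index_eq_two_iff_exists_notMem_and]
  refine ⟨⟨n, hn0⟩, fun hmem => hcd ?_, fun b => ?_⟩
  · exact (mul_inv_eq_iff_eq_mul.2 ((mem_subgroupOf.1 hmem) c hcK.1).symm).symm
  by_cases hb : (b : G) * c * (b : G)⁻¹ = c
  · exact Or.inr (mem_subgroupOf.2 (hfixC b b.2 hb))
  refine Or.inl (mem_subgroupOf.2 (hfixC _ (mul_mem b.2 hn0) ?_))
  have hbd : (b : G) * c * (b : G)⁻¹ = d := by
    rcases hcases (conj_mem_normalizer b.2 hcK.1) with e | e | e | e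
    · exact absurd (conj_eq_one_iff.1 e) hc1
    · exact absurd e hb
    · exact e
    · have := mul_left_cancel (mul_right_cancel (e.trans (hfix b b.2).symm))
      exact absurd (mul_left_cancel (this.symm.trans (mul_one c).symm)) hd1
  have hf := hfix b b.2
  calc ((b : G) * n) * c * ((b : G) * n)⁻¹ = (b : G) * d * (b : G)⁻¹ := by rw [hd]; group
    _ = ((b : G) * c * (b : G)⁻¹)⁻¹ * ((b : G) * (c * d) * (b : G)⁻¹) := by group
    _ = c := by
      rw [hbd, hf]
      have hdd : d * d = 1 := hexp d hd0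
      rw [inv_eq_of_mul_eq_one_right hdd, isElementaryAbelian_two_comm (Z0_elem T) hcK.1 hd0,
        ← mul_assoc, hdd, one_mul]

end Cfsg.Agent.JComp
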