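import Cfsg.Agent.Lib.JComp.Straddle

/-!
The subgroup `Z₀` against the components outside `M`.
-/

set_option autoImplicit false
set_option linter.unusedSectionVars false
set_option linter.style.haveILetI false

namespace Cfsg.Agent.JComp

open Subgroup Cfsg Cfsg.Agent.CharP Cfsg.Agent.PLocal.ThompsonSubgroup
open scoped commutatorElement

variable {G : Type*} [Group G] [Finite G] {S : Sylow 2 G} {M T : Subgroup G}

/-! ### Generalities -/

theorem Hyp.exists_sylow_above (h : Hyp S M) (hT : T ∈ maxStraddlingTwoSubgroups M) :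
    ∃ S' : Sylow 2 G, Hyp S' M ∧ T ≤ (S' : Subgroup G) := by
  obtain ⟨hTp, -, hTM⟩ := straddle_props hT
  obtain ⟨U, hU, hTU⟩ := exists_sylowTwo_ge (L := M) hTp hTM
  have hS : IsSylowTwoIn (S : Subgroup G) M :=
    isSylowTwoIn_iff.2 ((isSylIn_top_iff.2 ⟨S, rfl⟩).mono h.S_le le_top)
  obtain ⟨m, hm, hme⟩ := sylowTwo_conj hS hU
  have htop : IsSylIn 2 U (⊤ : Subgroup G) := by
    have := (isSylIn_top_iff.2 ⟨S, rfl⟩ : IsSylIn 2 (S : Subgroup G) ⊤).conj m
    rw [show (⊤ : Subgroup G).map (MulAut.conj m).toMonoidHom = ⊤ from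
      map_top_of_surjective _ (MulAut.conj m).surjective] at this
    rw [← hme]; exact this
  obtain ⟨S', hS'⟩ := isSylIn_top_iff.1 htop
  refine ⟨S', ⟨h.zn, h.hO, h.hM, ?_⟩, hS'.symm ▸ hTU⟩
  rw [hS', ← hme, J_cjg]
  intro g hg
  have hg' : m⁻¹ * g * m ∈ normalizer (Jt (S : Subgroup G) : Set G) := by
    rw [← cjg_eq_self] at hg ⊢
    rw [← cjg_cjg, ← cjg_cjg, hg, cjg_inv_cjg]
  have := mul_mem (mul_mem hm (h.hMJ hg')) (inv_mem hm)
  rwa [show m * (m⁻¹ * g * m) * m⁻¹ = g by group] at this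

theorem maxLocal_eq {L : Subgroup G} (hL : IsMaximalTwoLocal L) :
    L = normalizer (Qk L : Set G) :=
  (hL.2 _ (isTwoLocal_normalizer (isPGroup_pCoreOf 2 L) (IsTwoLocal.core_ne_bot hL.1))
    (le_normalizer_pCoreOf 2 L)).symm

theorem maxLocal_normalizer {L : Subgroup G} (hL : IsMaximalTwoLocal L) :
    normalizer (L : Set G) ≤ L :=
  (normalizer_le_normalizer_pCoreOf 2 L).trans (maxLocal_eq hL).ge

theorem maxLocal_cjg {L : Subgroup G} (hL : IsMaximalTwoLocal L) (g : G) :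
    IsMaximalTwoLocal (cjg g L) := by
  have key : ∀ (g : G) {N : Subgroup G}, IsTwoLocal N → IsTwoLocal (cjg g N) := by
    rintro g _ ⟨R, hR, hR1, rfl⟩
    refine ⟨cjg g R, hR.map _, fun h => hR1 ((map_eq_bot_iff_of_injective _
      (MulAut.conj g).injective).1 h), ?_⟩
    exact map_equiv_normalizer_eq R (MulAut.conj g)
  refine ⟨key g hL.1, fun N hN hle => ?_⟩
  have h1 := cjg_mono (g := g⁻¹) hle
  rw [cjg_inv_cjg] at h1
  rw [← hL.2 _ (key g⁻¹ hN) h1, cjg_inv_cjg']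

theorem centralizer_involution_twoLocal {c : G} (hc : c * c = 1) (hc1 : c ≠ 1) :
    IsTwoLocal (centralizer ({c} : Set G)) := by
  have ho : orderOf c = 2 := orderOf_eq_prime (by rw [pow_two, hc]) hc1
  have hcard : Nat.card (zpowers c) = 2 := by rw [Nat.card_zpowers, ho]
  refine ⟨zpowers c, IsPGroup.of_card (n := 1) (by rw [hcard, pow_one]),
    zpowers_ne_bot.2 hc1, le_antisymm ?_ ?_⟩
  · rw [← centralizer_closure, ← zpowers_eq_closure]
    exact centralizer_le_normalizer _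
  · intro g hg
    rw [mem_centralizer_singleton_iff]
    have hmem := conj_mem_normalizer hg (mem_zpowers c)
    obtain ⟨i, hi⟩ := mem_zpowers_iff.1 hmem
    rw [← zpow_mod_orderOf, ho] at hi
    rcases Int.emod_two_eq_zero_or_one i with h | h <;> push_cast at hi <;> rw [h] at hi
    · rw [zpow_zero] at hi
      exact absurd (conj_eq_one_iff.1 hi.symm) hc1
    · rw [zpow_one] at hi
      exact mul_inv_eq_iff_eq_mul.1 hi.symm

theorem card_two_cases {H : Subgroup G} {w : G} (hcard : Nat.card H ≤ 2) (hw : w ∈ H)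
    (hw1 : w ≠ 1) {v : G} (hv : v ∈ H) : v = 1 ∨ v = w := by
  by_contra h
  push Not at h
  classical
  have hs : ({1, w, v} : Finset G) ⊆ (H : Set G).toFinite.toFinset := by
    intro u hu
    simp only [Finset.mem_insert, Finset.mem_singleton] at hu
    rw [Set.Finite.mem_toFinset]
    rcases hu with rfl | rfl | rfl
    exacts [one_mem _, hw, hv]
  have hc3 : ({1, w, v} : Finset G).card = 3 := by
    rw [Finset.card_insert_of_notMem (by simp [hw1.symm, Ne.symm h.1]),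
      Finset.card_insert_of_notMem (by simp [Ne.symm h.2]), Finset.card_singleton]
  have := Finset.card_le_card hs
  rw [hc3, ← Set.ncard_eq_toFinset_card _ _, ← Nat.card_coe_set_eq] at this
  exact absurd (this.trans hcard) (by norm_num)

theorem Z0_elem (T : Subgroup G) : IsElementaryAbelian 2 (Z0 T) := elem_omegaCenterOf _

theorem Z0_congr {T T' : Subgroup G} (h : Jt T' = Jt T) : Z0 T' = Z0 T :=
  congrArg omegaCenterOf h

theorem normalizer_J_le_normalizer_Z0 (T : Subgroup G) :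
    normalizer (Jt T : Set G) ≤ normalizer (Z0 T : Set G) :=
  normalizer_le_normalizer_omegaCenterOf _

/-! ### `C_{Z₀}(⟨K, J⟩)` -/

/-- `C_{Z₀}(⟨K, J⟩)`. -/
abbrev CK (T K : Subgroup G) : Subgroup G :=
  Z0 T ⊓ centralizer ((K ⊔ Jt T : Subgroup G) : Set G)

theorem CK_sup (hT : IsPGroup 2 ↥T) {K : Subgroup G} (hK : IsJComponent T K) :
    CK T K ⊔ Z0 T ⊓ wOf K = Z0 T := by
  refine le_antisymm (sup_le inf_le_left inf_le_left) ?_
  nth_rewrite 1 [← comp_Z0_split hT hK]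
  exact sup_le_sup_right (inf_le_inf_left _ inf_le_right) _

theorem CK_inf_W {K : Subgroup G} (hK : IsJComponent T K) : CK T K ⊓ wOf K = ⊥ := by
  obtain ⟨x, hx, hxo⟩ := comp_exists_three hK
  exact (eq_bot_iff_forall _).2 fun w hw =>
    comp_fixed_W hK hx hxo hw.2 (hw.1.2 x (mem_sup_left hx))

theorem card_CK (hT : IsPGroup 2 ↥T) {K : Subgroup G} (hK : IsJComponent T K) :
    Nat.card (Z0 T) = 2 * Nat.card (CK T K) := by
  have h := card_sup_mul_inf (A := CK T K) (B := Z0 T ⊓ wOf K)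
    (le_normalizer_of_commute fun a ha b hb => isElementaryAbelian_two_comm (Z0_elem T) ha.1 hb.1)
  have hi : CK T K ⊓ (Z0 T ⊓ wOf K) = ⊥ :=
    le_bot_iff.1 (le_trans (inf_le_inf_left _ inf_le_right) (CK_inf_W hK).le)
  rw [CK_sup hT hK, hi, card_bot, mul_one, comp_card_Z0_inf_W hT hK] at h
  rw [h, mul_comm]

theorem CK_centralizer_le (h : Hyp S M) (hT : T ∈ maxStraddlingTwoSubgroups M) {K L : Subgroup G}
    (hK : IsJComponent T K) (hKM : ¬ K ≤ M) (hL : IsMaximalTwoLocal L) (hKL : K ⊔ Jt T ≤ L)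
    {c : G} (hc : c ∈ CK T K) (hc1 : c ≠ 1) : centralizer ({c} : Set G) ≤ L := by
  obtain ⟨L', hL', hle⟩ := exists_maxTwoLocal
    (centralizer_involution_twoLocal (mem_omegaCenterOf.1 hc.1).2.2 hc1)
  have hKC : K ⊔ Jt T ≤ centralizer ({c} : Set G) := fun y hy =>
    mem_centralizer_singleton_iff.2 (hc.2 y hy)
  rw [max_unique h hT hK hKM hL' (hKC.trans hle) hL hKL] at hle
  exact hle

theorem CK_disjoint (h : Hyp S M) (hT : T ∈ maxStraddlingTwoSubgroups M) {K K' L L' : Subgroup G}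
    (hK : IsJComponent T K) (hKM : ¬ K ≤ M) (hL : IsMaximalTwoLocal L) (hKL : K ⊔ Jt T ≤ L)
    (hK' : IsJComponent T K') (hKM' : ¬ K' ≤ M) (hL' : IsMaximalTwoLocal L')
    (hKL' : K' ⊔ Jt T ≤ L') (hne : L ≠ L') : CK T K ⊓ CK T K' = ⊥ := by
  refine (eq_bot_iff_forall _).2 fun c hc => ?_
  by_contra hc1
  refine hne (max_unique h hT hK' hKM' hL ?_ hL' hKL')
  exact le_trans (fun y hy => mem_centralizer_singleton_iff.2 (hc.2.2 y hy))
    (CK_centralizer_le h hT hK hKM hL hKL hc.1 hc1)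

theorem card_Z0_le (hT : IsPGroup 2 ↥T) {K K' : Subgroup G} (hK : IsJComponent T K)
    (hK' : IsJComponent T K') (hdis : CK T K ⊓ CK T K' = ⊥) : Nat.card (Z0 T) ≤ 4 := by
  have h := card_sup_mul_inf (A := CK T K) (B := CK T K')
    (le_normalizer_of_commute fun a ha b hb => isElementaryAbelian_two_comm (Z0_elem T) ha.1 hb.1)
  rw [hdis, card_bot, mul_one] at h
  have hle : Nat.card ↥(CK T K ⊔ CK T K') ≤ Nat.card (Z0 T) :=
    card_le_of_le (sup_le inf_le_left inf_le_left)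
  rw [h, card_CK hT hK] at hle
  have h2 : Nat.card (CK T K') ≤ 2 := by
    rw [mul_comm 2] at hle
    exact Nat.le_of_mul_le_mul_left hle Nat.card_pos
  rw [card_CK hT hK']
  omega

/-- A component outside `M` inside an overgroup whose Sylow subgroup is `T`. -/
theorem comp_facts (h : Hyp S M) {L : Subgroup G} (hT : IsPGroup 2 ↥T) (hT1 : T ≠ ⊥)
    (hov : L ∈ jOvergroups T) {K K' : Subgroup G} (hK : IsJComponent T K) (hKL : K ≤ L)
    (hK' : IsJComponent T K') (hK'L : K' ≤ L) (hne : K ≠ K') :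
    wOf K ⊓ wOf K' = ⊥ ∧ ∀ v ∈ Z0 T, v ∈ wOf K → v ∈ CK T K' := by
  obtain ⟨V, X, Ws, E, o⟩ := exists_ovg h.zn hT hT1 hov
  obtain ⟨W, hW, hWe, -, -⟩ := o.comp_data h.zn hT hT1 hK hKL
  obtain ⟨W', hW', hWe', hKD', -⟩ := o.comp_data h.zn hT hT1 hK' hK'L
  have hneW : W ≠ W' := fun e => hne (by
    have := o.comp_conj_eq h.zn hT hT1 hK hKL hK' hK'L (g := 1) (one_mem L)
      (by rw [hWe, hWe', e]; exact conj_map_one W')
    rwa [show cjg (1 : G) K = K from conj_map_one K] at this)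
  obtain ⟨hdis, hC, -⟩ := o.blocks.sep W hW.1 W' hW'.1 hneW
  refine ⟨by rw [hWe, hWe']; exact hdis, fun v hv hvW => ⟨hv, ?_⟩⟩
  have hle : K' ⊔ Jt T ≤ centralizer ({v} : Set G) := sup_le
    (fun k hk => mem_centralizer_singleton_iff.2
      ((hC (o.Dm_le hW'.1 (hKD' hk)) v (hWe ▸ hvW)).symm))
    fun j hj => mem_centralizer_singleton_iff.2 ((mem_omegaCenterOf.1 hv).2.1 j hj)
  exact fun y hy => mem_centralizer_singleton_iff.1 (hle hy)

/-- If `t ∈ T` moves `K`, every component outside `M` in another maximal 2-local subgroup has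
`C_{Z₀} = ⟨z z'⟩`. -/
theorem swap_data (h : Hyp S M) (hT : T ∈ maxStraddlingTwoSubgroups M) {K L K3 L3 : Subgroup G}
    (hK : IsJComponent T K) (hKM : ¬ K ≤ M) (hL : IsMaximalTwoLocal L) (hKL : K ⊔ T ≤ L)
    (hov : L ∈ jOvergroups T) (h3 : IsJComponent T K3) (h3M : ¬ K3 ≤ M)
    (hL3 : IsMaximalTwoLocal L3) (h3L : K3 ⊔ Jt T ≤ L3) (hne : L ≠ L3)
    {t : G} (ht : t ∈ T) (hmove : t ∉ normalizer (K : Set G)) :
    ∃ z, z ∈ Z0 T ∧ z ∈ wOf K ∧ z ≠ 1 ∧ t * z * t⁻¹ ≠ z ∧ t * z * t⁻¹ ∈ CK T K ∧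
      z * (t * z * t⁻¹) ∈ CK T K3 ∧ (∀ c ∈ CK T K, c = 1 ∨ c = t * z * t⁻¹) ∧
      (∀ c ∈ CK T K3, c = 1 ∨ c = z * (t * z * t⁻¹)) ∧
      ∀ v ∈ Z0 T, v = 1 ∨ v = z ∨ v = t * z * t⁻¹ ∨ v = z * (t * z * t⁻¹) := by
  obtain ⟨hTp, hT1, hTM⟩ := straddle_props hT
  set K2 := cjg t K with hK2def
  have hJ2 : Jt T = Jt (cjg t T) := by rw [cjg_eq_self.2 (le_normalizer ht)]
  have hK2 : IsJComponent T K2 := comp_congr hJ2 (comp_cjg hK t)
  have hK2M : ¬ K2 ≤ M := fun hle => hKM (by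
    have := cjg_mono (g := t⁻¹) hle
    rwa [hK2def, cjg_inv_cjg, cjg_eq_self.2 (le_normalizer (inv_mem (hTM ht)))] at this)
  have hKL' : K ≤ L := le_sup_left.trans hKL
  have hTL : T ≤ L := le_sup_right.trans hKL
  have hJL : Jt T ≤ L := (J_le T).trans hTL
  have hK2L : K2 ≤ L := (cjg_mono hKL').trans (cjg_eq_self.2 (le_normalizer (hTL ht))).le
  have hne2 : K ≠ K2 := fun e => hmove (cjg_eq_self.1 e.symm)
  obtain ⟨z, hzW, hz0, hz1, -⟩ := comp_exists_z hTp hK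
  have ht0 : t ∈ normalizer (Z0 T : Set G) :=
    normalizer_J_le_normalizer_Z0 T (le_normalizer_J T ht)
  set z2 := t * z * t⁻¹ with hz2def
  have hz20 : z2 ∈ Z0 T := conj_mem_normalizer ht0 hz0
  have hz2W : z2 ∈ wOf K2 := by rw [hK2def, wOf_cjg]; exact conj_mem_cjg hzW
  have hz21 : z2 ≠ 1 := fun e => hz1 (conj_eq_one_iff.1 e)
  obtain ⟨hdis, hzC⟩ := comp_facts h hTp hT1 hov hK hKL' hK2 hK2L hne2
  obtain ⟨-, hz2C⟩ := comp_facts h hTp hT1 hov hK2 hK2L hK hKL' hne2.symm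
  have hzz : z2 ≠ z := fun e => hz1 (mem_bot.1 (hdis.le ⟨hzW, e ▸ hz2W⟩))
  have hKL2 : K2 ⊔ Jt T ≤ L := sup_le hK2L hJL
  have d1 := CK_disjoint h hT hK hKM hL (sup_le hKL' hJL) h3 h3M hL3 h3L hne
  have d2 := CK_disjoint h hT hK2 hK2M hL hKL2 h3 h3M hL3 h3L hne
  have h4 := card_Z0_le hTp hK h3 d1
  have hCK := hz2C z2 hz20 hz2W
  have hCK2 := hzC z hz0 hzW
  have hCcard : ∀ {A : Subgroup G}, IsJComponent T A → Nat.card (CK T A) ≤ 2 := fun hA => by
    have := card_CK hTp hA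
    omega
  have hZ4 : Nat.card (Z0 T) = 4 := by
    refine le_antisymm h4 ?_
    rw [card_CK hTp hK]
    have : Nontrivial ↥(CK T K) := ⟨⟨⟨z2, hCK⟩, 1, fun e => hz21 (congrArg Subtype.val e)⟩⟩
    have := Finite.one_lt_card (α := ↥(CK T K))
    omega
  have hcases : ∀ v ∈ Z0 T, v = 1 ∨ v = z ∨ v = z2 ∨ v = z * z2 := fun v hv =>
    four_cases hZ4 (fun w hw => (mem_omegaCenterOf.1 hw).2.2) hz0 hz20 hz1 hz21 hzz.symm hv
  have h3one : ∃ c ∈ CK T K3, c ≠ 1 := by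
    by_contra hcon
    push Not at hcon
    have hb : CK T K3 = ⊥ := (eq_bot_iff_forall _).2 hcon
    have := card_CK hTp h3
    rw [hb, card_bot] at this
    omega
  have hC3 : ∀ c ∈ CK T K3, c = 1 ∨ c = z * z2 := by
    intro c hc
    rcases hcases c hc.1 with e | e | e | e
    · exact Or.inl e
    · exact Or.inl (mem_bot.1 (d2.le ⟨e ▸ hCK2, hc⟩))
    · exact Or.inl (mem_bot.1 (d1.le ⟨e ▸ hCK, hc⟩))
    · exact Or.inr e
  obtain ⟨c, hc, hc1⟩ := h3one
  exact ⟨z, hz0, hzW, hz1, hzz, hCK, ((hC3 c hc).resolve_left hc1) ▸ hc,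
    fun c hc => card_two_cases (hCcard hK) hCK hz21 hc, hC3, hcases⟩

/-- If `N(J) ⊄ L` then `T` normalises the components of `L` outside `M`. -/
theorem normalizes_of_outer (h : Hyp S M) (hT : T ∈ maxStraddlingTwoSubgroups M)
    {K L : Subgroup G} (hK : IsJComponent T K) (hKM : ¬ K ≤ M) (hL : IsMaximalTwoLocal L)
    (hKL : K ⊔ T ≤ L) (hov : L ∈ jOvergroups T) {n : G} (hn : n ∈ normalizer (Jt T : Set G))
    (hnL : n ∉ L) : T ≤ normalizer (K : Set G) ∧ Nat.card (Z0 T) ≤ 4 := by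
  obtain ⟨hTp, hT1, hTM⟩ := straddle_props hT
  have hnM : n ∈ M := normalizer_J_le h hT hn
  have hJn : Jt T = Jt (cjg n T) := by rw [J_cjg, cjg_eq_self.2 hn]
  set K3 := cjg n K with hK3def
  have h3 : IsJComponent T K3 := comp_congr hJn (comp_cjg hK n)
  have h3M : ¬ K3 ≤ M := fun hle => hKM (by
    have := cjg_mono (g := n⁻¹) hle
    rwa [hK3def, cjg_inv_cjg, cjg_eq_self.2 (le_normalizer (inv_mem hnM))] at this)
  have hKJ : K ⊔ Jt T ≤ L := (sup_le_sup_left (J_le T) K).trans hKL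
  have h3L : K3 ⊔ Jt T ≤ cjg n L := by
    refine sup_le (cjg_mono (le_sup_left.trans hKL)) ?_
    rw [← cjg_eq_self.2 hn]
    exact cjg_mono (le_sup_right.trans hKJ)
  have hne : L ≠ cjg n L := fun e => hnL (maxLocal_normalizer hL (cjg_eq_self.1 e.symm))
  refine ⟨fun t ht => ?_, card_Z0_le hTp hK h3
    (CK_disjoint h hT hK hKM hL hKJ h3 h3M (maxLocal_cjg hL n) h3L hne)⟩
  by_contra hmove
  obtain ⟨z, hz0, hzW, hz1, hzz, hCK, -, hCKc, hC3, hcases⟩ :=
    swap_data h hT hK hKM hL hKL hov h3 h3M (maxLocal_cjg hL n) h3L hne ht hmove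
  -- the other component gives the same involution
  set K2 := cjg t K with hK2def
  have hJ2 : Jt T = Jt (cjg t T) := by rw [cjg_eq_self.2 (le_normalizer ht)]
  have hK2 : IsJComponent T K2 := comp_congr hJ2 (comp_cjg hK t)
  have hK2L : K2 ≤ L := (cjg_mono (le_sup_left.trans hKL)).trans
    (cjg_eq_self.2 (le_normalizer (le_sup_right.trans hKL ht))).le
  have hne2 : K ≠ K2 := fun e => hmove (cjg_eq_self.1 e.symm)
  obtain ⟨-, hzC⟩ := comp_facts h hTp hT1 hov hK (le_sup_left.trans hKL) hK2 hK2L hne2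
  set K4 := cjg n K2 with hK4def
  have h4 : IsJComponent T K4 := comp_congr hJn (comp_cjg hK2 n)
  have hK2M : ¬ K2 ≤ M := fun hle => hKM (by
    have := cjg_mono (g := t⁻¹) hle
    rwa [hK2def, cjg_inv_cjg, cjg_eq_self.2 (le_normalizer (inv_mem (hTM ht)))] at this)
  have h4M : ¬ K4 ≤ M := fun hle => hK2M (by
    have := cjg_mono (g := n⁻¹) hle
    rwa [hK4def, cjg_inv_cjg, cjg_eq_self.2 (le_normalizer (inv_mem hnM))] at this)
  have h4L : K4 ⊔ Jt T ≤ cjg n L := sup_le (cjg_mono hK2L) (le_sup_right.trans h3L)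
  have hmemn : ∀ {A : Subgroup G} {v : G}, v ∈ CK T A → n * v * n⁻¹ ∈ CK T (cjg n A) := by
    intro A v hv
    refine ⟨conj_mem_normalizer (normalizer_J_le_normalizer_Z0 T hn) hv.1, ?_⟩
    rw [← cjg_eq_self.2 hn, ← Subgroup.map_sup]
    show n * v * n⁻¹ ∈ centralizer ((cjg n (A ⊔ Jt T) : Subgroup G) : Set G)
    rw [← cjg_centralizer]
    exact conj_mem_cjg hv.2
  have d1 := CK_disjoint h hT hK hKM hL hKJ h4 h4M (maxLocal_cjg hL n) h4L hne
  have d2 := CK_disjoint h hT hK2 hK2M hL (sup_le hK2L (le_sup_right.trans hKJ)) h4 h4M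
    (maxLocal_cjg hL n) h4L hne
  have e1 : n * (t * z * t⁻¹) * n⁻¹ = z * (t * z * t⁻¹) :=
    (hC3 _ (hmemn hCK)).resolve_left fun e =>
      hz1 (conj_eq_one_iff.1 (conj_eq_one_iff.1 e))
  have hm4 : n * z * n⁻¹ ∈ CK T K4 := hmemn (hzC z hz0 hzW)
  have hn1 : n * z * n⁻¹ ≠ 1 := fun e => hz1 (conj_eq_one_iff.1 e)
  rcases hcases _ hm4.1 with e | e | e | e
  · exact hn1 e
  · exact hn1 (mem_bot.1 (d2.le ⟨e.symm ▸ hzC z hz0 hzW, hm4⟩))
  · exact hn1 (mem_bot.1 (d1.le ⟨e.symm ▸ hCK, hm4⟩))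
  · exact hzz (mul_left_cancel (mul_right_cancel (e.trans e1.symm))).symm

/-- Two maximal 2-local subgroups with Sylow subgroup `T`: `T` normalises the components. -/
theorem normalizes_of_other (h : Hyp S M) (hT : T ∈ maxStraddlingTwoSubgroups M)
    {K L K' L' : Subgroup G} (hK : IsJComponent T K) (hKM : ¬ K ≤ M) (hL : IsMaximalTwoLocal L)
    (hKL : K ⊔ T ≤ L) (hov : L ∈ jOvergroups T) (hK' : IsJComponent T K') (hKM' : ¬ K' ≤ M)
    (hL' : IsMaximalTwoLocal L') (hKL' : K' ⊔ T ≤ L') (hov' : L' ∈ jOvergroups T)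
    (hne : L ≠ L') : T ≤ normalizer (K : Set G) ∧ Nat.card (Z0 T) ≤ 4 := by
  obtain ⟨hTp, hT1, hTM⟩ := straddle_props hT
  have hJL : K ⊔ Jt T ≤ L := (sup_le_sup_left (J_le T) K).trans hKL
  have hJL' : K' ⊔ Jt T ≤ L' := (sup_le_sup_left (J_le T) K').trans hKL'
  have hd := CK_disjoint h hT hK hKM hL hJL hK' hKM' hL' hJL' hne
  refine ⟨fun t ht => ?_, card_Z0_le hTp hK hK' hd⟩
  by_contra hmove
  obtain ⟨z, hz0, hzW, hz1, hzz, hCK, hu, hCKc, hC3, hcases⟩ :=
    swap_data h hT hK hKM hL hKL hov hK' hKM' hL' hJL' hne ht hmove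
  have hT'n : T ≤ normalizer (K' : Set G) := by
    intro s hs
    by_contra hmove'
    obtain ⟨z', hz0', hzW', hz1', hzz', hCK', hu', -, -, -⟩ :=
      swap_data h hT hK' hKM' hL' hKL' hov' hK hKM hL hJL hne.symm hs hmove'
    -- `C(K)` is both `t z t⁻¹` and `z' (s z' s⁻¹)`
    have e1 : s * z' * s⁻¹ = z * (t * z * t⁻¹) :=
      (hC3 _ hCK').resolve_left fun e => hz1' (conj_eq_one_iff.1 e)
    have h2 : z' * (s * z' * s⁻¹) ≠ 1 := fun e => hzz' (by
      rw [eq_inv_of_mul_eq_one_right e]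
      exact inv_eq_of_mul_eq_one_right (mem_omegaCenterOf.1 hz0').2.2)
    have e2 : z' * (s * z' * s⁻¹) = t * z * t⁻¹ := (hCKc _ hu').resolve_left h2
    -- so `z' = z`, and `K' ∩ K` forces a third involution
    have ez : z' = z := by
      rw [e1] at e2
      have hz2 := (mem_omegaCenterOf.1 hCK.1).2.2
      have hzsq := (mem_omegaCenterOf.1 hz0).2.2
      have hcm := isElementaryAbelian_two_comm (Z0_elem T) hz0 hCK.1
      calc z' = z' * (z * (t * z * t⁻¹)) * ((t * z * t⁻¹) * z) := by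
            rw [show z' * (z * (t * z * t⁻¹)) * ((t * z * t⁻¹) * z) =
              z' * z * ((t * z * t⁻¹) * (t * z * t⁻¹)) * z by group, hz2, mul_one, mul_assoc, hzsq,
              mul_one]
        _ = (t * z * t⁻¹) * (z * (t * z * t⁻¹)) := by
            rw [e2, hcm]
        _ = z := by rw [← mul_assoc, ← hcm, mul_assoc, hz2, mul_one]
    -- now `z ∈ W_{K'}` and `t` moves `z` inside `Z₀ ∩ W_{K'}`, or `K'` moves
    have htK' : t * z * t⁻¹ ∈ wOf (cjg t K') := by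
      rw [wOf_cjg]; exact conj_mem_cjg (ez ▸ hzW')
    by_cases htn : t ∈ normalizer (K' : Set G)
    · rw [cjg_eq_self.2 htn] at htK'
      obtain ⟨z'', hz''W, hz''0, -, hun⟩ := comp_exists_z hTp hK'
      have a1 := (hun z (ez ▸ hzW') hz0).resolve_left hz1
      have a2 := (hun _ htK' hCK.1).resolve_left fun e => hz1 (conj_eq_one_iff.1 e)
      exact hzz (a2.trans a1.symm)
    · obtain ⟨z'', hz0'', hzW'', hz1'', -, hCK'', -⟩ :=
        swap_data h hT hK' hKM' hL' hKL' hov' hK hKM hL hJL hne.symm ht htn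
      obtain ⟨z3, hz3W, hz30, -, hun⟩ := comp_exists_z hTp hK'
      have a1 := (hun z (ez ▸ hzW') hz0).resolve_left hz1
      have a2 := (hun z'' hzW'' hz0'').resolve_left hz1''
      rw [a2.trans a1.symm] at hCK''
      rcases hC3 _ hCK'' with e | e
      · exact hz1 (conj_eq_one_iff.1 e)
      · exact hz1 (by
          have := congrArg (fun v => v * (t * z * t⁻¹)) e
          rw [mul_assoc z, (mem_omegaCenterOf.1 hCK.1).2.2, mul_one] at this
          exact this.symm)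
  obtain ⟨z', hzW', hz0', hz1', hun⟩ := comp_exists_z hTp hK'
  have htz : t * z' * t⁻¹ = z' := (hun _
    (conj_mem_normalizer (normalizer_le_normalizer_wOf K' (hT'n ht)) hzW')
    (conj_mem_normalizer (normalizer_J_le_normalizer_Z0 T (le_normalizer_J T ht)) hz0')
    ).resolve_left fun e => hz1' (conj_eq_one_iff.1 e)
  have hzu : z' ∉ CK T K' := fun hc => hz1' (mem_bot.1 ((CK_inf_W hK').le ⟨hc, hzW'⟩))
  rcases hcases z' hz0' with e | e | e | e
  · exact hz1' e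
  · rw [e] at htz; exact hzz htz
  · rw [e] at htz
    exact hzz (mul_left_cancel (mul_right_cancel htz))
  · exact hzu (e ▸ hu)

end Cfsg.Agent.JComp
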