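import Cfsg.Agent.Lib.JComp.Unique

/-!
Every component outside `M` is a member of a pair.
-/

set_option autoImplicit false
set_option linter.unusedSectionVars false
set_option linter.style.haveILetI false

namespace Cfsg.Agent.JComp

open Subgroup Cfsg Cfsg.Agent.CharP Cfsg.Agent.PLocal.ThompsonSubgroup
open scoped commutatorElement

variable {G : Type*} [Group G] [Finite G] {S : Sylow 2 G} {M T K L : Subgroup G}

/-- If `N(J(S)) ≤ L` for `L ⊄ M` then `S` is maximal straddling for `N(J(S))`. -/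
theorem straddle_self (h : Hyp S M) (hL : IsTwoLocal L) (hSL : (S : Subgroup G) ≤ L)
    (hLM : ¬ L ≤ M) :
    (S : Subgroup G) ∈ maxStraddlingTwoSubgroups (normalizer (Jt (S : Subgroup G) : Set G)) := by
  set M0 := normalizer (Jt (S : Subgroup G) : Set G)
  have hS1 : (S : Subgroup G) ≠ ⊥ := by
    intro hb
    obtain ⟨R, hR, hR1, -⟩ := h.hM
    obtain ⟨S2, hS2⟩ := hR.exists_le_sylow
    obtain ⟨g, hg⟩ := MulAction.exists_smul_eq G S S2
    refine hR1 (le_bot_iff.1 (hS2.trans ?_))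
    rw [← hg, Sylow.coe_subgroup_smul, hb]
    exact (Subgroup.map_bot _).le
  refine ⟨straddle_mem S.isPGroup' hS1 (le_normalizer_J _) hL hSL
    (fun hle => hLM (hle.trans h.hMJ)), fun U hU => ?_⟩
  obtain ⟨S2, hS2⟩ := hU.1.exists_le_sylow
  obtain ⟨g, hg⟩ := MulAction.exists_smul_eq G S S2
  have hU' : cjg g⁻¹ U ≤ (S : Subgroup G) := by
    have h1 : U ≤ cjg g (S : Subgroup G) := by
      refine hS2.trans (le_of_eq ?_)
      rw [← hg, Sylow.coe_subgroup_smul]
      rfl
    have := cjg_mono (g := g⁻¹) h1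
    rwa [cjg_inv_cjg] at this
  have ha : aOrd U ≤ aOrd (S : Subgroup G) := aOrd_cjg g⁻¹ U ▸ aOrd_mono hU'
  refine ⟨ha, fun he => ?_⟩
  have hJ : Jt (cjg g⁻¹ U) ≤ Jt (S : Subgroup G) :=
    J_le_J ((J_le _).trans hU') (by rw [aOrd_cjg]; exact he.ge)
  rw [J_cjg] at hJ
  refine ⟨?_, fun _ => ?_⟩
  · have := card_le_of_le hJ; rwa [card_cjg] at this
  · have := card_le_of_le hU'; rwa [card_cjg] at this

/-- A component outside `M` is normalised by `T`, `|Z₀| ≤ 4`, and it belongs to a pair. -/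
theorem outside_main (h : Hyp S M) (am : ∀ H : Subgroup G, Amal ↥H)
    (hT : T ∈ maxStraddlingTwoSubgroups M) (hTS : T ≤ (S : Subgroup G))
    (hK : K ∈ jComponentsOutside M T) (hL : IsMaximalTwoLocal L) (hKL : K ⊔ T ≤ L)
    (hov : L ∈ jOvergroups T) :
    T ≤ normalizer (K : Set G) ∧ Nat.card (Z0 T) ≤ 4 ∧ ∃ (M0 K2 L2 : Subgroup G),
      Hyp S M0 ∧ T ∈ maxStraddlingTwoSubgroups M0 ∧ TwoComps M0 T K K2 L L2 := by
  obtain ⟨hTp, hT1, -⟩ := straddle_props hT
  have hKc := hK.1.1
  have hKM := hK.2.1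
  by_cases hne : T = (S : Subgroup G)
  · subst hne
    set T := (S : Subgroup G)
    by_cases hN : normalizer (Jt T : Set G) ≤ L
    · -- a second maximal 2-local subgroup containing `S`
      set M0 := normalizer (Jt T : Set G) with hM0def
      have hM0 : M0 ≤ M := h.hMJ
      have h0 : Hyp S M0 :=
        ⟨h.zn, h.hO, isTwoLocal_normalizer (isPGroup_J hTp) (J_ne hT), le_rfl⟩
      have hLM : ¬ L ≤ M := fun hle => hKM ((le_sup_left.trans hKL).trans hle)
      have hT0 : T ∈ maxStraddlingTwoSubgroups M0 :=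
        straddle_self h hL.1 (le_sup_right.trans hKL) hLM
      obtain ⟨L', hL', hTL', hne'⟩ : ∃ L', IsMaximalTwoLocal L' ∧ T ≤ L' ∧ L' ≠ L := by
        by_contra hcon
        refine unique_absurd h am hL hN hov fun L' h1 h2 => ?_
        by_contra h3
        exact hcon ⟨L', h1, h2, h3⟩
      have hL'M : ¬ L' ≤ M0 := fun hle => hne' (hL'.2 L hL.1 (hle.trans hN)).symm
      obtain ⟨T', hT'p, hT'1, hJ', hov', he⟩ :=
        overgroup_of_local h0 hT0 hL'.1 hL'M ((J_le T).trans hTL')
      obtain rfl := he hTL'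
      obtain ⟨K', hK', hK'L, hK'M⟩ := exists_outside h0 hT0 hT'p hT'1 hJ' hov' hL'M
      have hKM0 : ¬ K ≤ M0 := fun hle => hKM (hle.trans hM0)
      obtain ⟨n1, hZ⟩ := normalizes_of_other h0 hT0 hKc hKM0 hL hKL hov hK' hK'M hL'
        (sup_le hK'L hTL') hov' hne'.symm
      obtain ⟨n2, -⟩ := normalizes_of_other h0 hT0 hK' hK'M hL' (sup_le hK'L hTL') hov' hKc hKM0
        hL hKL hov hne'
      exact ⟨n1, hZ, M0, K', L', h0, hT0, ⟨hKc, hKM0, n1, hL, hKL, hov⟩,
        ⟨hK', hK'M, n2, hL', sup_le hK'L hTL', hov'⟩, hne'.symm⟩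
    · obtain ⟨n, hn, hnL⟩ := SetLike.not_le_iff_exists.1 hN
      obtain ⟨hnorm, hZ⟩ := normalizes_of_outer h hT hKc hKM hL hKL hov hn hnL
      have m : Member M T K L := ⟨hKc, hKM, hnorm, hL, hKL, hov⟩
      -- `n` normalises `S`
      obtain ⟨z, hzW, hz1, hz0, -, -, hfix⟩ := m.fix_z hTp
      have hcen : ∀ v ∈ Z0 T, ∀ t ∈ T, t * v = v * t := by
        intro v hv t ht
        rw [← CK_sup hTp hKc] at hv
        have hC2 : Nat.card (CK T K) ≤ 2 := by have := card_CK hTp hKc; omega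
        have hle : CK T K ⊔ Z0 T ⊓ wOf K ≤ centralizer ({t} : Set G) := by
          refine sup_le (fun c hc => ?_) fun w hw => ?_
          · rw [mem_centralizer_singleton_iff]
            rcases eq_or_ne c 1 with rfl | hc1
            · rw [one_mul, mul_one]
            have hK' : t ∈ normalizer (K ⊔ Jt T : Subgroup G) :=
              (normalizer_inf_le_normalizer_sup K (Jt T))
                ⟨hnorm ht, le_normalizer_J T ht⟩
            have hcc : t * c * t⁻¹ ∈ CK T K := mem_inf.2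
              ⟨conj_mem_normalizer (normalizer_J_le_normalizer_Z0 T (le_normalizer_J T ht)) hc.1,
                conj_mem_normalizer (normalizer_le_normalizer_centralizer' _ hK') hc.2⟩
            rcases card_two_cases hC2 hc hc1 hcc with e | e
            · exact absurd (conj_eq_one_iff.1 e) hc1
            · exact (mul_inv_eq_iff_eq_mul.1 e).symm
          · rw [mem_centralizer_singleton_iff]
            obtain ⟨z', -, hz'0, -, hun⟩ := comp_exists_z hTp hKc
            rcases hun w hw.2 hw.1 with rfl | rfl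
            · rw [one_mul, mul_one]
            · rcases hun z hzW hz0 with e | e
              · exact absurd e hz1
              · exact (e ▸ hfix t ht).symm
        exact (mem_centralizer_singleton_iff.1 (hle hv)).symm
      have hZS : omegaCenterOf T = Z0 T := le_antisymm (omegaCenterOf_le_Z0 T) fun v hv =>
        mem_omegaCenterOf.2 ⟨J_le T (omegaCenterOf_le _ hv), hcen v hv,
          (mem_omegaCenterOf.1 hv).2.2⟩
      have hnT : n ∈ normalizer (T : Set G) := by
        refine mem_normalizer_of_cjg_le (two_subgroup_le_of_normalizer S (hTp.map _) ?_)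
        rintro _ ⟨t, ht, rfl⟩
        rw [MulEquiv.coe_toMonoidHom, MulAut.conj_apply]
        refine h.zn.hz S fun v hv => ?_
        rw [SetLike.mem_coe, hZS] at hv
        have hv' : n⁻¹ * v * n ∈ Z0 T := by
          have := conj_mem_normalizer (normalizer_J_le_normalizer_Z0 T (inv_mem hn)) hv
          rwa [inv_inv] at this
        have e := hcen _ hv' t ht
        calc v * (n * t * n⁻¹) = n * ((n⁻¹ * v * n) * t) * n⁻¹ := by group
          _ = n * (t * (n⁻¹ * v * n)) * n⁻¹ := by rw [← e]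
          _ = n * t * n⁻¹ * v := by group
      exact ⟨hnorm, hZ, M, cjg n K, cjg n L, h, hT, m.twoComps h hT hnT hnL⟩
  · obtain ⟨n, -, -, hnN, hnL⟩ := exists_outer_of_ne hTS hne hov.1
    obtain ⟨hnorm, hZ⟩ :=
      normalizes_of_outer h hT hKc hKM hL hKL hov (normalizer_le_normalizer_J T hnN) hnL
    have m : Member M T K L := ⟨hKc, hKM, hnorm, hL, hKL, hov⟩
    exact ⟨hnorm, hZ, M, cjg n K, cjg n L, h, hT, m.twoComps h hT hnN hnL⟩

/-- A pair exists. -/
theorem exists_pair (h : Hyp S M) (am : ∀ H : Subgroup G, Amal ↥H)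
    (hT : T ∈ maxStraddlingTwoSubgroups M) :
    ∃ (S' : Sylow 2 G) (M0 K1 K2 L1 L2 : Subgroup G),
      Hyp S' M0 ∧ T ∈ maxStraddlingTwoSubgroups M0 ∧ TwoComps M0 T K1 K2 L1 L2 := by
  obtain ⟨S', hS', hTS'⟩ := h.exists_sylow_above hT
  obtain ⟨K, hK⟩ := outside_nonempty hS' hT
  obtain ⟨L, hL, hKL, -, -, hov, -, -⟩ := outside_local hS' hT hK
  obtain ⟨-, -, M0, K2, L2, h0, hT0, p⟩ := outside_main hS' am hT hTS' hK hL hKL hov
  exact ⟨S', M0, K, K2, L, L2, h0, hT0, p⟩

theorem TwoComps.comps_ne {K1 K2 L1 L2 : Subgroup G} (p : TwoComps M T K1 K2 L1 L2) (h : Hyp S M)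
    (hT : T ∈ maxStraddlingTwoSubgroups M) : K1 ≠ K2 := by
  rintro rfl
  exact p.ne (p.m1.unique h hT p.m2.max p.m2.le).symm

end Cfsg.Agent.JComp
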