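import Cfsg.Agent.Lib.JComp.Basic

/-!
J-components: the structure of `⟨K, J⟩` on the four-group `W_K`.
-/

set_option autoImplicit false
set_option linter.unusedSectionVars false
set_option linter.style.haveILetI false

namespace Cfsg.Agent.JComp

open Subgroup Cfsg Cfsg.Agent.CharP Cfsg.Agent.PLocal.ThompsonSubgroup
open scoped commutatorElement

variable {G : Type*} [Group G] [Finite G]

/-- `O₂(K)`. -/
abbrev Qk (K : Subgroup G) : Subgroup G := pCoreOf 2 K

theorem normalizer_le_normalizer_Qk (K : Subgroup G) :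
    normalizer (K : Set G) ≤ normalizer (Qk K : Set G) := normalizer_le_normalizer_pCoreOf 2 K

theorem normalizer_le_normalizer_wOf (K : Subgroup G) :
    normalizer (K : Set G) ≤ normalizer (wOf K : Set G) :=
  (le_inf ((normalizer_le_normalizer_Qk K).trans (normalizer_le_normalizer_omegaCenterOf _))
    le_rfl).trans (normalizer_inf_le_normalizer_commutator _ _)

theorem wOf_le_omega (K : Subgroup G) : wOf K ≤ omegaCenterOf (Qk K) := by
  rw [wOf, commutator_le]
  intro u hu k hk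
  rw [commutatorElement_def, show u * k * u⁻¹ * k⁻¹ = u * (k * u⁻¹ * k⁻¹) by group]
  exact mul_mem hu (conj_mem_normalizer
    ((normalizer_le_normalizer_Qk K).trans (normalizer_le_normalizer_omegaCenterOf _)
      (le_normalizer hk)) (inv_mem hu))

theorem wOf_le_Qk (K : Subgroup G) : wOf K ≤ Qk K :=
  (wOf_le_omega K).trans (omegaCenterOf_le _)

theorem Qk_le_centralizer_wOf (K : Subgroup G) : Qk K ≤ centralizer (wOf K : Set G) :=
  fun q hq w hw => ((mem_omegaCenterOf.1 (wOf_le_omega K hw)).2.1 q hq).symm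

theorem Qk_cjg (g : G) (K : Subgroup G) : Qk (cjg g K) = cjg g (Qk K) := pCoreOf_conj g K

theorem wOf_cjg (g : G) (K : Subgroup G) : wOf (cjg g K) = cjg g (wOf K) := by
  rw [wOf, wOf, show pCoreOf 2 (cjg g K) = cjg g (pCoreOf 2 K) from Qk_cjg g K,
    ← cjg_omegaCenterOf]
  exact (map_commutator _ _ _).symm

variable {T K : Subgroup G}

theorem comp_gen (hK : IsJComponent T K) :
    closure {g : G | g ∈ K ∧ Odd (orderOf g)} = K := hK.1

theorem comp_comm (hK : IsJComponent T K) : ⁅K, Jt T⁆ = K := hK.2.1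

theorem comp_J_le_normalizer (hK : IsJComponent T K) : Jt T ≤ normalizer (K : Set G) := by
  nth_rewrite 1 [← comp_comm hK]
  exact normalizer_commutator_ge_right K _

theorem comp_Y_le_normalizer (hK : IsJComponent T K) :
    K ⊔ Jt T ≤ normalizer (K : Set G) := sup_le le_normalizer (comp_J_le_normalizer hK)

theorem comp_wexp (hK : IsJComponent T K) : ∀ w ∈ wOf K, w * w = 1 := hK.2.2.2.2.2

theorem comp_wcard (hK : IsJComponent T K) : Nat.card (wOf K) = 4 := hK.2.2.2.2.1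

theorem comp_W_comm (hK : IsJComponent T K) {v w : G} (hv : v ∈ wOf K) (hw : w ∈ wOf K) :
    v * w = w * v :=
  isElementaryAbelian_two_comm (isElementaryAbelian_two_of (comp_wexp hK)) hv hw

theorem comp_card (hK : IsJComponent T K) : Nat.card K = 3 * Nat.card (Qk K) := by
  rw [← card_mul_relIndex' (pCoreOf_le 2 K), hK.2.2.1, mul_comm]

theorem comp_pow3 (hK : IsJComponent T K) {y : G} (hy : y ∈ K) : y ^ 3 ∈ Qk K := by
  haveI := pCoreOf_normal 2 K
  have h := pow_index_mem ((Qk K).subgroupOf K) (⟨y, hy⟩ : K)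
  rw [show ((Qk K).subgroupOf K).index = 3 from hK.2.2.1, mem_subgroupOf] at h
  exact h

theorem comp_two_le (hK : IsJComponent T K) {P : Subgroup G} (hP : IsPGroup 2 ↥P) (hPK : P ≤ K) :
    P ≤ Qk K := by
  intro x hx
  obtain ⟨k, hk⟩ := hP ⟨x, hx⟩
  have hd : orderOf x ∣ 2 ^ k := orderOf_dvd_of_pow_eq_one (congrArg Subtype.val hk)
  obtain ⟨m, hm⟩ := exists_pow_eq_self_of_coprime (x := x) (n := 3)
    (Nat.Coprime.coprime_dvd_right hd (Nat.Coprime.pow_right k (by norm_num)))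
  rw [← hm]
  exact pow_mem (comp_pow3 hK (hPK hx)) m

theorem comp_odd_pow3 (hK : IsJComponent T K) {y : G} (hy : y ∈ K) (ho : Odd (orderOf y)) :
    y ^ 3 = 1 :=
  eq_one_of_mem_pgroup (isPGroup_pCoreOf 2 K) (comp_pow3 hK hy)
    (Nat.Coprime.coprime_dvd_left (orderOf_pow_dvd 3) (Nat.coprime_two_right.2 ho))

theorem comp_exists_three (hK : IsJComponent T K) : ∃ x ∈ K, orderOf x = 3 := by
  obtain ⟨x, hx⟩ := exists_prime_orderOf_dvd_card' (G := K) 3 (comp_card hK ▸ dvd_mul_right 3 _)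
  exact ⟨x, x.2, by rwa [orderOf_coe]⟩

theorem comp_card_Qk (hK : IsJComponent T K) : ∃ n, Nat.card (Qk K) = 2 ^ n :=
  IsPGroup.iff_card.1 (isPGroup_pCoreOf 2 K)

theorem comp_zpowers_syl (hK : IsJComponent T K) {x : G} (hx : x ∈ K) (ho : orderOf x = 3) :
    IsSylIn 3 (zpowers x) K := by
  haveI : Fact (Nat.Prime 3) := ⟨Nat.prime_three⟩
  have hle : zpowers x ≤ K := zpowers_le.2 hx
  refine isSylIn_of_not_dvd (IsPGroup.of_card (n := 1) (by rw [Nat.card_zpowers, ho, pow_one])) hle ?_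
  obtain ⟨n, hn⟩ := comp_card_Qk hK
  have h := card_mul_relIndex' hle
  rw [Nat.card_zpowers, ho, comp_card hK, Nat.mul_left_cancel_iff (by norm_num)] at h
  rw [h, hn]
  intro hd
  have := Nat.prime_three.dvd_of_dvd_pow hd
  norm_num at this

theorem comp_gen_three (hK : IsJComponent T K) {x : G} (hx : x ∈ K) (ho : orderOf x = 3) :
    Qk K ⊔ zpowers x = K := by
  have hle : Qk K ⊔ zpowers x ≤ K := sup_le (pCoreOf_le 2 K) (zpowers_le.2 hx)
  refine eq_of_le_of_card_ge hle ?_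
  obtain ⟨n, hn⟩ := comp_card_Qk hK
  have h1 : Nat.card (Qk K) ∣ Nat.card ↥(Qk K ⊔ zpowers x) := card_dvd_of_le le_sup_left
  have h2 : 3 ∣ Nat.card ↥(Qk K ⊔ zpowers x) := by
    rw [← ho, ← Nat.card_zpowers]; exact card_dvd_of_le le_sup_right
  rw [comp_card hK]
  refine Nat.le_of_dvd Nat.card_pos (Nat.Coprime.mul_dvd_of_dvd_of_dvd ?_ h2 h1)
  rw [hn]
  exact Nat.Coprime.pow_right n (by norm_num)

/-- A subgroup normalised by `K` and containing an element of order 3 of `K` contains `K`. -/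
theorem comp_induct (hK : IsJComponent T K) {H : Subgroup G} {x : G} (hx : x ∈ K)
    (ho : orderOf x = 3) (hxH : x ∈ H) (hn : K ≤ normalizer (H : Set G)) : K ≤ H := by
  haveI : Fact (Nat.Prime 3) := ⟨Nat.prime_three⟩
  rw [← comp_gen hK, closure_le]
  rintro y ⟨hy, hyo⟩
  rcases eq_or_ne y 1 with rfl | hy1
  · exact one_mem _
  have hy3 : orderOf y = 3 := orderOf_eq_prime (comp_odd_pow3 hK hy hyo) hy1
  obtain ⟨g, hg, he⟩ := (comp_zpowers_syl hK hx ho).exists_conj (comp_zpowers_syl hK hy hy3)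
  obtain ⟨u, hu, huy⟩ := (he.ge (mem_zpowers y) : y ∈ cjg g (zpowers x))
  rw [← huy]
  exact conj_mem_normalizer (hn hg) (zpowers_le.2 hxH hu)

/-- An element of order 3 of `K` fixes no involution of `W_K`. -/
theorem comp_fixed_W (hK : IsJComponent T K) {x w : G} (hx : x ∈ K) (ho : orderOf x = 3)
    (hw : w ∈ wOf K) (hc : x * w = w * x) : w = 1 := by
  by_contra hw1
  have hWN : K ≤ normalizer (wOf K : Set G) :=
    le_normalizer.trans (normalizer_le_normalizer_wOf K)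
  have hx3 : x * x * x = 1 := by
    have := pow_orderOf_eq_one x
    rwa [ho, pow_succ, pow_two] at this
  have hxi : x⁻¹ = x * x := inv_eq_of_mul_eq_one_right (by rw [← mul_assoc]; exact hx3)
  -- `x` centralises `W`
  have hxW : x ∈ centralizer (wOf K : Set G) := by
    obtain ⟨w2, hw2, hne⟩ : ∃ w2 ∈ wOf K, w2 ≠ 1 ∧ w2 ≠ w := by
      by_contra h
      push Not at h
      have := card_le_two_of_forall (H := wOf K) (z := w) fun v hv =>
        (eq_or_ne v 1).imp id fun h1 => h v hv h1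
      rw [comp_wcard hK] at this
      omega
    have hv : x * w2 * x⁻¹ ∈ wOf K := conj_mem_normalizer (hWN hx) hw2
    have key : x * w2 * x⁻¹ = w2 := by
      rcases four_cases (comp_wcard hK) (comp_wexp hK) hw hw2 hw1 hne.1 hne.2.symm hv with
        h | h | h | h
      · exact absurd (conj_eq_one_iff.1 h) hne.1
      · exfalso
        apply hne.2
        calc w2 = x⁻¹ * (x * w2 * x⁻¹) * x := by group
          _ = x⁻¹ * (w * x) := by rw [h, mul_assoc]
          _ = w := by rw [← hc]; group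
      · exact h
      · -- `x` cubed gives a contradiction
        exfalso
        have e2 : x * (x * w2 * x⁻¹) * x⁻¹ = w2 := by
          have ew : x * w * x⁻¹ = w := by rw [hc, mul_inv_cancel_right]
          calc x * (x * w2 * x⁻¹) * x⁻¹ = (x * w * x⁻¹) * (x * w2 * x⁻¹) := by
                nth_rewrite 1 [h]; group
            _ = w * (w * w2) := by rw [ew, h]
            _ = w2 := by rw [← mul_assoc, comp_wexp hK w hw, one_mul]
        have e3 : x⁻¹ * w2 * x = w2 := by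
          rw [hxi]
          calc x * x * w2 * x = x * x * w2 * (x * x)⁻¹ * (x * x * x) := by group
            _ = x * (x * w2 * x⁻¹) * x⁻¹ := by rw [hx3, mul_one]; group
            _ = w2 := e2
        have e4 : x * w2 * x⁻¹ = w2 := by
          calc x * w2 * x⁻¹ = x * (x⁻¹ * w2 * x) * x⁻¹ := by rw [e3]
            _ = w2 := by group
        rw [e4] at h
        exact hw1 (by simpa using h.symm)
    intro v hv
    exact (four_commutes (comp_wcard hK) (comp_wexp hK) hw hw2 hw1 hne.1 hne.2.symm hc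
      (mul_inv_eq_iff_eq_mul.1 key) v hv).symm
  have hKW : K ≤ centralizer (wOf K : Set G) :=
    comp_induct hK hx ho hxW (hWN.trans (normalizer_le_normalizer_centralizer' _))
  have hUN : K ≤ normalizer (omegaCenterOf (Qk K) : Set G) :=
    le_normalizer.trans ((normalizer_le_normalizer_Qk K).trans
      (normalizer_le_normalizer_omegaCenterOf _))
  have hxU : x ∈ centralizer (omegaCenterOf (Qk K) : Set G) := by
    intro u hu
    have hv : ⁅u, x⁆ ∈ wOf K := commutator_mem_commutator hu hx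
    have hcx : x * ⁅u, x⁆ = ⁅u, x⁆ * x := (hKW hx _ hv).symm
    have e : x * u * x⁻¹ = ⁅u, x⁆⁻¹ * u := by rw [commutatorElement_def]; group
    have e3 : ⁅u, x⁆⁻¹ * (⁅u, x⁆⁻¹ * (⁅u, x⁆⁻¹ * u)) = u := by
      have ec : x * ⁅u, x⁆⁻¹ * x⁻¹ = ⁅u, x⁆⁻¹ := by
        have hgen : ∀ c : G, x * c⁻¹ * x⁻¹ = (x * c * x⁻¹)⁻¹ := fun c => by group
        rw [hgen, hcx, mul_inv_cancel_right]
      have f : ∀ v, x * (⁅u, x⁆⁻¹ * v) * x⁻¹ = ⁅u, x⁆⁻¹ * (x * v * x⁻¹) := fun v => by
        calc x * (⁅u, x⁆⁻¹ * v) * x⁻¹ = (x * ⁅u, x⁆⁻¹ * x⁻¹) * (x * v * x⁻¹) := by group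
          _ = _ := by rw [ec]
      calc ⁅u, x⁆⁻¹ * (⁅u, x⁆⁻¹ * (⁅u, x⁆⁻¹ * u))
          = x * (x * (x * u * x⁻¹) * x⁻¹) * x⁻¹ := by rw [e, f, e, f, f, e]
        _ = (x * x * x) * u * (x * x * x)⁻¹ := by group
        _ = u := by rw [hx3]; group
    have h1 : ⁅u, x⁆ = 1 := by
      have hh := comp_wexp hK _ hv
      have hi : ⁅u, x⁆⁻¹ = ⁅u, x⁆ := inv_eq_of_mul_eq_one_right hh
      rw [hi, ← mul_assoc ⁅u, x⁆ ⁅u, x⁆, hh, one_mul] at e3
      simpa using e3
    exact (commutatorElement_eq_one_iff_mul_comm.1 h1)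
  have hKU := comp_induct hK hx ho hxU (hUN.trans (normalizer_le_normalizer_centralizer' _))
  have hbot : wOf K = ⊥ :=
    commutator_eq_bot_iff_le_centralizer.2 (le_centralizer_iff.1 hKU)
  have h4 := comp_wcard hK
  rw [hbot, card_bot] at h4
  omega

theorem comp_not_centralizes (hK : IsJComponent T K) {x : G} (hx : x ∈ K) (ho : orderOf x = 3) :
    x ∉ centralizer (wOf K : Set G) := fun hc => by
  have h4 := comp_wcard hK
  have hb : wOf K = ⊥ := (eq_bot_iff_forall _).2 fun w hw =>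
    comp_fixed_W hK hx ho hw (hc w hw).symm
  rw [hb, card_bot] at h4
  omega

/-! ### The action of `J` on `W_K` -/

theorem comp_exists_moving (hK : IsJComponent T K) :
    ∃ A, MaxEA T A ∧ ∃ a ∈ A, a ∉ centralizer (wOf K : Set G) := by
  by_contra h
  push Not at h
  have hJ : Jt T ≤ centralizer (wOf K : Set G) := J_le_of_forall fun A hA a ha => h A hA a ha
  have hKW : K ≤ centralizer (wOf K : Set G) := by
    nth_rewrite 1 [← comp_comm hK]
    rw [commutator_le]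
    intro k hk j hj
    rw [commutatorElement_def]
    refine mul_mem (conj_mem_normalizer (normalizer_le_normalizer_centralizer' _
      (normalizer_le_normalizer_wOf K (le_normalizer hk))) (hJ hj)) (inv_mem (hJ hj))
  obtain ⟨x, hx, ho⟩ := comp_exists_three hK
  exact comp_not_centralizes hK hx ho (hKW hx)

/-- The fixed points of an involution acting on `W_K`. -/
theorem comp_transvection (hK : IsJComponent T K) {a : G}
    (ha2 : a * a = 1) (haN : a ∈ normalizer (wOf K : Set G))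
    (haC : a ∉ centralizer (wOf K : Set G)) :
    ∃ z ∈ wOf K, z ≠ 1 ∧ a * z = z * a ∧
      ∀ w ∈ wOf K, a * w = w * a → w = 1 ∨ w = z := by
  obtain ⟨w, hw, hne⟩ : ∃ w ∈ wOf K, a * w ≠ w * a := by
    by_contra h
    push Not at h
    exact haC fun w hw => (h w hw).symm
  have hai : a⁻¹ = a := inv_eq_of_mul_eq_one_right ha2
  have hv : a * w * a⁻¹ ∈ wOf K := conj_mem_normalizer haN hw
  have hz1 : w * (a * w * a⁻¹) ≠ 1 := fun e => hne (by
    have h' : a * w * a⁻¹ = w := by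
      calc a * w * a⁻¹ = w * w * (a * w * a⁻¹) := by rw [comp_wexp hK w hw, one_mul]
        _ = w * (w * (a * w * a⁻¹)) := mul_assoc _ _ _
        _ = w := by rw [e, mul_one]
    exact mul_inv_eq_iff_eq_mul.1 h')
  have hza : a * (w * (a * w * a⁻¹)) = w * (a * w * a⁻¹) * a := by
    apply mul_inv_eq_iff_eq_mul.1
    calc a * (w * (a * w * a⁻¹)) * a⁻¹ = (a * w * a⁻¹) * ((a * a) * w * (a * a)⁻¹) := by group
      _ = (a * w * a⁻¹) * w := by rw [ha2]; group
      _ = w * (a * w * a⁻¹) := comp_W_comm hK hv hw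
  refine ⟨_, mul_mem hw hv, hz1, hza, fun u hu hua => ?_⟩
  have hw1 : w ≠ 1 := by rintro rfl; exact hne (by simp)
  have hzw : w * (a * w * a⁻¹) ≠ w := by
    intro e
    have h' : a * w * a⁻¹ = 1 := by simpa using e
    exact hw1 (conj_eq_one_iff.1 h')
  rcases four_cases (comp_wcard hK) (comp_wexp hK) (mul_mem hw hv) hw hz1 hw1 hzw hu with
    h | h | h | h
  · exact Or.inl h
  · exact Or.inr h
  · exact absurd (h ▸ hua) hne
  · exfalso
    have e : u = a * w * a⁻¹ := by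
      rw [h, mul_assoc, comp_W_comm hK hv hw, ← mul_assoc, comp_wexp hK w hw, one_mul]
    apply hne
    have e2 : a * u * a⁻¹ = u := by rw [hua, mul_inv_cancel_right]
    have : u = w := by
      rw [← e2, e]
      calc a * (a * w * a⁻¹) * a⁻¹ = (a * a) * w * (a * a)⁻¹ := by group
        _ = w := by rw [ha2]; group
    exact this ▸ hua

theorem comp_S0 (hT : IsPGroup 2 ↥T) (hK : IsJComponent T K) :
    IsSylowTwoIn (Jt T ⊔ Qk K) (K ⊔ Jt T) := by
  have hp : IsPGroup 2 ↥(Jt T ⊔ Qk K) :=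
    IsPGroup.to_sup_of_normal_right' (isPGroup_J hT) (isPGroup_pCoreOf 2 K)
      ((comp_J_le_normalizer hK).trans (normalizer_le_normalizer_Qk K))
  have hle : Jt T ⊔ Qk K ≤ K ⊔ Jt T :=
    sup_le le_sup_right ((pCoreOf_le 2 K).trans le_sup_left)
  refine ⟨hle, hp, ?_⟩
  have hinf : Qk K ⊓ Jt T = K ⊓ Jt T := le_antisymm (inf_le_inf_right _ (pCoreOf_le 2 K))
    (le_inf (comp_two_le hK ((isPGroup_J hT).to_le inf_le_right) inf_le_left) inf_le_right)
  have h1 := card_sup_mul_inf (comp_J_le_normalizer hK)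
  have h2 := card_sup_mul_inf
    ((comp_J_le_normalizer hK).trans (normalizer_le_normalizer_Qk K))
  rw [hinf, sup_comm] at h2
  have h3 := card_mul_relIndex' hle
  rw [← h3, comp_card hK] at h1
  have h5 : Nat.card ↥(Jt T ⊔ Qk K) * Nat.card ↥(K ⊓ Jt T) * (Jt T ⊔ Qk K).relIndex (K ⊔ Jt T) =
      Nat.card ↥(Jt T ⊔ Qk K) * Nat.card ↥(K ⊓ Jt T) * 3 := by
    linear_combination h1 - 3 * h2
  have : (Jt T ⊔ Qk K).relIndex (K ⊔ Jt T) = 3 :=
    Nat.eq_of_mul_eq_mul_left (Nat.mul_pos Nat.card_pos Nat.card_pos) h5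
  rw [this]
  decide

theorem comp_J_S0 (hT : IsPGroup 2 ↥T) (hK : IsJComponent T K) :
    Jt (Jt T ⊔ Qk K) = Jt T :=
  hK.2.2.2.1 _ (comp_S0 hT hK) le_sup_left

theorem comp_Qk_le_normalizer_J (hT : IsPGroup 2 ↥T) (hK : IsJComponent T K) :
    Qk K ≤ normalizer (Jt T : Set G) := by
  have := le_normalizer_J (Jt T ⊔ Qk K)
  rw [comp_J_S0 hT hK] at this
  exact le_sup_right.trans this

/-- Elementary abelian subgroups of `J ⊔ O₂(K)` of order at least `a(T)` are maximal ones of `T`. -/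
theorem comp_maxEA_of_le (hT : IsPGroup 2 ↥T) (hK : IsJComponent T K) {B : Subgroup G}
    (hB : B ≤ Jt T ⊔ Qk K) (hBe : IsElementaryAbelian 2 B) (hc : aOrd T ≤ Nat.card B) :
    MaxEA T B :=
  MaxEA.congr (comp_J_S0 hT hK)
    (maxEA_of_card hB hBe (by rwa [aOrd_congr (comp_J_S0 hT hK)]))

theorem comp_A_normalizer (hK : IsJComponent T K) {A : Subgroup G} (hA : MaxEA T A) :
    A ≤ normalizer (wOf K : Set G) :=
  hA.le_J.trans ((comp_J_le_normalizer hK).trans (normalizer_le_normalizer_wOf K))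

theorem comp_A_index (hK : IsJComponent T K) {A : Subgroup G} (hA : MaxEA T A) {a : G}
    (ha : a ∈ A) (haC : a ∉ centralizer (wOf K : Set G)) :
    Nat.card A ≤ 2 * Nat.card ↥(A ⊓ centralizer (wOf K : Set G)) := by
  obtain ⟨z, hzW, hz1, hza, hfix⟩ :=
    comp_transvection hK (isElementaryAbelian_two_sq hA.2.1 ha) (comp_A_normalizer hK hA ha) haC
  obtain ⟨w, hw, hwa⟩ : ∃ w ∈ wOf K, a * w ≠ w * a := by
    by_contra h
    push Not at h
    exact haC fun w hw => (h w hw).symm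
  have hw1 : w ≠ 1 := by rintro rfl; exact hwa (by simp)
  have hzw : z ≠ w := by rintro rfl; exact hwa hza
  -- every element of `A` moving `W` acts as `a`
  have key : ∀ b ∈ A, b ∉ centralizer (wOf K : Set G) →
      b * z * b⁻¹ = z ∧ b * w * b⁻¹ = z * w := by
    intro b hb hbC
    have hbN := comp_A_normalizer hK hA hb
    have hbz : b * z * b⁻¹ = z := by
      refine ((hfix _ (conj_mem_normalizer hbN hzW) ?_).resolve_left
        fun e => hz1 (conj_eq_one_iff.1 e))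
      have hab := isElementaryAbelian_two_comm hA.2.1 ha hb
      calc a * (b * z * b⁻¹) = (a * b) * z * b⁻¹ := by group
        _ = b * (a * z) * b⁻¹ := by rw [hab]; group
        _ = b * z * (a * b⁻¹) := by rw [hza]; group
        _ = b * z * b⁻¹ * a := by
          rw [isElementaryAbelian_two_comm hA.2.1 ha (inv_mem hb)]; group
    refine ⟨hbz, ?_⟩
    rcases four_cases (comp_wcard hK) (comp_wexp hK) hzW hw hz1 hw1 hzw
      (conj_mem_normalizer hbN hw) with h | h | h | h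
    · exact absurd (conj_eq_one_iff.1 h) hw1
    · rw [← hbz] at h
      exact absurd (mul_left_cancel (mul_right_cancel h)).symm hzw
    · exact absurd (fun v hv => (four_commutes (comp_wcard hK) (comp_wexp hK) hzW hw hz1 hw1 hzw
        (mul_inv_eq_iff_eq_mul.1 hbz) (mul_inv_eq_iff_eq_mul.1 h) v hv).symm) hbC
    · exact h
  have h2 : (A ⊓ centralizer (wOf K : Set G)).relIndex A = 2 := by
    rw [relIndex, index_eq_two_iff_exists_notMem_and]
    refine ⟨⟨a, ha⟩, fun h => haC (mem_subgroupOf.1 h).2, fun b => ?_⟩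
    by_cases hb : (b : G) ∈ centralizer (wOf K : Set G)
    · exact Or.inr (mem_subgroupOf.2 ⟨b.2, hb⟩)
    refine Or.inl (mem_subgroupOf.2 ⟨mul_mem b.2 ha, ?_⟩)
    obtain ⟨b1, b2⟩ := key b b.2 hb
    obtain ⟨a1, a2⟩ := key a ha haC
    intro v hv
    refine (four_commutes (comp_wcard hK) (comp_wexp hK) hzW hw hz1 hw1 hzw ?_ ?_ v hv).symm
    · refine mul_inv_eq_iff_eq_mul.1 ?_
      calc (b : G) * a * z * ((b : G) * a)⁻¹ = b * (a * z * a⁻¹) * (b : G)⁻¹ := by group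
        _ = z := by rw [a1, b1]
    · refine mul_inv_eq_iff_eq_mul.1 ?_
      calc (b : G) * a * w * ((b : G) * a)⁻¹ = b * (a * w * a⁻¹) * (b : G)⁻¹ := by group
        _ = (b * z * (b : G)⁻¹) * (b * w * (b : G)⁻¹) := by rw [a2]; group
        _ = w := by rw [b1, b2, ← mul_assoc, comp_wexp hK z hzW, one_mul]
  have h := card_mul_relIndex' (inf_le_left : A ⊓ centralizer (wOf K : Set G) ≤ A)
  rw [h2] at h
  omega

theorem comp_B0 (hT : IsPGroup 2 ↥T) (hK : IsJComponent T K) {A : Subgroup G} (hA : MaxEA T A)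
    {a : G} (ha : a ∈ A) (haC : a ∉ centralizer (wOf K : Set G)) :
    MaxEA T (A ⊓ centralizer (wOf K : Set G) ⊔ wOf K) ∧
      ∃ z ∈ wOf K, z ∈ A ∧ z ≠ 1 ∧ ∀ w ∈ wOf K, w ∈ A → w = 1 ∨ w = z := by
  obtain ⟨z, hzW, hz1, hza, hfix⟩ :=
    comp_transvection hK (isElementaryAbelian_two_sq hA.2.1 ha) (comp_A_normalizer hK hA ha) haC
  set A0 := A ⊓ centralizer (wOf K : Set G)
  have hcomm : ∀ v ∈ A0, ∀ w ∈ wOf K, v * w = w * v := fun v hv w hw => (hv.2 w hw).symm
  have hBe : IsElementaryAbelian 2 (A0 ⊔ wOf K) :=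
    IsElementaryAbelian.sup (IsElementaryAbelian.mono hA.2.1 inf_le_left)
      (isElementaryAbelian_two_of (comp_wexp hK)) fun v hv w hw => (hcomm v hv w hw).symm
  have hBS : A0 ⊔ wOf K ≤ Jt T ⊔ Qk K :=
    sup_le_sup (inf_le_left.trans hA.le_J) (wOf_le_Qk K)
  have hWA : ∀ w ∈ wOf K, w ∈ A → w = 1 ∨ w = z := fun w hw hwA =>
    hfix w hw (isElementaryAbelian_two_comm hA.2.1 ha hwA)
  have hfz : ∀ w ∈ A0 ⊓ wOf K, w = 1 ∨ w = z := fun w hw => hWA w hw.2 hw.1.1
  have hi : Nat.card ↥(A0 ⊓ wOf K) ≤ 2 := card_le_two_of_forall hfz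
  have hc := card_sup_mul_inf (le_normalizer_of_commute hcomm)
  rw [comp_wcard hK] at hc
  have hidx := comp_A_index hK hA ha haC
  have hle : Nat.card ↥(A0 ⊔ wOf K) ≤ Nat.card A := by
    rw [hA.card, ← aOrd_congr (comp_J_S0 hT hK)]
    exact card_le_aOrd hBS hBe
  have hge : Nat.card A ≤ Nat.card ↥(A0 ⊔ wOf K) := by
    have : Nat.card A * Nat.card ↥(A0 ⊓ wOf K) ≤
        Nat.card ↥(A0 ⊔ wOf K) * Nat.card ↥(A0 ⊓ wOf K) := by
      rw [hc]
      calc _ ≤ (2 * Nat.card A0) * 2 := Nat.mul_le_mul hidx hi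
        _ = _ := by ring
    exact Nat.le_of_mul_le_mul_right this Nat.card_pos
  refine ⟨comp_maxEA_of_le hT hK hBS hBe (hA.card ▸ hge), z, hzW, ?_, hz1, hWA⟩
  by_contra hzA
  have hb : A0 ⊓ wOf K = ⊥ := (eq_bot_iff_forall _).2 fun w hw =>
    (hfz w hw).resolve_right fun e => hzA (e ▸ hw.1.1)
  rw [hb, card_bot, mul_one] at hc
  have h1 : Nat.card ↥(A0 ⊔ wOf K) = Nat.card A := le_antisymm hle hge
  have := Nat.card_pos (α := A0)
  have h2 : Nat.card A ≤ 2 * Nat.card A0 := hidx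
  omega

theorem comp_W_le_J (hT : IsPGroup 2 ↥T) (hK : IsJComponent T K) : wOf K ≤ Jt T := by
  obtain ⟨A, hA, a, ha, haC⟩ := comp_exists_moving hK
  exact le_sup_right.trans (comp_B0 hT hK hA ha haC).1.le_J

theorem comp_exists_z (hT : IsPGroup 2 ↥T) (hK : IsJComponent T K) :
    ∃ z ∈ wOf K, z ∈ Z0 T ∧ z ≠ 1 ∧ ∀ w ∈ wOf K, w ∈ Z0 T → w = 1 ∨ w = z := by
  obtain ⟨A, hA, a, ha, haC⟩ := comp_exists_moving hK
  obtain ⟨-, z, hzW, hzA, hz1, hWA⟩ := comp_B0 hT hK hA ha haC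
  refine ⟨z, hzW, ?_, hz1, fun w hw hw0 => hWA w hw (Z0_le_maxEA hA hw0)⟩
  obtain ⟨u, huW, huo, huc⟩ := exists_order_prime_central (p := 2) (isPGroup_J hT)
    (comp_W_le_J hT hK) ((comp_J_le_normalizer hK).trans (normalizer_le_normalizer_wOf K))
    (fun h => by have := comp_wcard hK; rw [h, card_bot] at this; omega)
  have hu2 : u * u = 1 := by
    have := pow_orderOf_eq_one u
    rwa [huo, pow_two] at this
  have hu0 : u ∈ Z0 T := mem_Z0 (J_le T (comp_W_le_J hT hK huW)) huc hu2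
  rcases hWA u huW (Z0_le_maxEA hA hu0) with h | h
  · rw [h, orderOf_one] at huo
    omega
  · exact h ▸ hu0

theorem comp_card_Z0_inf_W (hT : IsPGroup 2 ↥T) (hK : IsJComponent T K) :
    Nat.card ↥(Z0 T ⊓ wOf K) = 2 := by
  obtain ⟨z, hzW, hz0, hz1, h⟩ := comp_exists_z hT hK
  refine le_antisymm (card_le_two_of_forall fun w hw => h w hw.2 hw.1) ?_
  have : Nontrivial ↥(Z0 T ⊓ wOf K) :=
    ⟨⟨⟨z, hz0, hzW⟩, 1, fun e => hz1 (congrArg Subtype.val e)⟩⟩
  exact Finite.one_lt_card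

/-! ### `⟨K, J⟩ ∩ C(W_K)` and the subgroup `V` -/

theorem comp_odd_mem (hT : IsPGroup 2 ↥T) (hK : IsJComponent T K) {y : G} (hy : y ∈ K ⊔ Jt T)
    (ho : Odd (orderOf y)) : y ∈ K := by
  obtain ⟨n, hn⟩ := IsPGroup.iff_card.1 (isPGroup_J hT)
  refine odd_mem_of_two_index (comp_Y_le_normalizer hK) (n := n) ?_ hy ho
  have h1 := card_sup_mul_inf (comp_J_le_normalizer hK)
  rw [← card_mul_relIndex' (le_sup_left : K ≤ K ⊔ Jt T)] at h1
  rw [← hn]
  refine ⟨Nat.card ↥(K ⊓ Jt T), ?_⟩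
  apply Nat.eq_of_mul_eq_mul_left (Nat.card_pos (α := K))
  rw [← h1, mul_assoc]

/-- `⟨K, J⟩ ∩ C(W_K)`. -/
abbrev Rk (T K : Subgroup G) : Subgroup G := (K ⊔ Jt T) ⊓ centralizer (wOf K : Set G)

theorem comp_Rk_le (hT : IsPGroup 2 ↥T) (hK : IsJComponent T K) :
    Rk T K ≤ Jt T ⊔ Qk K := by
  have hp : IsPGroup 2 ↥(Rk T K) := by
    rw [IsPGroup.iff_orderOf]
    rintro ⟨y, hy⟩
    obtain ⟨k, m, hm2, hm⟩ := Nat.exists_eq_two_pow_mul_odd (orderOf_pos y).ne'
    have ho : orderOf (y ^ 2 ^ k) = m := by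
      rw [orderOf_pow' _ (by positivity), hm, Nat.gcd_mul_right_left,
        Nat.mul_div_cancel_left _ (by positivity)]
    have hyK : y ^ 2 ^ k ∈ K := comp_odd_mem hT hK (pow_mem hy.1 _) (ho.symm ▸ hm2)
    have h1 : y ^ 2 ^ k = 1 := by
      by_contra hne
      exact comp_not_centralizes hK hyK
        (orderOf_eq_prime (comp_odd_pow3 hK hyK (ho.symm ▸ hm2)) hne) (pow_mem hy.2 _)
    obtain ⟨i, -, hi⟩ := (Nat.dvd_prime_pow Nat.prime_two).1 (orderOf_dvd_of_pow_eq_one h1)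
    exact ⟨i, by rw [orderOf_mk, hi]⟩
  refine le_trans (le_pCoreOf inf_le_left ?_ hp)
    (pCoreOf_le_of_isSylIn (isSylowTwoIn_iff.1 (comp_S0 hT hK)))
  refine (le_inf le_normalizer ?_).trans (normalizer_inf_le_normalizer_inf _ _)
  exact (comp_Y_le_normalizer hK).trans
    ((normalizer_le_normalizer_wOf K).trans (normalizer_le_normalizer_centralizer' _))

/-- The intersection of the elementary abelian subgroups of largest order centralising `W_K`. -/
abbrev Vk (T K : Subgroup G) : Subgroup G :=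
  sInf {B : Subgroup G | MaxEA T B ∧ B ≤ centralizer (wOf K : Set G)}

theorem comp_mem_family (hT : IsPGroup 2 ↥T) (hK : IsJComponent T K) {A : Subgroup G}
    (hA : MaxEA T A) {a : G} (ha : a ∈ A) (haC : a ∉ centralizer (wOf K : Set G)) :
    (A ⊓ centralizer (wOf K : Set G) ⊔ wOf K) ∈
      {B : Subgroup G | MaxEA T B ∧ B ≤ centralizer (wOf K : Set G)} :=
  ⟨(comp_B0 hT hK hA ha haC).1,
    sup_le inf_le_right fun w hw v hv => comp_W_comm hK hv hw⟩

theorem comp_Z0_le_Vk : Z0 T ≤ Vk T K := le_sInf fun _ hB => Z0_le_maxEA hB.1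

theorem comp_W_le_Vk (hT : IsPGroup 2 ↥T) (hK : IsJComponent T K) : wOf K ≤ Vk T K :=
  le_sInf fun _ hB w hw => mem_maxEA_of_centralizes hB.1 (J_le T (comp_W_le_J hT hK hw))
    (fun _ hb => (hB.2 hb w hw).symm) (comp_wexp hK w hw)

theorem comp_K_le_normalizer_Vk (hT : IsPGroup 2 ↥T) (hK : IsJComponent T K) :
    K ≤ normalizer (Vk T K : Set G) := by
  intro y hy
  apply mem_normalizer_of_cjg_le
  refine le_sInf fun B hB => ?_
  have hyi : y⁻¹ ∈ normalizer (wOf K : Set G) :=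
    normalizer_le_normalizer_wOf K (le_normalizer (inv_mem hy))
  have hC : cjg y⁻¹ B ≤ centralizer (wOf K : Set G) := by
    rw [← cjg_eq_self.2 (normalizer_le_normalizer_centralizer' _ hyi)]
    exact cjg_mono hB.2
  have hY : cjg y⁻¹ B ≤ K ⊔ Jt T := by
    rintro _ ⟨b, hb, rfl⟩
    exact mul_mem (mul_mem (mem_sup_left (inv_mem hy)) (mem_sup_right (hB.1.le_J hb)))
      (inv_mem (mem_sup_left (inv_mem hy)))
  have hmem : MaxEA T (cjg y⁻¹ B) :=
    comp_maxEA_of_le hT hK ((le_inf hY hC).trans (comp_Rk_le hT hK))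
      (IsElementaryAbelian.map hB.1.2.1 _) (by rw [card_cjg, hB.1.card])
  calc cjg y (Vk T K) ≤ cjg y (cjg y⁻¹ B) := cjg_mono (sInf_le ⟨hmem, hC⟩)
    _ = B := cjg_inv_cjg' y B

theorem comp_Vk_elem (hT : IsPGroup 2 ↥T) (hK : IsJComponent T K) :
    IsElementaryAbelian 2 (Vk T K) ∧ Vk T K ≤ Jt T := by
  obtain ⟨A, hA, a, ha, haC⟩ := comp_exists_moving hK
  have h := comp_mem_family hT hK hA ha haC
  exact ⟨IsElementaryAbelian.mono h.1.2.1 (sInf_le h), (sInf_le h).trans h.1.le_J⟩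

/-- An element of order 3 of `K` centralising a subgroup of index at most 4 in `V`. -/
theorem comp_exists_three_index (hT : IsPGroup 2 ↥T) (hK : IsJComponent T K) :
    ∃ x ∈ K, orderOf x = 3 ∧ Vk T K ⊓ centralizer {x} ⊔ wOf K = Vk T K := by
  obtain ⟨A, hA, a, ha, haC⟩ := comp_exists_moving hK
  obtain ⟨z, hzW, hz1, hza, hfix⟩ :=
    comp_transvection hK (isElementaryAbelian_two_sq hA.2.1 ha) (comp_A_normalizer hK hA ha) haC
  obtain ⟨x, hx, hxo⟩ := comp_exists_three hK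
  have hB := comp_mem_family hT hK hA ha haC
  set B0 := A ⊓ centralizer (wOf K : Set G) ⊔ wOf K
  have haK : a ∈ normalizer (K : Set G) := comp_J_le_normalizer hK (hA.le_J ha)
  have hca : (centralizer ({a} : Set G)).relIndex (Vk T K) ≤ 2 := by
    refine le_trans (relIndex_le_of_le_right (sInf_le hB) index_ne_zero_of_finite) ?_
    rw [← inf_relIndex_left B0, ← inf_comm]
    have h := card_mul_relIndex' (inf_le_right : centralizer ({a} : Set G) ⊓ B0 ≤ B0)
    have h2 : Nat.card ↥(A ⊓ centralizer (wOf K : Set G)) ≤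
        Nat.card ↥(centralizer ({a} : Set G) ⊓ B0) :=
      card_le_of_le (le_inf (fun v hv => mem_centralizer_singleton_iff.2
        (isElementaryAbelian_two_comm hA.2.1 hv.1 ha)) le_sup_left)
    have h3 := comp_A_index hK hA ha haC
    have h4 : Nat.card B0 = Nat.card A := by rw [hB.1.card, hA.card]
    have h5 : Nat.card ↥(centralizer ({a} : Set G) ⊓ B0) *
        (centralizer ({a} : Set G) ⊓ B0).relIndex B0 ≤
        Nat.card ↥(centralizer ({a} : Set G) ⊓ B0) * 2 := by omega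
    exact Nat.le_of_mul_le_mul_left h5 Nat.card_pos
  have hcxa : (centralizer ({x * a * x⁻¹} : Set G)).relIndex (Vk T K) ≤ 2 := by
    have e1 : cjg x (centralizer ({a} : Set G)) = centralizer ({x * a * x⁻¹} : Set G) := by
      rw [← centralizer_closure, ← centralizer_closure ({x * a * x⁻¹} : Set G), cjg_centralizer,
        cjg, MonoidHom.map_closure, Set.image_singleton]
      rfl
    rw [← e1, ← cjg_eq_self.2 (comp_K_le_normalizer_Vk hT hK hx), cjg, cjg,
      relIndex_map_map_of_injective _ _ (MulAut.conj x).injective]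
    exact hca
  set d := x * a * x⁻¹ * a⁻¹ with hd
  have hdK : d ∈ K := by
    have : d = x * (a * x⁻¹ * a⁻¹) := by rw [hd]; group
    rw [this]
    exact mul_mem hx (conj_mem_normalizer haK (inv_mem hx))
  have hdW : d ∉ centralizer (wOf K : Set G) := by
    intro hdc
    have hcm : ∀ w ∈ wOf K, a * (x * w * x⁻¹) * a⁻¹ = x * (a * w * a⁻¹) * x⁻¹ := by
      intro w hw
      have hu : a * (x * w * x⁻¹) * a⁻¹ ∈ wOf K := conj_mem_normalizer (comp_A_normalizer hK hA ha)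
        (conj_mem_normalizer (normalizer_le_normalizer_wOf K (le_normalizer hx)) hw)
      have e := hdc _ hu
      calc a * (x * w * x⁻¹) * a⁻¹
          = (a * (x * w * x⁻¹) * a⁻¹) * d * d⁻¹ := by group
        _ = d * (a * (x * w * x⁻¹) * a⁻¹) * d⁻¹ := by rw [e]
        _ = x * (a * w * a⁻¹) * x⁻¹ := by rw [hd]; group
    have h1 : a * (x * z * x⁻¹) = (x * z * x⁻¹) * a := by
      apply mul_inv_eq_iff_eq_mul.1
      rw [hcm z hzW, hza, mul_inv_cancel_right]
    rcases hfix _ (conj_mem_normalizer (normalizer_le_normalizer_wOf K (le_normalizer hx)) hzW) h1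
      with h | h
    · exact hz1 (conj_eq_one_iff.1 h)
    · exact hz1 (comp_fixed_W hK hx hxo hzW (mul_inv_eq_iff_eq_mul.1 h))
  obtain ⟨n, hn⟩ := comp_card_Qk hK
  set x' := d ^ 2 ^ n with hx'
  have hx'3 : x' ^ 3 = 1 := by
    rw [hx', ← pow_mul, mul_comm, pow_mul]
    have := pow_card_eq_one' (x := (⟨d ^ 3, comp_pow3 hK hdK⟩ : Qk K))
    rw [hn] at this
    exact congrArg Subtype.val this
  have hx'1 : x' ≠ 1 := by
    intro e
    refine hdW (Qk_le_centralizer_wOf K (comp_two_le hK (P := zpowers d) ?_ (zpowers_le.2 hdK)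
      (mem_zpowers d)))
    obtain ⟨i, -, hi⟩ := (Nat.dvd_prime_pow Nat.prime_two).1 (orderOf_dvd_of_pow_eq_one e)
    exact IsPGroup.of_card (n := i) (by rw [Nat.card_zpowers, hi])
  have hx'K : x' ∈ K := pow_mem hdK _
  have hx'o : orderOf x' = 3 := orderOf_eq_prime hx'3 hx'1
  refine ⟨x', hx'K, hx'o, ?_⟩
  set C := Vk T K ⊓ centralizer ({x'} : Set G)
  have hC4 : Nat.card (Vk T K) ≤ 4 * Nat.card C := by
    set C1 := (centralizer ({a} : Set G) ⊓ centralizer ({x * a * x⁻¹} : Set G)) ⊓ Vk T K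
    have h1 : C1 ≤ C := by
      refine le_inf inf_le_right fun v hv => ?_
      rw [mem_centralizer_singleton_iff]
      have e1 : Commute v a := mem_centralizer_singleton_iff.1 hv.1.1
      have e2 : Commute v (x * a * x⁻¹) := mem_centralizer_singleton_iff.1 hv.1.2
      exact ((e2.mul_right e1.inv_right).pow_right (2 ^ n)).eq
    have h2 := card_mul_relIndex' (inf_le_right : C1 ≤ Vk T K)
    rw [inf_relIndex_right] at h2
    have h3 : (centralizer ({a} : Set G) ⊓ centralizer ({x * a * x⁻¹} : Set G)).relIndex (Vk T K)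
        ≤ 4 := relIndex_inf_le.trans (Nat.mul_le_mul hca hcxa)
    calc Nat.card (Vk T K) = _ := h2.symm
      _ ≤ Nat.card C * 4 := Nat.mul_le_mul (card_le_of_le h1) h3
      _ = _ := mul_comm _ _
  refine eq_of_le_of_card_ge (sup_le inf_le_left (comp_W_le_Vk hT hK)) ?_
  have hi : C ⊓ wOf K = ⊥ := (eq_bot_iff_forall _).2 fun w hw =>
    comp_fixed_W hK hx'K hx'o hw.2 (mem_centralizer_singleton_iff.1 hw.1.2).symm
  have h := card_sup_mul_inf (le_normalizer_of_commute (A := C) (B := wOf K) fun c hc w hw =>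
    isElementaryAbelian_two_comm (comp_Vk_elem hT hK).1 hc.1 (comp_W_le_Vk hT hK hw))
  rw [hi, card_bot, comp_wcard hK, mul_one] at h
  rw [h, mul_comm]
  exact hC4

theorem comp_Vk_conj (hT : IsPGroup 2 ↥T) (hK : IsJComponent T K) {k v : G} (hk : k ∈ K)
    (hv : v ∈ Vk T K) : k * v * k⁻¹ * v⁻¹ ∈ wOf K := by
  obtain ⟨x, hx, hxo, hsplit⟩ := comp_exists_three_index hT hK
  have hVN := comp_K_le_normalizer_Vk hT hK
  have hWN : K ≤ normalizer (wOf K : Set G) :=
    le_normalizer.trans (normalizer_le_normalizer_wOf K)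
  let H : Subgroup G :=
    { carrier := {g | g ∈ K ∧ ∀ v ∈ Vk T K, g * v * g⁻¹ * v⁻¹ ∈ wOf K}
      one_mem' := ⟨one_mem _, fun v _ => by simp⟩
      mul_mem' := fun {g h} hg hh => ⟨mul_mem hg.1 hh.1, fun v hv => by
        have e : g * h * v * (g * h)⁻¹ * v⁻¹ =
            g * (h * v * h⁻¹ * v⁻¹) * g⁻¹ * (g * v * g⁻¹ * v⁻¹) := by group
        rw [e]
        exact mul_mem (conj_mem_normalizer (hWN hg.1) (hh.2 v hv)) (hg.2 v hv)⟩
      inv_mem' := fun {g} hg => ⟨inv_mem hg.1, fun v hv => by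
        have e : g⁻¹ * v * g⁻¹⁻¹ * v⁻¹ = (g⁻¹ * (g * v * g⁻¹ * v⁻¹) * g⁻¹⁻¹)⁻¹ := by group
        rw [e]
        exact inv_mem (conj_mem_normalizer (hWN (inv_mem hg.1)) (hg.2 v hv))⟩ }
  have hxH : x ∈ H := ⟨hx, fun v hv => by
    rw [← hsplit] at hv
    obtain ⟨c, hc, w, hw, rfl⟩ := exists_mul_of_le_normalizer (le_normalizer_of_commute
      fun c hc w hw => isElementaryAbelian_two_comm (comp_Vk_elem hT hK).1
        ((inf_le_left : Vk T K ⊓ centralizer ({x} : Set G) ≤ Vk T K) hc)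
        (comp_W_le_Vk hT hK hw)) hv
    have ec : x * c = c * x := (mem_centralizer_singleton_iff.1 hc.2).symm
    have ew : w⁻¹ * c⁻¹ = c⁻¹ * w⁻¹ :=
      isElementaryAbelian_two_comm (comp_Vk_elem hT hK).1
        (inv_mem (comp_W_le_Vk hT hK hw)) (inv_mem hc.1)
    have hxw := conj_mem_normalizer (hWN hx) hw
    have e : x * (c * w) * x⁻¹ * (c * w)⁻¹ = (x * w * x⁻¹) * w⁻¹ := by
      have ec2 : c * (x * w * x⁻¹ * w⁻¹) = (x * w * x⁻¹ * w⁻¹) * c :=
        isElementaryAbelian_two_comm (comp_Vk_elem hT hK).1 hc.1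
          (comp_W_le_Vk hT hK (mul_mem hxw (inv_mem hw)))
      calc x * (c * w) * x⁻¹ * (c * w)⁻¹ = (x * c) * w * x⁻¹ * (w⁻¹ * c⁻¹) := by group
        _ = (c * (x * w * x⁻¹ * w⁻¹)) * c⁻¹ := by rw [ec]; group
        _ = x * w * x⁻¹ * w⁻¹ := by rw [ec2, mul_inv_cancel_right]
    rw [e]
    exact mul_mem hxw (inv_mem hw)⟩
  have hHn : K ≤ normalizer (H : Set G) := by
    intro g hg
    apply mem_normalizer_of_cjg_le
    rintro _ ⟨y, ⟨hyK, hy⟩, rfl⟩
    refine ⟨mul_mem (mul_mem hg hyK) (inv_mem hg), fun v hv => ?_⟩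
    have hv' : g⁻¹ * v * g ∈ Vk T K := by
      simpa using conj_mem_normalizer (hVN (inv_mem hg)) hv
    have e : MulAut.conj g y * v * (MulAut.conj g y)⁻¹ * v⁻¹ =
        g * (y * (g⁻¹ * v * g) * y⁻¹ * (g⁻¹ * v * g)⁻¹) * g⁻¹ := by
      simp only [MulAut.conj_apply]; group
    rw [MulEquiv.coe_toMonoidHom, e]
    exact conj_mem_normalizer (hWN hg) (hy _ hv')
  exact ((comp_induct hK hx hxo hxH hHn) hk).2 v hv

/-- `Z₀ = C_{Z₀}(⟨K, J⟩) × (Z₀ ∩ W_K)`. -/
theorem comp_Z0_split (hT : IsPGroup 2 ↥T) (hK : IsJComponent T K) :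
    Z0 T ⊓ ((K ⊔ Jt T) ⊓ centralizer ((K ⊔ Jt T : Subgroup G) : Set G)) ⊔ Z0 T ⊓ wOf K = Z0 T := by
  refine le_antisymm (sup_le inf_le_left inf_le_left) fun v hv => ?_
  obtain ⟨x, hx, hxo, hsplit⟩ := comp_exists_three_index hT hK
  obtain ⟨A, hA, a, ha, haC⟩ := comp_exists_moving hK
  obtain ⟨z, hzW, hz1, hza, hfix⟩ :=
    comp_transvection hK (isElementaryAbelian_two_sq hA.2.1 ha) (comp_A_normalizer hK hA ha) haC
  have hVe := (comp_Vk_elem hT hK).1
  obtain ⟨c, hc, w, hw, rfl⟩ := exists_mul_of_le_normalizer (le_normalizer_of_commute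
    fun c hc w hw => isElementaryAbelian_two_comm hVe
      ((inf_le_left : Vk T K ⊓ centralizer ({x} : Set G) ≤ Vk T K) hc) (comp_W_le_Vk hT hK hw))
    (hsplit.symm ▸ comp_Z0_le_Vk (K := K) hv)
  obtain ⟨hvJ, hvc, hv2⟩ := mem_omegaCenterOf.1 hv
  have hJK := comp_J_le_normalizer hK
  -- `[c, O₂(K)]` lies in `⟨z⟩`
  have hq : ∀ q ∈ Qk K, q * c * q⁻¹ * c⁻¹ = 1 ∨ q * c * q⁻¹ * c⁻¹ = z := by
    intro q hq
    have eqw : q * w = w * q := ((Qk_le_centralizer_wOf K hq) w hw).symm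
    have e : q * (c * w) * q⁻¹ * (c * w)⁻¹ = q * c * q⁻¹ * c⁻¹ := by
      calc q * (c * w) * q⁻¹ * (c * w)⁻¹ = q * c * q⁻¹ * (q * w) * q⁻¹ * w⁻¹ * c⁻¹ := by group
        _ = q * c * q⁻¹ * c⁻¹ := by rw [eqw]; group
    rw [← e]
    set h := q * (c * w) * q⁻¹ * (c * w)⁻¹ with hh
    have hhW : h ∈ wOf K :=
      comp_Vk_conj hT hK (pCoreOf_le 2 K hq) (comp_Z0_le_Vk (K := K) hv)
    refine hfix h hhW ?_
    have hjQ : a * q * a⁻¹ * q⁻¹ ∈ Qk K :=
      mul_mem (conj_mem_normalizer (normalizer_le_normalizer_Qk K (hJK (hA.le_J ha))) hq)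
        (inv_mem hq)
    have hjJ : a * q * a⁻¹ * q⁻¹ ∈ Jt T := by
      rw [show a * q * a⁻¹ * q⁻¹ = a * (q * a⁻¹ * q⁻¹) by group]
      exact mul_mem (hA.le_J ha) (conj_mem_normalizer (comp_Qk_le_normalizer_J hT hK hq)
        (inv_mem (hA.le_J ha)))
    set j := a * q * a⁻¹ * q⁻¹ with hj
    have hjh : j * h = h * j := ((Qk_le_centralizer_wOf K hjQ) h hhW).symm
    have hjv : j * (c * w) = c * w * j := hvc j hjJ
    have hav : a * (c * w) = c * w * a := hvc a (hA.le_J ha)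
    apply mul_inv_eq_iff_eq_mul.1
    calc a * h * a⁻¹ = (a * q * a⁻¹) * (a * (c * w) * a⁻¹) * (a * q * a⁻¹)⁻¹ *
          (a * (c * w) * a⁻¹)⁻¹ := by rw [hh]; group
      _ = (a * q * a⁻¹) * (c * w) * (a * q * a⁻¹)⁻¹ * (c * w)⁻¹ := by
          rw [hav, mul_inv_cancel_right]
      _ = (j * q) * (c * w) * (j * q)⁻¹ * (c * w)⁻¹ := by rw [hj]; group
      _ = (j * h) * ((c * w) * j⁻¹) * (c * w)⁻¹ := by rw [hh]; group
      _ = (h * j) * (j⁻¹ * (c * w)) * (c * w)⁻¹ := by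
          rw [hjh, show c * w * j⁻¹ = j⁻¹ * (c * w) from ((Commute.inv_left hjv).eq).symm]
      _ = h := by group
  have hcx : x * c = c * x := (mem_centralizer_singleton_iff.1 hc.2).symm
  have hcQ : ∀ q ∈ Qk K, q * c = c * q := by
    intro q hq'
    rcases hq q hq' with h | h
    · exact mul_inv_eq_iff_eq_mul.1 (mul_inv_eq_one.1 h)
    exfalso
    have hq2 := hq _ (conj_mem_normalizer (normalizer_le_normalizer_Qk K (le_normalizer hx)) hq')
    have e : x * q * x⁻¹ * c * (x * q * x⁻¹)⁻¹ * c⁻¹ = x * (q * c * q⁻¹ * c⁻¹) * x⁻¹ := by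
      have hc' : x⁻¹ * c = c * x⁻¹ := (Commute.inv_left hcx).eq
      have hc'' : x⁻¹ * c⁻¹ = c⁻¹ * x⁻¹ := (Commute.inv_inv hcx).eq
      calc x * q * x⁻¹ * c * (x * q * x⁻¹)⁻¹ * c⁻¹
          = x * q * (x⁻¹ * c) * (x * q⁻¹ * (x⁻¹ * c⁻¹)) := by group
        _ = x * (q * c * q⁻¹ * c⁻¹) * x⁻¹ := by rw [hc', hc'']; group
    rw [e, h] at hq2
    rcases hq2 with h2 | h2
    · exact hz1 (conj_eq_one_iff.1 h2)
    · exact hz1 (comp_fixed_W hK hx hxo hzW (mul_inv_eq_iff_eq_mul.1 h2))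
  have hcK : c ∈ centralizer (K : Set G) := by
    rw [← comp_gen_three hK hx hxo, ← zpowers_le, le_centralizer_iff, sup_le_iff, zpowers_le]
    refine ⟨fun q hq' => ?_, ?_⟩ <;> rw [mem_centralizer_iff]
    · intro g hg
      obtain ⟨i, rfl⟩ := mem_zpowers_iff.1 hg
      exact (Commute.zpow_left (hcQ q hq').symm i).eq
    · intro g hg
      obtain ⟨i, rfl⟩ := mem_zpowers_iff.1 hg
      exact (Commute.zpow_left hcx.symm i).eq
  have hcV : c ∈ Vk T K := hc.1
  have hcJ : c ∈ Jt T := (comp_Vk_elem hT hK).2 hcV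
  have hcjc : ∀ j ∈ Jt T, j * c = c * j := by
    intro j hj
    have hw' := conj_mem_normalizer (normalizer_le_normalizer_wOf K (hJK hj)) (inv_mem hw)
    have e : j * c * j⁻¹ * c⁻¹ = c * w * (j * w⁻¹ * j⁻¹) * c⁻¹ := by
      calc j * c * j⁻¹ * c⁻¹ = (j * (c * w)) * (w⁻¹ * j⁻¹) * c⁻¹ := by group
        _ = c * w * (j * w⁻¹ * j⁻¹) * c⁻¹ := by rw [hvc j hj]; group
    have h1 : j * c * j⁻¹ * c⁻¹ ∈ wOf K := by
      rw [e, show c * w * (j * w⁻¹ * j⁻¹) * c⁻¹ = c * (w * (j * w⁻¹ * j⁻¹)) * c⁻¹ by group]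
      have := isElementaryAbelian_two_comm hVe hcV (comp_W_le_Vk hT hK (mul_mem hw hw'))
      rw [this, mul_inv_cancel_right]
      exact mul_mem hw hw'
    have h2 : x * (j * c * j⁻¹) = j * c * j⁻¹ * x := by
      have hjx : j⁻¹ * x * j ∈ K := by
        simpa using conj_mem_normalizer (hJK (inv_mem hj)) hx
      have := hcK _ hjx
      calc x * (j * c * j⁻¹) = j * ((j⁻¹ * x * j) * c) * j⁻¹ := by group
        _ = j * c * j⁻¹ * x := by rw [this]; group
    have h3 : Commute x (j * c * j⁻¹ * c⁻¹) := Commute.mul_right h2 (Commute.inv_right hcx)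
    exact mul_inv_eq_iff_eq_mul.1 (mul_inv_eq_one.1 (comp_fixed_W hK hx hxo h1 h3.eq))
  have hc0 : c ∈ Z0 T :=
    mem_Z0 (J_le T hcJ) hcjc (isElementaryAbelian_two_sq hVe hcV)
  have hcY : c ∈ centralizer ((K ⊔ Jt T : Subgroup G) : Set G) := by
    rw [← zpowers_le, le_centralizer_iff, sup_le_iff]
    refine ⟨fun k hk => ?_, fun j hj => ?_⟩ <;>
      rw [mem_centralizer_iff] <;> intro g hg <;> obtain ⟨i, rfl⟩ := mem_zpowers_iff.1 hg
    · exact (Commute.zpow_left (show Commute c k from (hcK k hk).symm) i).eq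
    · exact (Commute.zpow_left (show Commute c j from (hcjc j hj).symm) i).eq
  refine mul_mem (mem_sup_left ⟨hc0, mem_sup_right hcJ, hcY⟩) (mem_sup_right ⟨?_, hw⟩)
  have hh := mul_mem (inv_mem hc0) hv
  rwa [inv_mul_cancel_left] at hh

end Cfsg.Agent.JComp
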