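import Cfsg.Agent.Lib.JComp.Basic
import Mathlib.GroupTheory.FiniteAbelian.Duality

/-!
Groups acting on four-groups; the order of a group of transvections; a uniqueness lemma on
inverted elements of order three.
-/

set_option autoImplicit false
set_option linter.unusedSectionVars false
set_option linter.style.haveILetI false

namespace Cfsg.Agent.JComp

open Subgroup Cfsg Cfsg.Agent.CharP

variable {G : Type*} [Group G] [Finite G] {W : Subgroup G}

theorem four_comm (hexp : ∀ w ∈ W, w * w = 1) {v w : G} (hv : v ∈ W) (hw : w ∈ W) :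
    v * w = w * v :=
  isElementaryAbelian_two_comm (isElementaryAbelian_two_of hexp) hv hw

theorem four_exists_other (hcard : Nat.card W = 4) (z : G) : ∃ w ∈ W, w ≠ 1 ∧ w ≠ z := by
  by_contra h
  push Not at h
  have := card_le_two_of_forall (H := W) (z := z) fun v hv =>
    (eq_or_ne v 1).imp id fun h1 => h v hv h1
  omega

theorem four_sq (hcard : Nat.card W = 4) (hexp : ∀ w ∈ W, w * w = 1) {g z : G}
    (hg : g ∈ normalizer (W : Set G)) (hz : z ∈ W) (hz1 : z ≠ 1) (hgz : g * z = z * g) :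
    g * g ∈ centralizer (W : Set G) := by
  obtain ⟨w, hw, hw1, hwz⟩ := four_exists_other hcard z
  intro v hv
  refine (four_commutes hcard hexp hz hw hz1 hw1 hwz.symm ?_ ?_ v hv).symm
  · rw [mul_assoc, hgz, ← mul_assoc, hgz, mul_assoc]
  have hfix : g * z * g⁻¹ = z := by rw [hgz, mul_inv_cancel_right]
  apply mul_inv_eq_iff_eq_mul.1
  rw [show g * g * w * (g * g)⁻¹ = g * (g * w * g⁻¹) * g⁻¹ by group]
  rcases four_cases hcard hexp hz hw hz1 hw1 hwz.symm (conj_mem_normalizer hg hw) with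
    h | h | h | h
  · exact absurd (conj_eq_one_iff.1 h) hw1
  · exact absurd (mul_left_cancel (mul_right_cancel (h.trans hfix.symm))) hwz
  · rw [h, h]
  · calc g * (g * w * g⁻¹) * g⁻¹ = g * (z * w) * g⁻¹ := by rw [h]
      _ = (g * z * g⁻¹) * (g * w * g⁻¹) := by group
      _ = w := by rw [hfix, h, ← mul_assoc, hexp z hz, one_mul]

theorem four_three (hcard : Nat.card W = 4) (hexp : ∀ w ∈ W, w * w = 1) {g z : G}
    (hg : g ∈ normalizer (W : Set G)) (h3 : g * g * g ∈ centralizer (W : Set G))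
    (hz : z ∈ W) (hz1 : z ≠ 1) (hgz : g * z = z * g) : g ∈ centralizer (W : Set G) := by
  have h := mul_mem (inv_mem (four_sq hcard hexp hg hz hz1 hgz)) h3
  rwa [show (g * g)⁻¹ * (g * g * g) = g by group] at h

/-- A nontrivial subgroup of a four-group invariant under a fixed point free element is everything. -/
theorem four_eq_of_invariant (hcard : Nat.card W = 4) (hexp : ∀ w ∈ W, w * w = 1)
    {H : Subgroup G} (hH : H ≤ W) {x h : G} (hh : h ∈ H) (hh1 : h ≠ 1)
    (hxh : x * h * x⁻¹ ∈ H) (hfix : x * h * x⁻¹ ≠ h) : H = W := by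
  refine le_antisymm hH fun w hw => ?_
  have hxh1 : x * h * x⁻¹ ≠ 1 := fun e => hh1 (conj_eq_one_iff.1 e)
  rcases four_cases hcard hexp (hH hh) (hH hxh) hh1 hxh1 (Ne.symm hfix) hw with e | e | e | e <;>
    rw [e]
  exacts [one_mem _, hh, hxh, mul_mem hh hxh]

theorem four_transvection (hcard : Nat.card W = 4) (hexp : ∀ w ∈ W, w * w = 1) {a : G}
    (haN : a ∈ normalizer (W : Set G)) (ha2 : a * a ∈ centralizer (W : Set G))
    (haC : a ∉ centralizer (W : Set G)) :
    ∃ z ∈ W, z ≠ 1 ∧ a * z = z * a ∧ ∀ w ∈ W, a * w = w * a → w = 1 ∨ w = z := by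
  obtain ⟨w, hw, hne⟩ : ∃ w ∈ W, a * w ≠ w * a := by
    by_contra h
    push Not at h
    exact haC fun w hw => (h w hw).symm
  have hv : a * w * a⁻¹ ∈ W := conj_mem_normalizer haN hw
  have hav : a * (a * w * a⁻¹) * a⁻¹ = w := by
    rw [show a * (a * w * a⁻¹) * a⁻¹ = a * a * w * (a * a)⁻¹ by group, ← ha2 w hw,
      mul_inv_cancel_right]
  have hz1 : w * (a * w * a⁻¹) ≠ 1 := fun e => hne (by
    refine mul_inv_eq_iff_eq_mul.1 ?_
    calc a * w * a⁻¹ = w * w * (a * w * a⁻¹) := by rw [hexp w hw, one_mul]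
      _ = w := by rw [mul_assoc, e, mul_one])
  have hza : a * (w * (a * w * a⁻¹)) = w * (a * w * a⁻¹) * a := by
    apply mul_inv_eq_iff_eq_mul.1
    calc a * (w * (a * w * a⁻¹)) * a⁻¹ = (a * w * a⁻¹) * (a * (a * w * a⁻¹) * a⁻¹) := by group
      _ = w * (a * w * a⁻¹) := by rw [hav, four_comm hexp hv hw]
  refine ⟨_, mul_mem hw hv, hz1, hza, fun u hu hua => ?_⟩
  have hw1 : w ≠ 1 := by rintro rfl; exact hne (by simp)
  have hzw : w * (a * w * a⁻¹) ≠ w := by
    intro e
    have h' : a * w * a⁻¹ = 1 := by simpa using e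
    exact hw1 (conj_eq_one_iff.1 h')
  rcases four_cases hcard hexp (mul_mem hw hv) hw hz1 hw1 hzw hu with h | h | h | h
  · exact Or.inl h
  · exact Or.inr h
  · exact absurd (h ▸ hua) hne
  · exfalso
    have e : u = a * w * a⁻¹ := by
      rw [h, mul_assoc, four_comm hexp hv hw, ← mul_assoc, hexp w hw, one_mul]
    have e2 : a * u * a⁻¹ = u := by rw [hua, mul_inv_cancel_right]
    have : u = w := by rw [← e2, e]; exact hav
    exact hne (this ▸ hua)

/-- An abelian group acting on a four-group has a kernel of index at most two. -/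
theorem four_index (hcard : Nat.card W = 4) (hexp : ∀ w ∈ W, w * w = 1) {A : Subgroup G}
    (hA : IsElementaryAbelian 2 A) (hAN : A ≤ normalizer (W : Set G)) :
    Nat.card A ≤ 2 * Nat.card ↥(A ⊓ centralizer (W : Set G)) := by
  by_cases hAC : A ≤ centralizer (W : Set G)
  · rw [inf_eq_left.2 hAC]; omega
  obtain ⟨a, ha, haC⟩ := SetLike.not_le_iff_exists.1 hAC
  have ha2 : a * a ∈ centralizer (W : Set G) := by
    rw [isElementaryAbelian_two_sq hA ha]; exact one_mem _
  obtain ⟨z, hzW, hz1, hza, hfix⟩ := four_transvection hcard hexp (hAN ha) ha2 haC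
  obtain ⟨w, hw, hw1, hwz⟩ := four_exists_other hcard z
  have key : ∀ b ∈ A, b ∉ centralizer (W : Set G) → b * z * b⁻¹ = z ∧ b * w * b⁻¹ = z * w := by
    intro b hb hbC
    have hbz : b * z * b⁻¹ = z := by
      refine ((hfix _ (conj_mem_normalizer (hAN hb) hzW) ?_).resolve_left
        fun e => hz1 (conj_eq_one_iff.1 e))
      calc a * (b * z * b⁻¹) = (a * b) * z * b⁻¹ := by group
        _ = b * (a * z) * b⁻¹ := by rw [isElementaryAbelian_two_comm hA ha hb]; group
        _ = b * z * (a * b⁻¹) := by rw [hza]; group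
        _ = b * z * b⁻¹ * a := by rw [isElementaryAbelian_two_comm hA ha (inv_mem hb)]; group
    refine ⟨hbz, ?_⟩
    rcases four_cases hcard hexp hzW hw hz1 hw1 hwz.symm (conj_mem_normalizer (hAN hb) hw) with
      h | h | h | h
    · exact absurd (conj_eq_one_iff.1 h) hw1
    · exact absurd (mul_left_cancel (mul_right_cancel (h.trans hbz.symm))) hwz
    · exact absurd (fun v hv => (four_commutes hcard hexp hzW hw hz1 hw1 hwz.symm
        (mul_inv_eq_iff_eq_mul.1 hbz) (mul_inv_eq_iff_eq_mul.1 h) v hv).symm) hbC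
    · exact h
  obtain ⟨a1, a2⟩ := key a ha haC
  have h2 : (A ⊓ centralizer (W : Set G)).relIndex A = 2 := by
    rw [relIndex, index_eq_two_iff_exists_notMem_and]
    refine ⟨⟨a, ha⟩, fun h => haC (mem_subgroupOf.1 h).2, fun b => ?_⟩
    by_cases hb : (b : G) ∈ centralizer (W : Set G)
    · exact Or.inr (mem_subgroupOf.2 ⟨b.2, hb⟩)
    refine Or.inl (mem_subgroupOf.2 ⟨mul_mem b.2 ha, ?_⟩)
    obtain ⟨b1, b2⟩ := key b b.2 hb
    intro v hv
    refine (four_commutes hcard hexp hzW hw hz1 hw1 hwz.symm ?_ ?_ v hv).symm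
    · refine mul_inv_eq_iff_eq_mul.1 ?_
      calc (b : G) * a * z * ((b : G) * a)⁻¹ = b * (a * z * a⁻¹) * (b : G)⁻¹ := by group
        _ = z := by rw [a1, b1]
    · refine mul_inv_eq_iff_eq_mul.1 ?_
      calc (b : G) * a * w * ((b : G) * a)⁻¹ = b * (a * w * a⁻¹) * (b : G)⁻¹ := by group
        _ = (b * z * (b : G)⁻¹) * (b * w * (b : G)⁻¹) := by rw [a2]; group
        _ = w := by rw [b1, b2, ← mul_assoc, hexp z hzW, one_mul]
  have h := card_mul_relIndex' (inf_le_left : A ⊓ centralizer (W : Set G) ≤ A)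
  rw [h2] at h
  omega

/-- An elementary abelian group acting on `M` with a unique fixed involution `z`: the image has
order at most `|M| / 2`. -/
theorem card_transvections {A0 M : Subgroup G} {z : G} (hA : IsElementaryAbelian 2 A0)
    (hM : IsElementaryAbelian 2 M) (hn : A0 ≤ normalizer (M : Set G)) (hz : z ∈ M) (hz1 : z ≠ 1)
    (hzf : ∀ a ∈ A0, a * z = z * a)
    (hfix : ∀ m ∈ M, (∀ a ∈ A0, a * m = m * a) → m = 1 ∨ m = z) :
    2 * Nat.card A0 ≤ Nat.card M * Nat.card ↥(A0 ⊓ centralizer (M : Set G)) := by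
  letI : CommGroup M :=
    { (inferInstance : Group M) with
      mul_comm := fun a b => Subtype.ext (isElementaryAbelian_two_comm hM a.2 b.2) }
  set z' : M := ⟨z, hz⟩ with hz'
  have hz'1 : z' ≠ 1 := fun h => hz1 (congrArg Subtype.val h)
  obtain ⟨lam, hlam⟩ := CommGroup.exists_apply_ne_one_of_hasEnoughRootsOfUnity M ℂ hz'1
  set Z' : Subgroup M := zpowers z' with hZ'
  -- `b ↦ (m ↦ lam [b, m])` is injective modulo the kernel
  let mu : A0 → (M →* M) := fun b =>
    { toFun := fun m => ⟨(b : G) * m * (b : G)⁻¹ * (m : G)⁻¹,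
        mul_mem (conj_mem_normalizer (hn b.2) m.2) (inv_mem m.2)⟩
      map_one' := Subtype.ext (by simp)
      map_mul' := fun m n => Subtype.ext (by
        have e := isElementaryAbelian_two_comm hM (inv_mem m.2)
          (mul_mem (conj_mem_normalizer (hn b.2) n.2) (inv_mem n.2))
        show (b : G) * (m * n) * (b : G)⁻¹ * ((m : G) * n)⁻¹ =
          (b : G) * m * (b : G)⁻¹ * (m : G)⁻¹ * ((b : G) * n * (b : G)⁻¹ * (n : G)⁻¹)
        calc (b : G) * (m * n) * (b : G)⁻¹ * ((m : G) * n)⁻¹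
            = (b : G) * m * (b : G)⁻¹ * ((b : G) * n * (b : G)⁻¹ * (n : G)⁻¹ * (m : G)⁻¹) := by
              group
          _ = _ := by rw [← e]; group) }
  have hmu : ∀ (b : A0) (m : M), ((mu b m : M) : G) = (b : G) * m * (b : G)⁻¹ * (m : G)⁻¹ :=
    fun b m => rfl
  have hker : ∀ b : A0, Z' ≤ (lam.comp (mu b)).ker := by
    intro b
    rw [hZ', zpowers_le, MonoidHom.mem_ker, MonoidHom.comp_apply,
      show mu b z' = 1 from Subtype.ext (by
        rw [hmu, show (z' : G) = z from rfl, hzf b b.2]; simp), map_one]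
  let psi : A0 → (M ⧸ Z' →* ℂˣ) := fun b => QuotientGroup.lift Z' (lam.comp (mu b)) (hker b)
  set A1 := A0 ⊓ centralizer (M : Set G) with hA1
  have key : ∀ b c : A0, psi b = psi c → (b : G)⁻¹ * c ∈ A1 := by
    intro b c hbc
    have hd : (b : G)⁻¹ * c ∈ A0 := mul_mem (inv_mem b.2) c.2
    refine ⟨hd, ?_⟩
    by_contra hdC
    set D : A0 := ⟨_, hd⟩ with hD
    -- the image of `[D, ·]` contains `z`
    have himg : ∃ m : M, mu D m = z' := by
      set I := ((mu D).range).map M.subtype with hI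
      have hIM : I ≤ M := map_subtype_le _
      have hIn : A0 ≤ normalizer (I : Set G) := by
        intro a ha
        refine mem_normalizer_of_cjg_le ?_
        rintro _ ⟨_, ⟨_, ⟨m, rfl⟩, rfl⟩, rfl⟩
        refine ⟨mu D ⟨a * m * a⁻¹, conj_mem_normalizer (hn ha) m.2⟩, ⟨_, rfl⟩, ?_⟩
        show (D : G) * (a * m * a⁻¹) * (D : G)⁻¹ * (a * m * a⁻¹)⁻¹ = _
        rw [MulEquiv.coe_toMonoidHom, MulAut.conj_apply, coe_subtype, hmu]
        have e1 : (D : G) * a = a * D := isElementaryAbelian_two_comm hA D.2 ha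
        have e2 : a⁻¹ * (D : G)⁻¹ = (D : G)⁻¹ * a⁻¹ :=
          isElementaryAbelian_two_comm hA (inv_mem ha) (inv_mem D.2)
        calc (D : G) * (a * m * a⁻¹) * (D : G)⁻¹ * (a * m * a⁻¹)⁻¹
            = ((D : G) * a) * m * (a⁻¹ * (D : G)⁻¹) * a * (m : G)⁻¹ * a⁻¹ := by group
          _ = _ := by rw [e1, e2]; group
      have hI1 : I ≠ ⊥ := by
        intro h0
        refine hdC fun m hm => ?_
        have : ((mu D ⟨m, hm⟩ : M) : G) ∈ I := ⟨_, ⟨_, rfl⟩, rfl⟩
        rw [h0, mem_bot, hmu, mul_inv_eq_one] at this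
        exact (mul_inv_eq_iff_eq_mul.1 this).symm
      have hp : IsPGroup 2 ↥(A0 ⊔ I) :=
        IsPGroup.to_sup_of_normal_right' (PLocal.ThompsonSubgroup.IsElementaryAbelian.isPGroup hA)
          ((PLocal.ThompsonSubgroup.IsElementaryAbelian.isPGroup hM).to_le hIM) hIn
      obtain ⟨u, huI, huo, huc⟩ := exists_order_prime_central (p := 2) hp (le_sup_right)
        (sup_le hIn le_normalizer) hI1
      rcases hfix u (hIM huI) (fun a ha => huc a (mem_sup_left ha)) with h | h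
      · rw [h, orderOf_one] at huo; omega
      · obtain ⟨_, ⟨m, rfl⟩, hm⟩ := huI
        exact ⟨m, Subtype.ext (hm.trans h)⟩
    obtain ⟨m, hm⟩ := himg
    have e := DFunLike.congr_fun hbc (QuotientGroup.mk m)
    simp only [psi, QuotientGroup.lift_mk, MonoidHom.comp_apply] at e
    have e2 : mu c m = mu b m * z' := by
      apply Subtype.ext
      have hz0 := congrArg Subtype.val hm
      rw [hmu] at hz0
      have hcb : (c : G) = b * ((b : G)⁻¹ * c) := by group
      rw [Subgroup.coe_mul, hmu, hmu, show (z' : G) = z from rfl]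
      have hDm : ((b : G)⁻¹ * c) * m * ((b : G)⁻¹ * c)⁻¹ = z * m := by
        rw [← mul_inv_eq_iff_eq_mul]; exact hz0
      have hbz : (b : G) * z * (b : G)⁻¹ = z := by rw [hzf b b.2, mul_inv_cancel_right]
      calc (c : G) * m * (c : G)⁻¹ * (m : G)⁻¹
          = b * (((b : G)⁻¹ * c) * m * ((b : G)⁻¹ * c)⁻¹) * (b : G)⁻¹ * (m : G)⁻¹ := by group
        _ = (b * z * (b : G)⁻¹) * ((b : G) * m * (b : G)⁻¹ * (m : G)⁻¹) := by rw [hDm]; group
        _ = _ := by
          rw [hbz]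
          exact isElementaryAbelian_two_comm hM hz
            (mul_mem (conj_mem_normalizer (hn b.2) m.2) (inv_mem m.2))
    rw [e2, map_mul] at e
    exact hlam (by simpa using e)
  have h1 : A1.relIndex A0 ≤ Nat.card (M ⧸ Z' →* ℂˣ) := by
    haveI : Finite (M ⧸ Z' →* ℂˣ) := Finite.of_equiv _
      (CommGroup.monoidHom_mulEquiv_of_hasEnoughRootsOfUnity (M ⧸ Z') ℂ).some.symm.toEquiv
    refine Nat.card_le_card_of_injective (fun q => psi q.out) fun q r hqr => ?_
    rw [← q.out_eq', ← r.out_eq', QuotientGroup.eq, mem_subgroupOf]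
    exact key _ _ hqr
  rw [CommGroup.card_monoidHom_of_hasEnoughRootsOfUnity] at h1
  have h2 := card_mul_relIndex' (inf_le_left : A1 ≤ A0)
  have h3 := Z'.card_eq_card_quotient_mul_card_subgroup
  have h4 : Nat.card Z' = 2 := by
    rw [hZ', Nat.card_zpowers]
    exact orderOf_eq_prime (Subtype.ext (by
      simpa [pow_two] using isElementaryAbelian_two_sq hM hz)) hz'1
  rw [h4] at h3
  rw [← h2, h3]
  calc 2 * (Nat.card A1 * A1.relIndex A0) ≤ 2 * (Nat.card A1 * Nat.card (M ⧸ Z')) :=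
        Nat.mul_le_mul_left _ (Nat.mul_le_mul_left _ h1)
    _ = _ := by ring

/-- Two elements of order three inverted by involutions outside `⟨x⟩ X` generate the same group. -/
theorem inverted_unique {M : Type*} [Group M] {X : Subgroup M} (hXn : X.Normal)
    (h2 : ∀ ξ ∈ X, ξ * ξ = 1 → ξ = 1) {x a b : M}
    (ha : ∀ ξ ∈ X, a * ξ = ξ * a) (hb : ∀ ξ ∈ X, b * ξ = ξ * b)
    (hx3 : x * x * x = 1) (hax : a * x * a⁻¹ = x⁻¹) (hba : b * a⁻¹ ∈ zpowers x ⊔ X)
    {y : M} (hy : y ∈ zpowers x ⊔ X) (hby : b * y * b⁻¹ = y⁻¹) : y ∈ zpowers x := by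
  have hxξ : ∀ ξ ∈ X, x * ξ = ξ * x := by
    intro ξ hξ
    have h1 : a * (x * ξ * x⁻¹) * a⁻¹ = x * ξ * x⁻¹ := by
      rw [ha _ (hXn.conj_mem ξ hξ x), mul_inv_cancel_right]
    have h1' : x⁻¹ * ξ * x = x * ξ * x⁻¹ := by
      calc x⁻¹ * ξ * x = (a * x * a⁻¹) * (a * ξ * a⁻¹) * (a * x * a⁻¹)⁻¹ := by
            rw [hax, ha ξ hξ, mul_inv_cancel_right, inv_inv]
        _ = a * (x * ξ * x⁻¹) * a⁻¹ := by group
        _ = _ := h1
    calc x * ξ = (x * ξ * x⁻¹) * x := by group
      _ = x⁻¹ * ξ * (x * x) := by rw [← h1']; group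
      _ = (x * x) * ξ * x⁻¹ := by
          rw [show x⁻¹ = x * x from inv_eq_of_mul_eq_one_right (by rw [← mul_assoc]; exact hx3)]
      _ = x * (x * ξ * x⁻¹) := by group
      _ = x * (x⁻¹ * ξ * x) := by rw [h1']
      _ = ξ * x := by group
  have hcomm : ∀ p ∈ zpowers x ⊔ X, p * x = x * p := by
    intro p hp
    have : zpowers x ⊔ X ≤ centralizer ({x} : Set M) := sup_le
      (zpowers_le.2 (mem_centralizer_singleton_iff.2 rfl))
      fun ξ hξ => mem_centralizer_singleton_iff.2 (hxξ ξ hξ).symm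
    exact mem_centralizer_singleton_iff.1 (this hp)
  have hbx : b * x * b⁻¹ = x⁻¹ := by
    have e : b * a⁻¹ * x⁻¹ = x⁻¹ * (b * a⁻¹) :=
      (Commute.inv_right (show Commute (b * a⁻¹) x from hcomm _ hba)).eq
    calc b * x * b⁻¹ = (b * a⁻¹) * (a * x * a⁻¹) * (b * a⁻¹)⁻¹ := by group
      _ = _ := by rw [hax, e, mul_inv_cancel_right]
  rw [← SetLike.mem_coe, coe_mul_of_left_le_normalizer_right (zpowers x) X
    (fun _ _ => by rw [normalizer_eq_top_iff.2 hXn]; trivial)] at hy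
  obtain ⟨u, hu, ξ, hξ, rfl⟩ := hy
  simp only at hby ⊢
  obtain ⟨i, rfl⟩ := mem_zpowers_iff.1 hu
  have hcu : x ^ i * ξ = ξ * x ^ i := (Commute.zpow_left (hxξ ξ hξ) i).eq
  have e1 : b * x ^ i * b⁻¹ = x ^ (-i) := by
    have := (map_zpow (MulAut.conj b) x i).trans (by rw [MulAut.conj_apply, hbx, inv_zpow'])
    simpa using this
  have e2 : b * (x ^ i * ξ) * b⁻¹ = x ^ (-i) * ξ := by
    calc b * (x ^ i * ξ) * b⁻¹ = (b * x ^ i * b⁻¹) * (b * ξ * b⁻¹) := by group
      _ = _ := by rw [e1, hb ξ hξ, mul_inv_cancel_right]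
  rw [e2, hcu, mul_inv_rev, ← zpow_neg] at hby
  have hξ2 : ξ * ξ = 1 := mul_eq_one_iff_eq_inv.2 (mul_left_cancel hby)
  rw [h2 ξ hξ hξ2, mul_one]
  exact hu

end Cfsg.Agent.JComp
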