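import Mathlib

/-!
Finite facts about the symmetric group of degree four.
-/

set_option autoImplicit false
set_option synthInstance.maxSize 2000
set_option maxHeartbeats 400000

namespace Cfsg.Agent.JComp.S4F

abbrev S4 := Equiv.Perm (Fin 4)

/-- The regular four-group inside `S₄`. -/
def IsV (σ : S4) : Prop := σ * σ = 1 ∧ ∀ i, σ i = i → σ = 1

instance : DecidablePred IsV := fun σ => by unfold IsV; infer_instance

theorem v_one : IsV 1 := by decide +kernel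
theorem v_mul : ∀ a b : S4, IsV a → IsV b → IsV (a * b) := by decide +kernel
theorem v_conj : ∀ a b : S4, IsV a → IsV (b * a * b⁻¹) := by decide +kernel
theorem v_trans : ∀ a b : S4, IsV a → a ≠ 1 → IsV b → b ≠ 1 → ∃ g : S4, g * a * g⁻¹ = b := by
  decide +kernel
theorem p8 : ∀ a : S4, a ^ 8 = 1 → a ^ 4 = 1 := by decide +kernel
theorem v_cent : ∀ a : S4, (∀ b, IsV b → a * b = b * a) → IsV a := by decide +kernel
theorem even_prod : ∀ a : S4, Equiv.Perm.sign a = 1 → ∃ x : S4, x ^ 3 = 1 ∧ (x * a) ^ 3 = 1 := by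
  decide +kernel
theorem sign_v : ∀ a : S4, a ^ 4 = 1 → (IsV a ↔ Equiv.Perm.sign a = 1) := by decide +kernel
theorem sq_cent : ∀ a b : S4, a ^ 4 = 1 → b ^ 4 = 1 → (b * a) ^ 4 = 1 → (b * (a * a)) ^ 4 = 1 →
    (b * (a * a * a)) ^ 4 = 1 → b * (a * a) = a * a * b := by decide +kernel
theorem sq_eq : ∀ a b : S4, a ^ 4 = 1 → a * a ≠ 1 → b ^ 4 = 1 → b * b ≠ 1 → (b * a) ^ 4 = 1 →
    (b * (a * a)) ^ 4 = 1 → (b * (a * a * a)) ^ 4 = 1 → b * b = a * a := by decide +kernel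
theorem odd_comm : ∀ a b : S4, a * a = 1 → b * b = 1 → ¬IsV a → ¬IsV b → (a * b) ^ 4 = 1 →
    a * b = b * a := by decide +kernel
theorem v_sq : ∀ a : S4, a ^ 4 = 1 → IsV (a * a) := by decide +kernel
theorem v_gen : ∀ a b c : S4, IsV a → IsV b → IsV c → a ≠ 1 → b ≠ 1 → a ≠ b →
    c = 1 ∨ c = a ∨ c = b ∨ c = a * b := by decide +kernel
theorem v_cq : ∀ a s : S4, IsV s → a ^ 4 = 1 → a * a ≠ 1 → a * s = s * a →
    s = 1 ∨ s = a * a := by decide +kernel
theorem comm_sq : ∀ a g : S4, a ^ 4 = 1 → a * a ≠ 1 → g * (a * a) = a * a * g → g ^ 4 = 1 := by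
  decide +kernel
theorem third : ∀ a : S4, a * a = 1 → ∃ b : S4, b * b = 1 ∧ b ≠ 1 ∧ b ≠ a ∧ a * b = b * a := by
  decide +kernel
theorem normal2 : ∀ a : S4, a ^ 4 = 1 → (∀ g, (a * (g * a * g⁻¹)) ^ 4 = 1) → IsV a := by
  decide +kernel
theorem other : ∀ a : S4, ∃ b, IsV b ∧ b ≠ 1 ∧ b ≠ a := by decide +kernel
theorem four : ∃ a : S4, a ^ 4 = 1 ∧ a * a ≠ 1 := by decide +kernel
theorem card_v : Fintype.card {a : S4 // IsV a} = 4 := by decide +kernel

end Cfsg.Agent.JComp.S4F
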