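import Cfsg.Agent.Lib.JComp.Unique
import Cfsg.Agent.Lib.JComp.S4Facts

/-!
Two maximal 2-local subgroups, both `S₄` or `C₂ × S₄`, with a common Sylow 2-subgroup.
-/

set_option autoImplicit false
set_option linter.unusedSectionVars false

namespace Cfsg.Agent.JComp

open Subgroup Cfsg Cfsg.Agent.CharP S4F

variable {G : Type*} [Group G] [Finite G]

/-- `P = ⟨c⟩ × s(S₄)` is a maximal 2-local subgroup with Sylow 2-subgroup `T`, `c² = 1`. -/
structure Mdl (P T : Subgroup G) where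
  c : G
  s : S4 →* G
  c_mem : c ∈ P
  s_mem : ∀ σ, s σ ∈ P
  c_sq : c * c = 1
  c_comm : ∀ x ∈ P, x * c = c * x
  s_inj : Function.Injective s
  c_ne : c ≠ 1 → ∀ σ, s σ ≠ c
  dec : ∀ x ∈ P, ∃ σ, x = s σ ∨ x = c * s σ
  max : IsMaximalTwoLocal P
  syl : IsSylowTwoIn T P

namespace Mdl

variable {P T : Subgroup G} (m : Mdl P T)
include m

theorem c_inv : m.c⁻¹ = m.c := inv_eq_of_mul_eq_one_right m.c_sq

theorem cs_comm (σ : S4) : m.s σ * m.c = m.c * m.s σ := m.c_comm _ (m.s_mem σ)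

theorem cs_sq (σ : S4) : m.c * m.s σ * (m.c * m.s σ) = m.s (σ * σ) := by
  rw [mul_assoc, ← mul_assoc (m.s σ), m.cs_comm, mul_assoc m.c (m.s σ), ← mul_assoc, m.c_sq,
    one_mul, map_mul]

theorem uniq {σ τ : S4} (h : m.c * m.s σ = m.s τ) : m.c = 1 ∧ σ = τ := by
  by_cases hc : m.c = 1
  · exact ⟨hc, m.s_inj (by simpa [hc] using h)⟩
  · exact absurd (by rw [map_mul, map_inv, ← h, mul_inv_cancel_right]) (m.c_ne hc (τ * σ⁻¹))

theorem s_eq_one {σ : S4} (h : m.s σ = 1) : σ = 1 := m.s_inj (h.trans (map_one _).symm)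

theorem T_le : T ≤ P := m.syl.1

theorem isTwo : IsPGroup 2 ↥T := m.syl.2.1

theorem c_T : m.c ∈ T := by
  have hz : IsPGroup 2 ↥(zpowers m.c) := by
    refine fun x => ⟨1, Subtype.ext ?_⟩
    obtain ⟨n, hn⟩ := x.2
    show (x : G) ^ 2 ^ 1 = 1
    rw [← show m.c ^ n = (x : G) from hn, pow_one, pow_two, ← (Commute.refl m.c).mul_zpow,
      m.c_sq, one_zpow]
  have hn : T ≤ normalizer (zpowers m.c : Set G) := by
    refine le_normalizer_of_commute fun a ha t ht => ?_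
    obtain ⟨n, rfl⟩ := ha
    exact ((Commute.zpow_right (m.c_comm t (m.T_le ht)) n : Commute t (m.c ^ n))).symm
  have := sylowTwo_eq_of_le m.syl (hz.to_sup_of_normal_left' m.isTwo hn)
    (sup_le (zpowers_le.2 m.c_mem) m.T_le) le_sup_right
  exact this.le (mem_sup_left (mem_zpowers _))

/-- The part of `T` in the `S₄`-factor. -/
def D : Subgroup S4 := T.comap m.s

theorem mem_D {σ : S4} : σ ∈ m.D ↔ m.s σ ∈ T := Iff.rfl

theorem dec_T {x : G} (hx : x ∈ T) : ∃ σ ∈ m.D, x = m.s σ ∨ x = m.c * m.s σ := by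
  obtain ⟨σ, h⟩ := m.dec x (m.T_le hx)
  refine ⟨σ, m.mem_D.2 ?_, h⟩
  rcases h with rfl | rfl
  · exact hx
  · exact (Subgroup.mul_mem_cancel_left T m.c_T).1 hx

theorem pow4 {σ : S4} (h : σ ∈ m.D) : σ ^ 4 = 1 := by
  obtain ⟨k, hk⟩ := m.isTwo ⟨_, m.mem_D.1 h⟩
  have h1 : σ ^ 2 ^ k = 1 := m.s_eq_one (by rw [map_pow]; exact congrArg Subtype.val hk)
  have h2 : σ ^ 24 = 1 := by
    have := pow_card_eq_one' (x := σ)
    rwa [Nat.card_perm, Nat.card_eq_fintype_card, Fintype.card_fin] at this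
  refine p8 σ (orderOf_dvd_iff_pow_eq_one.1 ?_)
  obtain ⟨j, hj, e⟩ := (Nat.dvd_prime_pow Nat.prime_two).1 (orderOf_dvd_of_pow_eq_one h1)
  have h3 := orderOf_dvd_of_pow_eq_one h2
  rw [e] at h3 ⊢
  have : j ≤ 3 := by
    by_contra hj3
    have := (pow_dvd_pow 2 (by omega : 4 ≤ j)).trans h3
    norm_num at this
  exact (pow_dvd_pow 2 this)

/-- The preimage of the four-group. -/
def E : Subgroup G where
  carrier := {x | ∃ σ, IsV σ ∧ (x = m.s σ ∨ x = m.c * m.s σ)}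
  one_mem' := ⟨1, v_one, Or.inl (map_one _).symm⟩
  mul_mem' := by
    rintro _ _ ⟨σ, hσ, h⟩ ⟨τ, hτ, h'⟩
    refine ⟨σ * τ, v_mul _ _ hσ hτ, ?_⟩
    rcases h with rfl | rfl <;> rcases h' with rfl | rfl
    · exact Or.inl (map_mul _ _ _).symm
    · exact Or.inr (by rw [← mul_assoc, m.cs_comm, map_mul, mul_assoc])
    · exact Or.inr (by rw [map_mul, mul_assoc])
    · refine Or.inl ?_
      rw [mul_assoc, ← mul_assoc (m.s σ), m.cs_comm, mul_assoc m.c (m.s σ), ← mul_assoc,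
        m.c_sq, one_mul, map_mul]
  inv_mem' := by
    rintro _ ⟨σ, hσ, h⟩
    refine ⟨σ, hσ, ?_⟩
    rcases h with rfl | rfl
    · exact Or.inl (inv_eq_of_mul_eq_one_right (by rw [← map_mul, hσ.1, map_one]))
    · exact Or.inr (inv_eq_of_mul_eq_one_right (by rw [m.cs_sq, hσ.1, map_one]))

theorem mem_E {x : G} : x ∈ m.E ↔ ∃ σ, IsV σ ∧ (x = m.s σ ∨ x = m.c * m.s σ) := Iff.rfl

/-- The image of the four-group. -/
def W : Subgroup G where
  carrier := {x | ∃ σ, IsV σ ∧ x = m.s σ}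
  one_mem' := ⟨1, v_one, (map_one _).symm⟩
  mul_mem' := by
    rintro _ _ ⟨σ, hσ, rfl⟩ ⟨τ, hτ, rfl⟩
    exact ⟨σ * τ, v_mul _ _ hσ hτ, (map_mul _ _ _).symm⟩
  inv_mem' := by
    rintro _ ⟨σ, hσ, rfl⟩
    exact ⟨σ, hσ, inv_eq_of_mul_eq_one_right (by rw [← map_mul, hσ.1, map_one])⟩

theorem s_mem_W {σ : S4} (h : IsV σ) : m.s σ ∈ m.W := ⟨σ, h, rfl⟩

theorem W_le_E : m.W ≤ m.E := fun _ ⟨σ, h, e⟩ => ⟨σ, h, Or.inl e⟩

theorem c_E : m.c ∈ m.E := ⟨1, v_one, Or.inr (by rw [map_one, mul_one])⟩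

theorem E_sq {x : G} (hx : x ∈ m.E) : x * x = 1 := by
  obtain ⟨σ, hσ, rfl | rfl⟩ := hx
  · rw [← map_mul, hσ.1, map_one]
  · rw [m.cs_sq, hσ.1, map_one]

theorem isTwo_E : IsPGroup 2 ↥m.E := fun x =>
  ⟨1, Subtype.ext (by simpa [pow_two] using m.E_sq x.2)⟩

theorem E_le : m.E ≤ P := by
  rintro _ ⟨σ, -, rfl | rfl⟩
  exacts [m.s_mem σ, mul_mem m.c_mem (m.s_mem σ)]

theorem conj_s {x : G} (hx : x ∈ P) :
    ∃ ρ, ∀ σ, x * m.s σ * x⁻¹ = m.s (ρ * σ * ρ⁻¹) := by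
  obtain ⟨ρ, h⟩ := m.dec x hx
  refine ⟨ρ, fun σ => ?_⟩
  rcases h with rfl | rfl
  · simp only [map_mul, map_inv]
  · rw [mul_inv_rev, m.c_inv]
    calc m.c * m.s ρ * m.s σ * ((m.s ρ)⁻¹ * m.c) = m.c * (m.s (ρ * σ * ρ⁻¹) * m.c) := by
          simp only [map_mul, map_inv]; group
      _ = m.s (ρ * σ * ρ⁻¹) := by rw [m.cs_comm, ← mul_assoc, m.c_sq, one_mul]

theorem E_normal : P ≤ normalizer (m.E : Set G) := by
  intro x hx
  refine mem_normalizer_of_cjg_le ?_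
  rintro _ ⟨y, ⟨σ, hσ, h⟩, rfl⟩
  obtain ⟨ρ, hρ⟩ := m.conj_s hx
  refine ⟨ρ * σ * ρ⁻¹, v_conj _ _ hσ, ?_⟩
  rcases h with rfl | rfl <;> rw [MulEquiv.coe_toMonoidHom, MulAut.conj_apply]
  · exact Or.inl (hρ σ)
  · refine Or.inr ?_
    rw [← hρ σ, ← mul_assoc x, m.c_comm x hx]; group

theorem W_normal : P ≤ normalizer (m.W : Set G) := by
  intro x hx
  refine mem_normalizer_of_cjg_le ?_
  rintro _ ⟨y, ⟨σ, hσ, rfl⟩, rfl⟩
  obtain ⟨ρ, hρ⟩ := m.conj_s hx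
  exact ⟨ρ * σ * ρ⁻¹, v_conj _ _ hσ, hρ σ⟩

theorem E_le_T : m.E ≤ T :=
  le_sup_left.trans (sylowTwo_eq_of_le m.syl
    (m.isTwo_E.to_sup_of_normal_left' m.isTwo (m.T_le.trans m.E_normal))
    (sup_le m.E_le m.T_le) le_sup_right).le

theorem v_D {σ : S4} (h : IsV σ) : σ ∈ m.D := m.mem_D.2 (m.E_le_T (m.W_le_E (m.s_mem_W h)))

theorem exists_q : ∃ q ∈ m.D, q * q ≠ 1 := by
  obtain ⟨a, ha, ha2⟩ := S4F.four
  have hz : IsPGroup 2 ↥(zpowers (m.s a)) := fun x => ⟨2, Subtype.ext (by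
    obtain ⟨n, hn⟩ := x.2
    show (x : G) ^ 2 ^ 2 = 1
    rw [← show m.s a ^ n = (x : G) from hn, ← zpow_natCast, ← zpow_mul, mul_comm, zpow_mul,
      zpow_natCast, ← map_pow, show (2 : ℕ) ^ 2 = 4 from rfl, ha, map_one, one_zpow])⟩
  obtain ⟨U, hU, hle⟩ := exists_sylowTwo_ge (L := P) hz (zpowers_le.2 (m.s_mem a))
  obtain ⟨g, hg, e⟩ := sylowTwo_conj hU m.syl
  obtain ⟨ρ, hρ⟩ := m.conj_s hg
  refine ⟨ρ * a * ρ⁻¹, m.mem_D.2 ?_, fun h => ha2 ?_⟩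
  · rw [← hρ]; exact e.le (conj_mem_cjg (hle (mem_zpowers _)))
  · calc a * a = ρ⁻¹ * (ρ * a * ρ⁻¹ * (ρ * a * ρ⁻¹)) * ρ := by group
      _ = 1 := by rw [h]; group

/-- An element of order 4 of `D`. -/
noncomputable def q : S4 := m.exists_q.choose

theorem q_D : m.q ∈ m.D := m.exists_q.choose_spec.1
theorem q_sq : m.q * m.q ≠ 1 := m.exists_q.choose_spec.2
theorem q4 : m.q ^ 4 = 1 := m.pow4 m.q_D

/-- The central involution of `T` in the `S₄`-factor. -/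
noncomputable def z : G := m.s (m.q * m.q)

theorem qq_V : IsV (m.q * m.q) := v_sq _ m.q4

theorem z_W : m.z ∈ m.W := m.s_mem_W m.qq_V

theorem z_T : m.z ∈ T := m.E_le_T (m.W_le_E m.z_W)

theorem z_ne : m.z ≠ 1 := fun h => m.q_sq (m.s_eq_one h)

theorem z_sq : m.z * m.z = 1 := m.E_sq (m.W_le_E m.z_W)

theorem c_ne_z (hc : m.c ≠ 1) : m.c ≠ m.z := fun h => m.c_ne hc _ h.symm

theorem qq_comm {σ : S4} (h : σ ∈ m.D) : σ * (m.q * m.q) = m.q * m.q * σ :=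
  sq_cent _ _ m.q4 (m.pow4 h) (m.pow4 (mul_mem h m.q_D))
    (m.pow4 (mul_mem h (mul_mem m.q_D m.q_D)))
    (m.pow4 (mul_mem h (mul_mem (mul_mem m.q_D m.q_D) m.q_D)))

theorem z_comm {x : G} (hx : x ∈ T) : x * m.z = m.z * x := by
  obtain ⟨σ, hσ, rfl | rfl⟩ := m.dec_T hx
  · rw [z, ← map_mul, m.qq_comm hσ, map_mul]
  · rw [z, mul_assoc, ← map_mul, m.qq_comm hσ, map_mul, ← mul_assoc, ← m.cs_comm, mul_assoc]

theorem sq_T {x : G} (hx : x ∈ T) (h : x * x ≠ 1) : x * x = m.z := by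
  obtain ⟨σ, hσ, e⟩ := m.dec_T hx
  have e2 : x * x = m.s (σ * σ) := by
    rcases e with rfl | rfl
    · exact (map_mul _ _ _).symm
    · exact m.cs_sq σ
  have hne : σ * σ ≠ 1 := fun h' => h (by rw [e2, h', map_one])
  rw [e2, z, sq_eq m.q σ m.q4 m.q_sq (m.pow4 hσ) hne (m.pow4 (mul_mem hσ m.q_D))
    (m.pow4 (mul_mem hσ (mul_mem m.q_D m.q_D)))
    (m.pow4 (mul_mem hσ (mul_mem (mul_mem m.q_D m.q_D) m.q_D)))]

/-- The centre of `T`. -/
theorem centre {x : G} (hx : x ∈ T) (h : ∀ t ∈ T, t * x = x * t) :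
    x = 1 ∨ x = m.z ∨ x = m.c ∨ x = m.c * m.z := by
  obtain ⟨σ, hσ, e⟩ := m.dec_T hx
  have hcomm : ∀ τ ∈ m.D, τ * σ = σ * τ := by
    intro τ hτ
    apply m.s_inj
    rw [map_mul, map_mul]
    rcases e with rfl | rfl
    · exact h _ (m.mem_D.1 hτ)
    · refine mul_left_cancel (a := m.c) ?_
      have := h _ (m.mem_D.1 hτ)
      rw [← mul_assoc, ← m.cs_comm τ, mul_assoc, this, mul_assoc]
  have hV : IsV σ := v_cent σ fun b hb => (hcomm b (m.v_D hb)).symm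
  rcases v_cq m.q σ hV m.q4 m.q_sq (hcomm _ m.q_D) with rfl | rfl <;> rcases e with rfl | rfl
  · exact Or.inl (map_one _)
  · exact Or.inr (Or.inr (Or.inl (by rw [map_one, mul_one])))
  · exact Or.inr (Or.inl rfl)
  · exact Or.inr (Or.inr (Or.inr rfl))

/-- An element outside the centre generates `E` with it. -/
theorem E_le_of {x : G} (hx : x ∈ m.E)
    (hne : ¬(x = 1 ∨ x = m.z ∨ x = m.c ∨ x = m.c * m.z)) {X : Subgroup G}
    (hc : m.c ∈ X) (hz : m.z ∈ X) (hxX : x ∈ X) : m.E ≤ X := by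
  obtain ⟨σ, hσ, e⟩ := hx
  have h1 : σ ≠ 1 := by
    rintro rfl
    rcases e with rfl | rfl
    · exact hne (Or.inl (map_one _))
    · exact hne (Or.inr (Or.inr (Or.inl (by rw [map_one, mul_one]))))
  have h2 : m.q * m.q ≠ σ := by
    rintro rfl
    rcases e with rfl | rfl
    · exact hne (Or.inr (Or.inl rfl))
    · exact hne (Or.inr (Or.inr (Or.inr rfl)))
  have hsσ : m.s σ ∈ X := by
    rcases e with rfl | rfl
    · exact hxX
    · exact (Subgroup.mul_mem_cancel_left X hc).1 hxX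
  rintro _ ⟨τ, hτ, e'⟩
  have hsτ : m.s τ ∈ X := by
    rcases v_gen _ σ τ m.qq_V hσ hτ m.q_sq h1 h2 with rfl | rfl | rfl | rfl
    · rw [map_one]; exact one_mem X
    · exact hz
    · exact hsσ
    · rw [map_mul]; exact mul_mem hz hsσ
  rcases e' with rfl | rfl
  exacts [hsτ, mul_mem hc hsτ]

theorem exists_noncentral :
    ∃ x ∈ m.W, ¬(x = 1 ∨ x = m.z ∨ x = m.c ∨ x = m.c * m.z) ∧
      ¬(∀ t ∈ T, t * x = x * t) := by
  obtain ⟨b, hb, hb1, hbq⟩ := other (m.q * m.q)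
  refine ⟨m.s b, m.s_mem_W hb, ?_, fun h => ?_⟩
  · rintro (e | e | e | e)
    · exact hb1 (m.s_eq_one e)
    · exact hbq (m.s_inj e)
    · by_cases hc : m.c = 1
      · exact hb1 (m.s_eq_one (e.trans hc))
      · exact m.c_ne hc b e
    · exact hbq (m.uniq e.symm).2.symm
  · refine (v_cq m.q b hb m.q4 m.q_sq (m.s_inj ?_)).elim hb1 hbq
    rw [map_mul, map_mul]
    exact h _ (m.mem_D.1 m.q_D)

theorem normalizer_eq {X : Subgroup G} (hP : P ≤ normalizer (X : Set G)) (hX : IsPGroup 2 ↥X)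
    (h1 : X ≠ ⊥) : normalizer (X : Set G) = P :=
  m.max.2 _ (isTwoLocal_normalizer hX h1) hP

theorem W_ne_bot : m.W ≠ ⊥ := fun h => m.z_ne (mem_bot.1 (h.le m.z_W))

theorem E_ne_bot : m.E ≠ ⊥ := fun h => m.W_ne_bot (le_bot_iff.1 (m.W_le_E.trans h.le))

theorem normalizer_E : normalizer (m.E : Set G) = P :=
  m.normalizer_eq m.E_normal m.isTwo_E m.E_ne_bot

theorem normalizer_W : normalizer (m.W : Set G) = P :=
  m.normalizer_eq m.W_normal (m.isTwo_E.to_le m.W_le_E) m.W_ne_bot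

theorem centralizer_c (hc : m.c ≠ 1) {g : G} (h : g * m.c = m.c * g) : g ∈ P := by
  have hz : IsPGroup 2 ↥(zpowers m.c) :=
    m.isTwo_E.to_le (zpowers_le.2 m.c_E)
  have hP : P ≤ normalizer (zpowers m.c : Set G) := le_normalizer_of_commute fun a ha t ht => by
    obtain ⟨n, rfl⟩ := ha
    exact ((Commute.zpow_right (m.c_comm t ht) n : Commute t (m.c ^ n))).symm
  rw [← m.normalizer_eq hP hz (by simpa using hc)]
  refine mem_normalizer_of_cjg_le ?_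
  rw [cjg, MonoidHom.map_zpowers, MulEquiv.coe_toMonoidHom, MulAut.conj_apply, h,
    mul_inv_cancel_right]

theorem mem_T_of_normalizes {x : G} (hx : x ∈ P) (hn : x ∈ normalizer (T : Set G)) : x ∈ T := by
  obtain ⟨ρ, hρ⟩ := m.conj_s hx
  have hq : m.s (ρ * m.q * ρ⁻¹) ∈ T := by
    rw [← hρ]; exact conj_mem_normalizer hn (m.mem_D.1 m.q_D)
  have e : ρ * (m.q * m.q) = m.q * m.q * ρ := by
    have hD : ρ * m.q * ρ⁻¹ ∈ m.D := hq
    have hne : ρ * m.q * ρ⁻¹ * (ρ * m.q * ρ⁻¹) ≠ 1 := fun h' => m.q_sq (by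
      calc m.q * m.q = ρ⁻¹ * (ρ * m.q * ρ⁻¹ * (ρ * m.q * ρ⁻¹)) * ρ := by group
        _ = 1 := by rw [h']; group)
    have h2 := sq_eq m.q _ m.q4 m.q_sq (m.pow4 hD) hne (m.pow4 (mul_mem hD m.q_D))
      (m.pow4 (mul_mem hD (mul_mem m.q_D m.q_D)))
      (m.pow4 (mul_mem hD (mul_mem (mul_mem m.q_D m.q_D) m.q_D)))
    calc ρ * (m.q * m.q) = ρ * m.q * ρ⁻¹ * (ρ * m.q * ρ⁻¹) * ρ := by group
      _ = m.q * m.q * ρ := by rw [h2]
  obtain ⟨σ, hσ⟩ := m.dec x hx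
  have hρσ : ∀ τ, m.s (σ * τ * σ⁻¹) = m.s (ρ * τ * ρ⁻¹) := by
    intro τ
    rw [← hρ τ]
    rcases hσ with rfl | rfl
    · simp only [map_mul, map_inv]
    · rw [mul_inv_rev, m.c_inv]
      calc m.s (σ * τ * σ⁻¹) = m.c * (m.s (σ * τ * σ⁻¹) * m.c) := by
            rw [m.cs_comm, ← mul_assoc, m.c_sq, one_mul]
        _ = _ := by simp only [map_mul, map_inv]; group
  have e' : σ * (m.q * m.q) = m.q * m.q * σ := by
    have h2 := m.s_inj (hρσ (m.q * m.q))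
    rw [e, mul_inv_cancel_right] at h2
    exact mul_inv_eq_iff_eq_mul.1 h2
  have h4 : σ ^ 4 = 1 := comm_sq m.q σ m.q4 m.q_sq e'
  have hx4 : x ^ 4 = 1 := by
    rcases hσ with rfl | rfl
    · rw [← map_pow, h4, map_one]
    · rw [show (m.c * m.s σ) ^ 4 = (m.c * m.s σ * (m.c * m.s σ)) ^ 2 by
          rw [← pow_two (m.c * m.s σ), ← pow_mul], m.cs_sq,
        ← map_pow, ← pow_two σ, ← pow_mul, h4, map_one]
  have hz : IsPGroup 2 ↥(zpowers x) := fun y => ⟨2, Subtype.ext (by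
    obtain ⟨n, hn⟩ := y.2
    show (y : G) ^ 2 ^ 2 = 1
    rw [← show x ^ n = (y : G) from hn, ← zpow_natCast, ← zpow_mul, mul_comm, zpow_mul,
      zpow_natCast, show (2 : ℕ) ^ 2 = 4 from rfl, hx4, one_zpow])⟩
  exact (sylowTwo_eq_of_le m.syl (hz.to_sup_of_normal_right' m.isTwo (zpowers_le.2 hn))
    (sup_le (zpowers_le.2 hx) m.T_le) le_sup_right).le (mem_sup_left (mem_zpowers x))

end Mdl

/-- Two distinct models with the same Sylow subgroup. -/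
structure FPair (P₁ P₂ T : Subgroup G) where
  m1 : Mdl P₁ T
  m2 : Mdl P₂ T
  ne : P₁ ≠ P₂

namespace FPair

variable {P₁ P₂ T : Subgroup G} (p : FPair P₁ P₂ T)
include p

/-- The pair in the other order. -/
def symm : FPair P₂ P₁ T := ⟨p.m2, p.m1, p.ne.symm⟩

theorem z_eq : p.m2.z = p.m1.z := by
  have ht := p.m2.mem_D.1 p.m2.q_D
  have e : p.m2.s p.m2.q * p.m2.s p.m2.q = p.m2.z := (map_mul _ _ _).symm
  rw [← e, p.m1.sq_T ht (e ▸ p.m2.z_ne)]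

theorem c2_cases : p.m2.c = 1 ∨ p.m2.c = p.m1.c ∨ p.m2.c = p.m1.c * p.m1.z := by
  rcases p.m1.centre p.m2.c_T fun t ht => p.m2.c_comm t (p.m2.T_le ht) with h | h | h | h
  · exact Or.inl h
  · by_cases hc : p.m2.c = 1
    · exact Or.inl hc
    · exact absurd (h.trans p.z_eq.symm) (p.m2.c_ne_z hc)
  · exact Or.inr (Or.inl h)
  · exact Or.inr (Or.inr h)

theorem c2_mem : p.m2.c ∈ p.m1.E := by
  rcases p.c2_cases with h | h | h <;> rw [h]
  exacts [one_mem _, p.m1.c_E, mul_mem p.m1.c_E (p.m1.W_le_E p.m1.z_W)]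

theorem z_mem : p.m2.z ∈ p.m1.E := p.z_eq ▸ p.m1.W_le_E p.m1.z_W

theorem E_ne : p.m1.E ≠ p.m2.E := fun h =>
  p.ne (p.m1.normalizer_E.symm.trans (by rw [h, p.m2.normalizer_E]))

theorem not_E_le : ¬ p.m2.E ≤ p.m1.E := by
  intro h
  obtain ⟨x, hx, -, hnc⟩ := p.m2.exists_noncentral
  have hnot : ¬(x = 1 ∨ x = p.m1.z ∨ x = p.m1.c ∨ x = p.m1.c * p.m1.z) := by
    intro hh
    refine hnc fun t ht => ?_
    rcases hh with rfl | rfl | rfl | rfl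
    · rw [mul_one, one_mul]
    · exact p.m1.z_comm ht
    · exact p.m1.c_comm t (p.m1.T_le ht)
    · rw [← mul_assoc, p.m1.c_comm t (p.m1.T_le ht), mul_assoc, p.m1.z_comm ht, mul_assoc]
  refine p.E_ne (le_antisymm ?_ h)
  exact p.m1.E_le_of (h (p.m2.W_le_E hx)) hnot p.symm.c2_mem p.symm.z_mem (p.m2.W_le_E hx)

theorem inf_E {x : G} (h1 : x ∈ p.m1.E) (h2 : x ∈ p.m2.E) :
    x = 1 ∨ x = p.m1.z ∨ x = p.m1.c ∨ x = p.m1.c * p.m1.z := by
  by_contra hne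
  exact p.symm.not_E_le (p.m1.E_le_of h1 hne p.symm.c2_mem p.symm.z_mem h2)

theorem exists_w : ∃ w ∈ p.m2.W, w ∉ p.m1.E ∧ ∀ v ∈ p.m2.W,
    v = 1 ∨ v = p.m1.z ∨ v = w ∨ v = p.m1.z * w := by
  obtain ⟨b, hb, hb1, hbq⟩ := other (p.m2.q * p.m2.q)
  refine ⟨p.m2.s b, p.m2.s_mem_W hb, fun h => ?_, ?_⟩
  · refine p.not_E_le (p.m2.E_le_of (p.m2.W_le_E (p.m2.s_mem_W hb)) ?_ p.c2_mem p.z_mem h)
    rintro (e | e | e | e)
    · exact hb1 (p.m2.s_eq_one e)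
    · exact hbq (p.m2.s_inj e)
    · by_cases hc : p.m2.c = 1
      · exact hb1 (p.m2.s_eq_one (e.trans hc))
      · exact p.m2.c_ne hc b e
    · exact hbq (p.m2.uniq e.symm).2.symm
  · rintro _ ⟨τ, hτ, rfl⟩
    rw [← p.z_eq, Mdl.z, ← map_mul]
    rcases v_gen _ b τ p.m2.qq_V hb hτ p.m2.q_sq hb1 hbq.symm with rfl | rfl | rfl | rfl
    · exact Or.inl (map_one _)
    · exact Or.inr (Or.inl rfl)
    · exact Or.inr (Or.inr (Or.inl rfl))
    · exact Or.inr (Or.inr (Or.inr rfl))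

theorem invol_mem {x : G} (hx : x ∈ T) (h2 : x * x = 1) : x ∈ p.m1.E ∨ x ∈ p.m2.E := by
  by_contra hcon
  push Not at hcon
  obtain ⟨σ, hσD, e⟩ := p.m1.dec_T hx
  have hV : ¬ IsV σ := fun h => hcon.1 ⟨σ, h, e⟩
  have hsq : σ * σ = 1 := by
    refine p.m1.s_eq_one ?_
    rcases e with rfl | rfl
    · rwa [map_mul]
    · rwa [← p.m1.cs_sq]
  have hcomm : ∀ v ∈ p.m2.E, x * v = v * x := by
    intro v hv
    by_cases hv1 : v ∈ p.m1.E
    · rcases p.inf_E hv1 hv with rfl | rfl | rfl | rfl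
      · rw [mul_one, one_mul]
      · exact p.m1.z_comm hx
      · exact p.m1.c_comm x (p.m1.T_le hx)
      · rw [← mul_assoc, p.m1.c_comm x (p.m1.T_le hx), mul_assoc, p.m1.z_comm hx, mul_assoc]
    · obtain ⟨τ, hτD, e'⟩ := p.m1.dec_T (p.m2.E_le_T hv)
      have hV' : ¬ IsV τ := fun h => hv1 ⟨τ, h, e'⟩
      have hsq' : τ * τ = 1 := by
        refine p.m1.s_eq_one ?_
        rcases e' with rfl | rfl
        · rw [map_mul]; exact p.m2.E_sq hv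
        · rw [← p.m1.cs_sq]; exact p.m2.E_sq hv
      have hc := congrArg p.m1.s
        (odd_comm σ τ hsq hsq' hV hV' (p.m1.pow4 (mul_mem hσD hτD)))
      rw [map_mul, map_mul] at hc
      have k : ∀ ρ, Commute p.m1.c (p.m1.s ρ) := fun ρ => (p.m1.cs_comm ρ).symm
      have hc' : Commute (p.m1.s σ) (p.m1.s τ) := hc
      rcases e with rfl | rfl <;> rcases e' with rfl | rfl
      · exact hc'
      · exact (k σ).symm.mul_right hc'
      · exact (k τ).mul_left hc'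
      · exact Commute.mul_left ((Commute.refl _).mul_right (k τ)) ((k σ).symm.mul_right hc')
  obtain ⟨ρ, hρD, e'⟩ := p.m2.dec_T hx
  refine hcon.2 ⟨ρ, v_cent ρ fun b hb => p.m2.s_inj ?_, e'⟩
  have hh := hcomm _ (p.m2.W_le_E (p.m2.s_mem_W hb))
  rw [map_mul, map_mul]
  rcases e' with rfl | rfl
  · exact hh
  · refine mul_left_cancel (a := p.m2.c) ?_
    rw [← mul_assoc, hh, ← mul_assoc, p.m2.cs_comm, mul_assoc]

/-- `W₁W₂`. -/
def D0 : Subgroup G := p.m1.W ⊔ p.m2.W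

theorem D0_symm : p.symm.D0 = p.D0 := sup_comm _ _

theorem D0_le : p.D0 ≤ T :=
  sup_le (p.m1.W_le_E.trans p.m1.E_le_T) (p.m2.W_le_E.trans p.m2.E_le_T)

theorem D0_cases {x : G} (hx : x ∈ p.D0) :
    x ∈ p.m1.W ∨ x ∉ p.m1.E := by
  obtain ⟨w, hw, hwE, hcase⟩ := p.exists_w
  obtain ⟨a, ha, b, hb, rfl⟩ := exists_mul_of_le_normalizer
    ((p.m2.W_le_E.trans p.m2.E_le_T).trans (p.m1.T_le.trans p.m1.W_normal)) hx
  have key : ∀ d ∈ p.m1.W, a * (d * w) ∉ p.m1.E := fun d hd h => hwE (by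
    rw [← mul_assoc] at h
    exact (Subgroup.mul_mem_cancel_left _ (p.m1.W_le_E (mul_mem ha hd))).1 h)
  rcases hcase b hb with rfl | rfl | rfl | rfl
  · exact Or.inl (by rwa [mul_one])
  · exact Or.inl (mul_mem ha p.m1.z_W)
  · exact Or.inr (by simpa using key 1 (one_mem _))
  · exact Or.inr (key _ p.m1.z_W)

theorem D0_invol {x : G} (hx : x ∈ p.D0) (h2 : x * x = 1) : x ∈ p.m1.W ∨ x ∈ p.m2.W := by
  rcases p.D0_cases hx with h | h
  · exact Or.inl h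
  rcases p.symm.D0_cases (p.D0_symm ▸ hx) with h' | h'
  · exact Or.inr h'
  exact absurd (p.invol_mem (p.D0_le hx) h2) (by rintro (e | e); exacts [h e, h' e])

theorem c_not_mem (hc : p.m1.c ≠ 1) : p.m1.c ∉ p.D0 := by
  intro h
  rcases p.D0_cases h with ⟨σ, -, e⟩ | h'
  · exact p.m1.c_ne hc σ e.symm
  · exact h' p.m1.c_E

theorem T_cases {x : G} (hx : x ∈ T) : x ∈ p.D0 ∨ p.m1.c * x ∈ p.D0 := by
  obtain ⟨w, hw, hwE, -⟩ := p.exists_w
  obtain ⟨σ, hσ, e⟩ := p.m1.dec_T hx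
  suffices h : p.m1.s σ ∈ p.D0 ∨ p.m1.c * p.m1.s σ ∈ p.D0 by
    have hc2 : ∀ y : G, p.m1.c * (p.m1.c * y) = y := fun y => by
      rw [← mul_assoc, p.m1.c_sq, one_mul]
    rcases e with rfl | rfl
    · exact h
    · rw [hc2]; exact h.symm
  by_cases hV : IsV σ
  · exact Or.inl (mem_sup_left (p.m1.s_mem_W hV))
  obtain ⟨τ, hτ, e'⟩ := p.m1.dec_T (p.m2.E_le_T (p.m2.W_le_E hw))
  have hVτ : ¬ IsV τ := fun h => hwE ⟨τ, h, e'⟩
  have hVστ : IsV (σ * τ⁻¹) := by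
    rw [sign_v _ (p.m1.pow4 (mul_mem hσ (inv_mem hτ))), map_mul, map_inv,
      (Int.units_eq_one_or _).resolve_left (fun h => hV ((sign_v σ (p.m1.pow4 hσ)).2 h)),
      (Int.units_eq_one_or _).resolve_left (fun h => hVτ ((sign_v τ (p.m1.pow4 hτ)).2 h)),
      mul_inv_cancel]
  have h1 : p.m1.s (σ * τ⁻¹) * w ∈ p.D0 :=
    mul_mem (mem_sup_left (p.m1.s_mem_W hVστ)) (mem_sup_right hw)
  rcases e' with rfl | rfl
  · rw [← map_mul, inv_mul_cancel_right] at h1; exact Or.inl h1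
  · rw [← mul_assoc, p.m1.cs_comm, mul_assoc, ← map_mul, inv_mul_cancel_right] at h1
    exact Or.inr h1

theorem T_le_of {X : Subgroup G} (h1 : p.m1.E ≤ X) (h2 : p.m2.E ≤ X) : T ≤ X := by
  intro x hx
  have hD : p.D0 ≤ X := sup_le (p.m1.W_le_E.trans h1) (p.m2.W_le_E.trans h2)
  rcases p.T_cases hx with h | h
  · exact hD h
  · exact (Subgroup.mul_mem_cancel_left X (h1 p.m1.c_E)).1 (hD h)

theorem inf_eq : P₁ ⊓ P₂ = T := by
  refine le_antisymm (fun x hx => ?_) (le_inf p.m1.T_le p.m2.T_le)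
  refine p.m1.mem_T_of_normalizes hx.1 (mem_normalizer_of_cjg_le ?_)
  refine map_le_iff_le_comap.2 (p.T_le_of ?_ ?_)
  · intro v hv
    exact p.m1.E_le_T (conj_mem_normalizer (p.m1.E_normal hx.1) hv)
  · intro v hv
    exact p.m2.E_le_T (conj_mem_normalizer (p.m2.E_normal hx.2) hv)

end FPair

end Cfsg.Agent.JComp
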