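import Cfsg.Agent.Lib.JComp.FourPair
import Mathlib.GroupTheory.Transfer

/-!
Fusion and transfer for a pair of `C₂ × S₄` maximal 2-local subgroups: `c` is outside `O²(G)`.
-/

set_option autoImplicit false
set_option linter.unusedSectionVars false
set_option linter.style.haveILetI false

namespace Cfsg.Agent.JComp

open Subgroup Cfsg Cfsg.Agent.CharP S4F

variable {G : Type*} [Group G] [Finite G]

/-- Transfer of an involution all whose conjugates in `S` have the same image. -/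
theorem transfer_of_const {S : Subgroup G} {A : Type*} [CommGroup A] (φ : ↥S →* A) (c : G)
    (hc : c * c = 1) (a : A) (ha : a * a = 1)
    (h : ∀ (g : G) (hg : g⁻¹ * c * g ∈ S), φ ⟨_, hg⟩ = a) :
    MonoidHom.transfer φ c = a ^ S.index := by
  classical
  letI := S.fintypeQuotientOfFiniteIndex
  rw [MonoidHom.transfer_eq_prod_quotient_orbitRel_zpowers_quot, index_eq_sum_minimalPeriod S c,
    ← Finset.prod_pow_eq_pow_sum]
  refine Finset.prod_congr rfl fun q _ => ?_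
  set m := Function.minimalPeriod (c • ·) q.out with hm
  rcases Nat.even_or_odd m with ⟨k, hk⟩ | ⟨k, hk⟩
  · have e : c ^ m = 1 := by rw [hk, ← two_mul, pow_mul, pow_two, hc, one_pow]
    have e' : a ^ m = 1 := by rw [hk, ← two_mul, pow_mul, pow_two, ha, one_pow]
    rw [e']
    refine Eq.trans (congrArg φ (Subtype.ext ?_)) (map_one φ)
    show q.out.out⁻¹ * c ^ m * q.out.out = 1
    rw [e]; group
  · have e : c ^ m = c := by rw [hk, pow_succ, pow_mul, pow_two, hc, one_pow, one_mul]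
    have e' : a ^ m = a := by rw [hk, pow_succ, pow_mul, pow_two, ha, one_pow, one_mul]
    rw [e']
    have hg : q.out.out⁻¹ * c * q.out.out ∈ S := by
      have := QuotientGroup.out_conj_pow_minimalPeriod_mem S c q.out
      rwa [← hm, e] at this
    refine Eq.trans (congrArg φ (Subtype.ext ?_)) (h _ hg)
    show q.out.out⁻¹ * c ^ m * q.out.out = q.out.out⁻¹ * c * q.out.out
    rw [e]

namespace FPair

variable {P₁ P₂ T : Subgroup G} (p : FPair P₁ P₂ T)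
include p

theorem c2_eq (hc2 : p.m2.c ≠ 1) : p.m2.c = p.m1.c * p.m1.z := by
  rcases p.c2_cases with h | h | h
  · exact absurd h hc2
  · refine absurd ?_ p.ne
    refine p.m2.max.2 _ p.m1.max.1 fun x hx => p.m1.centralizer_c (h ▸ hc2) ?_
    rw [← h]; exact p.m2.c_comm x hx
  · exact h

theorem fix_z {g : G} (hg : g ∈ normalizer (T : Set G)) : g * p.m1.z * g⁻¹ = p.m1.z := by
  have ht := conj_mem_normalizer hg (p.m1.mem_D.1 p.m1.q_D)
  have e : g * p.m1.z * g⁻¹ =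
      g * p.m1.s p.m1.q * g⁻¹ * (g * p.m1.s p.m1.q * g⁻¹) := by
    rw [Mdl.z, map_mul]; group
  rw [e]
  exact p.m1.sq_T ht (e ▸ fun h => p.m1.z_ne (conj_eq_one_iff.1 h))

theorem z_comm_N {g : G} (hg : g ∈ normalizer (T : Set G)) : g * p.m1.z = p.m1.z * g :=
  mul_inv_eq_iff_eq_mul.1 (p.fix_z hg)

theorem swap (hc1 : p.m1.c ≠ 1) {g : G} (hg : g ∈ normalizer (T : Set G)) (hgT : g ∉ T) :
    g * p.m1.c * g⁻¹ = p.m1.c * p.m1.z := by
  have hu := conj_mem_normalizer hg p.m1.c_T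
  rcases p.m1.centre hu fun t ht => by
      have ht' : g⁻¹ * t * g ∈ T := by
        have := conj_mem_normalizer (inv_mem hg) ht
        rwa [inv_inv] at this
      have e := p.m1.c_comm _ (p.m1.T_le ht')
      calc t * (g * p.m1.c * g⁻¹) = g * (g⁻¹ * t * g * p.m1.c) * g⁻¹ := by group
        _ = g * (p.m1.c * (g⁻¹ * t * g)) * g⁻¹ := by rw [e]
        _ = g * p.m1.c * g⁻¹ * t := by group
    with h | h | h | h
  · exact absurd (conj_eq_one_iff.1 h) hc1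
  · exact absurd (mul_left_cancel (mul_right_cancel (h.trans (p.fix_z hg).symm)))
      (p.m1.c_ne_z hc1)
  · exact absurd (p.m1.mem_T_of_normalizes
      (p.m1.centralizer_c hc1 (mul_inv_eq_iff_eq_mul.1 h)) hg) hgT
  · exact h

theorem mul_mem_T (hc1 : p.m1.c ≠ 1) {g h : G} (hg : g ∈ normalizer (T : Set G)) (hgT : g ∉ T)
    (hh : h ∈ normalizer (T : Set G)) (hhT : h ∉ T) : g * h ∈ T := by
  refine p.m1.mem_T_of_normalizes (p.m1.centralizer_c hc1 (mul_inv_eq_iff_eq_mul.1 ?_))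
    (mul_mem hg hh)
  calc g * h * p.m1.c * (g * h)⁻¹ = g * (h * p.m1.c * h⁻¹) * g⁻¹ := by group
    _ = g * (p.m1.c * p.m1.z) * g⁻¹ := by rw [p.swap hc1 hh hhT]
    _ = g * p.m1.c * g⁻¹ * (g * p.m1.z * g⁻¹) := by group
    _ = p.m1.c := by
      rw [p.swap hc1 hg hgT, p.fix_z hg, mul_assoc, p.m1.z_sq, mul_one]

theorem isTwo_N (hc1 : p.m1.c ≠ 1) : IsPGroup 2 ↥(normalizer (T : Set G)) := by
  rintro ⟨x, hx⟩
  have h2 : x * x ∈ T := by
    by_cases hxT : x ∈ T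
    · exact mul_mem hxT hxT
    · exact p.mul_mem_T hc1 hx hxT hx hxT
  obtain ⟨k, hk⟩ := p.m1.isTwo ⟨_, h2⟩
  refine ⟨k + 1, Subtype.ext ?_⟩
  show x ^ 2 ^ (k + 1) = 1
  rw [pow_succ, mul_comm (2 ^ k), pow_mul, pow_two]
  exact congrArg Subtype.val hk

theorem fixed_E (hc1 : p.m1.c ≠ 1) {g x : G} (hg : g ∈ normalizer (T : Set G)) (hgT : g ∉ T)
    (hx : x ∈ p.m1.E) (hgx : g * x = x * g) : x = 1 ∨ x = p.m1.z := by
  have hgx' : g * x * g⁻¹ = x := by rw [hgx, mul_inv_cancel_right]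
  by_contra hne
  push Not at hne
  by_cases hcen : x = 1 ∨ x = p.m1.z ∨ x = p.m1.c ∨ x = p.m1.c * p.m1.z
  · rcases hcen with h | h | h | h
    · exact hne.1 h
    · exact hne.2 h
    · rw [h, p.swap hc1 hg hgT] at hgx'
      exact p.m1.z_ne (by simpa using hgx')
    · rw [h, show g * (p.m1.c * p.m1.z) * g⁻¹ = g * p.m1.c * g⁻¹ * (g * p.m1.z * g⁻¹) by group,
        p.swap hc1 hg hgT, p.fix_z hg] at hgx'
      exact p.m1.z_ne (by simpa using hgx'.symm)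
  · have hle : p.m1.E ≤ cjg g p.m1.E := by
      refine p.m1.E_le_of hx hcen ?_ ?_ ?_
      · refine ⟨p.m1.c * p.m1.z, mul_mem p.m1.c_E (p.m1.W_le_E p.m1.z_W), ?_⟩
        rw [MulEquiv.coe_toMonoidHom, MulAut.conj_apply,
          show g * (p.m1.c * p.m1.z) * g⁻¹ = g * p.m1.c * g⁻¹ * (g * p.m1.z * g⁻¹) by group,
          p.swap hc1 hg hgT, p.fix_z hg, mul_assoc, p.m1.z_sq, mul_one]
      · exact ⟨p.m1.z, p.m1.W_le_E p.m1.z_W, p.fix_z hg⟩
      · exact ⟨x, hx, hgx'⟩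
    have hgE : g ∈ normalizer (p.m1.E : Set G) :=
      cjg_eq_self.1 (eq_of_le_of_card_ge hle (card_cjg g _).le).symm
    exact hgT (p.m1.mem_T_of_normalizes (p.m1.normalizer_E.le hgE) hg)

theorem fixed_invol (hc1 : p.m1.c ≠ 1) (hc2 : p.m2.c ≠ 1) {g x : G}
    (hg : g ∈ normalizer (T : Set G)) (hgT : g ∉ T) (hx : x ∈ T) (hx2 : x * x = 1)
    (hgx : g * x = x * g) : x = 1 ∨ x = p.m1.z := by
  rcases p.invol_mem hx hx2 with h | h
  · exact p.fixed_E hc1 hg hgT h hgx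
  · exact p.z_eq ▸ p.symm.fixed_E hc2 hg hgT h hgx

theorem small (hc1 : p.m1.c ≠ 1) (hc2 : p.m2.c ≠ 1) {f a : G}
    (hf : f ∈ normalizer (T : Set G)) (hfT : f ∉ T) (hf2 : f * f = 1)
    (ha : a ∈ normalizer (T : Set G)) (ha2 : a * a = 1) (hfa : f * a = a * f) :
    a = 1 ∨ a = p.m1.z ∨ a = f ∨ a = f * p.m1.z := by
  by_cases haT : a ∈ T
  · rcases p.fixed_invol hc1 hc2 hf hfT haT ha2 hfa with h | h
    · exact Or.inl h
    · exact Or.inr (Or.inl h)
  · have hfaa : a = f * (f * a) := by rw [← mul_assoc, hf2, one_mul]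
    rcases p.fixed_invol hc1 hc2 hf hfT (p.mul_mem_T hc1 hf hfT ha haT)
      (by rw [mul_assoc, ← mul_assoc a, ← hfa, mul_assoc f a a, ha2, mul_one, hf2])
      (by rw [mul_assoc f a f, ← hfa]) with h | h
    · exact Or.inr (Or.inr (Or.inl (by rw [hfaa, h, mul_one])))
    · exact Or.inr (Or.inr (Or.inr (by rw [hfaa, h])))

theorem card_E (hc1 : p.m1.c ≠ 1) : 4 < Nat.card ↥p.m1.E := by
  classical
  let φ : Bool × {σ : S4 // IsV σ} → ↥p.m1.E := fun x =>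
    if x.1 then ⟨_, x.2.1, x.2.2, Or.inr rfl⟩ else ⟨_, x.2.1, x.2.2, Or.inl rfl⟩
  have hφ : Function.Injective φ := by
    rintro ⟨b, σ⟩ ⟨b', τ⟩ h
    have h' := congrArg Subtype.val h
    cases b <;> cases b' <;> simp only [φ, if_true, Bool.false_eq_true, if_false] at h'
    · rw [Subtype.ext (p.m1.s_inj h')]
    · exact absurd (p.m1.uniq h'.symm).1 hc1
    · exact absurd (p.m1.uniq h').1 hc1
    · rw [Subtype.ext (p.m1.s_inj (mul_left_cancel h'))]
  have := Nat.card_le_card_of_injective φ hφ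
  rw [Nat.card_prod, Nat.card_eq_fintype_card, Nat.card_eq_fintype_card (α := {σ : S4 // IsV σ}),
    Fintype.card_bool, card_v] at this
  omega

theorem conj_E_le (hc1 : p.m1.c ≠ 1) (hc2 : p.m2.c ≠ 1) {h : G}
    (hh : h ∈ normalizer (normalizer (T : Set G) : Set G)) {v : G} (hv : v ∈ p.m1.E) :
    h * v * h⁻¹ ∈ T := by
  by_contra hf
  have hN : ∀ a ∈ p.m1.E, h * a * h⁻¹ ∈ normalizer (T : Set G) := fun a ha =>
    conj_mem_normalizer hh (le_normalizer (p.m1.E_le_T ha))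
  have hsub : (fun a => h * a * h⁻¹) '' (p.m1.E : Set G) ⊆
      {1, p.m1.z, h * v * h⁻¹, h * v * h⁻¹ * p.m1.z} := by
    rintro _ ⟨a, ha, rfl⟩
    have hva : v * a = a * v :=
      isElementaryAbelian_two_comm (isElementaryAbelian_two_of fun _ hx => p.m1.E_sq hx) hv ha
    simp only [Set.mem_insert_iff, Set.mem_singleton_iff]
    refine p.small hc1 hc2 (hN v hv) hf ?_ (hN a ha) ?_ ?_
    · rw [show h * v * h⁻¹ * (h * v * h⁻¹) = h * (v * v) * h⁻¹ by group, p.m1.E_sq hv]; group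
    · rw [show h * a * h⁻¹ * (h * a * h⁻¹) = h * (a * a) * h⁻¹ by group, p.m1.E_sq ha]; group
    · rw [show h * v * h⁻¹ * (h * a * h⁻¹) = h * (v * a) * h⁻¹ by group, hva]; group
  have h1 := Set.ncard_le_ncard hsub (Set.toFinite _)
  rw [Set.ncard_image_of_injective _ (fun a b e => mul_left_cancel (mul_right_cancel e)),
    ← Nat.card_coe_set_eq] at h1
  have h4 : ({1, p.m1.z, h * v * h⁻¹, h * v * h⁻¹ * p.m1.z} : Set G).ncard ≤ 4 := by
    refine (Set.ncard_insert_le _ _).trans (Nat.succ_le_succ ?_)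
    refine (Set.ncard_insert_le _ _).trans (Nat.succ_le_succ ?_)
    refine (Set.ncard_insert_le _ _).trans (Nat.succ_le_succ ?_)
    rw [Set.ncard_singleton]
  have := p.card_E hc1
  exact absurd (h1.trans h4) (by rw [SetLike.coe_sort_coe]; omega)

theorem normalizer_N (hc1 : p.m1.c ≠ 1) (hc2 : p.m2.c ≠ 1) :
    normalizer (normalizer (T : Set G) : Set G) ≤ normalizer (T : Set G) := fun _ hh =>
  mem_normalizer_of_cjg_le (map_le_iff_le_comap.2 (p.T_le_of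
    (fun _ hv => p.conj_E_le hc1 hc2 hh hv) (fun _ hv => p.symm.conj_E_le hc2 hc1 hh hv)))

theorem exists_sylow (hc1 : p.m1.c ≠ 1) (hc2 : p.m2.c ≠ 1) :
    ∃ S : Sylow 2 G, (S : Subgroup G) = normalizer (T : Set G) := by
  obtain ⟨S, hS⟩ := (p.isTwo_N hc1).exists_le_sylow
  refine ⟨S, (by_contra fun hne => ?_)⟩
  obtain ⟨t, -, ht, htN⟩ := exists_normalizes_not_mem S.isPGroup' hS (Ne.symm hne)
  exact ht (p.normalizer_N hc1 hc2 htN)

theorem z_not_conj (hc1 : p.m1.c ≠ 1) (hc2 : p.m2.c ≠ 1) (g : G) :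
    g * p.m1.z * g⁻¹ ≠ p.m1.c := by
  intro e
  obtain ⟨S, hS⟩ := p.exists_sylow hc1 hc2
  have hTN : T ≤ normalizer (T : Set G) := le_normalizer
  by_cases hN : normalizer (T : Set G) ≤ T
  · have hST : (S : Subgroup G) = T := hS.trans (le_antisymm hN hTN)
    obtain ⟨n, hn, hn'⟩ := S.conj_eq_normalizer_conj_of_mem_centralizer p.m1.z g⁻¹
      (fun t ht => p.m1.z_comm (hST.le ht))
      (fun t ht => by rw [inv_inv, e]; exact p.m1.c_comm t (p.m1.T_le (hST.le ht)))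
    rw [inv_inv, e] at hn'
    have hnT : n ∈ T := hN (by rw [← hST]; exact hn)
    exact p.m1.c_ne_z hc1 (hn'.trans (by rw [mul_assoc, ← p.m1.z_comm hnT, inv_mul_cancel_left]))
  · refine hN (eq_of_le_of_card_ge hTN ?_).ge
    have hle : cjg g (normalizer (T : Set G)) ≤ P₁ := by
      rintro _ ⟨y, hy, rfl⟩
      refine p.m1.centralizer_c hc1 ?_
      rw [MulEquiv.coe_toMonoidHom, MulAut.conj_apply, ← e]
      calc g * y * g⁻¹ * (g * p.m1.z * g⁻¹) = g * (y * p.m1.z) * g⁻¹ := by group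
        _ = g * (p.m1.z * y) * g⁻¹ := by rw [p.z_comm_N hy]
        _ = g * p.m1.z * g⁻¹ * (g * y * g⁻¹) := by group
    have := sylowTwo_card_le p.m1.syl ((p.isTwo_N hc1).map _) hle
    rwa [card_cjg] at this

theorem conj_z_W (hc1 : p.m1.c ≠ 1) (hc2 : p.m2.c ≠ 1) {g x : G} (hx : x ∈ p.m1.E)
    (e : g * p.m1.z * g⁻¹ = x) : x ∈ p.m1.W := by
  obtain ⟨σ, hσ, rfl | rfl⟩ := hx
  · exact p.m1.s_mem_W hσ
  exfalso
  by_cases h1 : σ = 1
  · subst h1; rw [map_one, mul_one] at e; exact p.z_not_conj hc1 hc2 g e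
  obtain ⟨τ, hτ⟩ := v_trans _ _ hσ h1 p.m1.qq_V p.m1.q_sq
  refine p.symm.z_not_conj hc2 hc1 (p.m1.s τ * g) ?_
  show p.m1.s τ * g * p.m2.z * (p.m1.s τ * g)⁻¹ = p.m2.c
  rw [p.z_eq, p.c2_eq hc2,
    show p.m1.s τ * g * p.m1.z * (p.m1.s τ * g)⁻¹ =
      p.m1.s τ * (g * p.m1.z * g⁻¹) * (p.m1.s τ)⁻¹ by group, e, Mdl.z, ← hτ]
  simp only [map_mul, map_inv, ← mul_assoc, p.m1.cs_comm]

theorem invol_conj_z (hc1 : p.m1.c ≠ 1) (hc2 : p.m2.c ≠ 1) {g x : G} (hx : x ∈ T)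
    (e : g * p.m1.z * g⁻¹ = x) : x ∈ p.D0 := by
  have h2 : x * x = 1 := by
    rw [← e, show g * p.m1.z * g⁻¹ * (g * p.m1.z * g⁻¹) = g * (p.m1.z * p.m1.z) * g⁻¹ by group,
      p.m1.z_sq]; group
  rcases p.invol_mem hx h2 with h | h
  · exact mem_sup_left (p.conj_z_W hc1 hc2 h e)
  · exact mem_sup_right (p.symm.conj_z_W hc2 hc1 (g := g) h (by
      show g * p.m2.z * g⁻¹ = x; rw [p.z_eq, e]))

theorem W_conj_z {w : G} (hw : w ∈ p.m1.W) (h1 : w ≠ 1) : ∃ g, g * p.m1.z * g⁻¹ = w := by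
  obtain ⟨σ, hσ, rfl⟩ := hw
  obtain ⟨τ, hτ⟩ := v_trans _ σ p.m1.qq_V p.m1.q_sq hσ fun h => h1 (by rw [h, map_one])
  exact ⟨p.m1.s τ, by rw [← hτ, Mdl.z]; simp only [map_mul, map_inv]⟩

theorem N_le_D0 (hc1 : p.m1.c ≠ 1) (hc2 : p.m2.c ≠ 1) :
    normalizer (T : Set G) ≤ normalizer (p.D0 : Set G) := by
  intro n hn
  refine mem_normalizer_of_cjg_le (map_le_iff_le_comap.2 (sup_le ?_ ?_))
  all_goals
    intro w hw
    rw [mem_comap, MulEquiv.coe_toMonoidHom, MulAut.conj_apply]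
    rcases eq_or_ne w 1 with rfl | h1
    · rw [mul_one, mul_inv_cancel]; exact one_mem _
    have hwT : w ∈ T := p.D0_le (by first | exact mem_sup_left hw | exact mem_sup_right hw)
    obtain ⟨g, hg⟩ : ∃ g, g * p.m1.z * g⁻¹ = w := by
      first
      | exact p.W_conj_z hw h1
      | exact p.z_eq ▸ p.symm.W_conj_z hw h1
    refine p.invol_conj_z hc1 hc2 (g := n * g) (conj_mem_normalizer hn hwT) ?_
    rw [← hg]; group

theorem centralizer_z (z : ZN G) (hc1 : p.m1.c ≠ 1) (hc2 : p.m2.c ≠ 1) {y : G}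
    (hy : y ∈ normalizer (T : Set G)) (hyT : y ∉ T) {g : G} (hg : g * p.m1.z = p.m1.z * g) :
    g ∈ normalizer (T : Set G) := by
  obtain ⟨S, hS⟩ := p.exists_sylow hc1 hc2
  refine p.normalizer_N hc1 hc2 ?_
  rw [← hS]
  refine z.hz S fun v hv => ?_
  obtain ⟨hvS, hvc, hv2⟩ := mem_omegaCenterOf.1 hv
  rw [hS] at hvS
  have hvP : v ∈ P₁ := p.m1.centralizer_c hc1 (hvc _ (hS.ge (le_normalizer p.m1.c_T))).symm
  rcases p.fixed_invol hc1 hc2 hy hyT (p.m1.mem_T_of_normalizes hvP hvS) hv2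
    (hvc y (hS.ge hy)) with rfl | rfl
  · rw [one_mul, mul_one]
  · exact hg.symm

theorem conj_c_T (z : ZN G) (hc1 : p.m1.c ≠ 1) (hc2 : p.m2.c ≠ 1) {g : G}
    (hy : g * p.m1.c * g⁻¹ ∈ normalizer (T : Set G)) : g * p.m1.c * g⁻¹ ∈ T := by
  set y := g * p.m1.c * g⁻¹ with hydef
  by_contra hyT
  have hz' : g⁻¹ * p.m1.z * g ∈ P₁ := p.m1.centralizer_c hc1 (by
    have e := p.z_comm_N hy
    calc g⁻¹ * p.m1.z * g * p.m1.c = g⁻¹ * (p.m1.z * y) * g := by rw [hydef]; group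
      _ = g⁻¹ * (y * p.m1.z) * g := by rw [e]
      _ = p.m1.c * (g⁻¹ * p.m1.z * g) := by rw [hydef]; group)
  obtain ⟨σ, hσ⟩ := p.m1.dec _ hz'
  have hσ2 : σ * σ = 1 := by
    refine p.m1.s_eq_one ?_
    have : g⁻¹ * p.m1.z * g * (g⁻¹ * p.m1.z * g) = 1 := by
      rw [show g⁻¹ * p.m1.z * g * (g⁻¹ * p.m1.z * g) = g⁻¹ * (p.m1.z * p.m1.z) * g by group,
        p.m1.z_sq]; group
    rcases hσ with h | h <;> rw [h] at this
    · rwa [map_mul]
    · rwa [← p.m1.cs_sq]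
  obtain ⟨b, hb2, hb1, hbσ, hbc⟩ := third σ hσ2
  have hvz : g⁻¹ * p.m1.z * g * p.m1.s b = p.m1.s b * (g⁻¹ * p.m1.z * g) := by
    have e : p.m1.s σ * p.m1.s b = p.m1.s b * p.m1.s σ := by rw [← map_mul, hbc, map_mul]
    rcases hσ with h | h <;> rw [h]
    · exact e
    · rw [mul_assoc, e, ← mul_assoc, ← p.m1.cs_comm, mul_assoc]
  set v := g * p.m1.s b * g⁻¹ with hvdef
  have hvN : v ∈ normalizer (T : Set G) := p.centralizer_z z hc1 hc2 hy hyT (by
    calc v * p.m1.z = g * (p.m1.s b * (g⁻¹ * p.m1.z * g)) * g⁻¹ := by rw [hvdef]; group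
      _ = g * (g⁻¹ * p.m1.z * g * p.m1.s b) * g⁻¹ := by rw [hvz]
      _ = p.m1.z * v := by rw [hvdef]; group)
  have hy2 : y * y = 1 := by
    rw [hydef, show g * p.m1.c * g⁻¹ * (g * p.m1.c * g⁻¹) = g * (p.m1.c * p.m1.c) * g⁻¹ by group,
      p.m1.c_sq]; group
  have hv2 : v * v = 1 := by
    rw [hvdef, show g * p.m1.s b * g⁻¹ * (g * p.m1.s b * g⁻¹) =
      g * (p.m1.s b * p.m1.s b) * g⁻¹ by group, ← map_mul, hb2, map_one]; group
  have hyv : y * v = v * y := by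
    calc y * v = g * (p.m1.c * p.m1.s b) * g⁻¹ := by rw [hydef, hvdef]; group
      _ = g * (p.m1.s b * p.m1.c) * g⁻¹ := by rw [p.m1.cs_comm]
      _ = v * y := by rw [hydef, hvdef]; group
  have hsb : p.m1.s b = g⁻¹ * v * g := by rw [hvdef]; group
  rcases p.small hc1 hc2 hy hyT hy2 hvN hv2 hyv with h | h | h | h <;> rw [h] at hsb
  · exact hb1 (p.m1.s_eq_one (by rw [hsb]; group))
  · rcases hσ with e | e <;> rw [e] at hsb
    · exact hbσ (p.m1.s_inj hsb)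
    · exact hc1 (p.m1.uniq hsb.symm).1
  · refine p.m1.c_ne hc1 b (hsb.trans ?_)
    rw [hydef]; group
  · rw [show g⁻¹ * (y * p.m1.z) * g = p.m1.c * (g⁻¹ * p.m1.z * g) by rw [hydef]; group] at hsb
    rcases hσ with e | e <;> rw [e] at hsb
    · exact hc1 (p.m1.uniq hsb.symm).1
    · rw [← mul_assoc, p.m1.c_sq, one_mul] at hsb
      exact hbσ (p.m1.s_inj hsb)

theorem conj_c_D0 (z : ZN G) (hc1 : p.m1.c ≠ 1) (hc2 : p.m2.c ≠ 1) {g : G}
    (hy : g * p.m1.c * g⁻¹ ∈ normalizer (T : Set G)) : p.m1.c * (g * p.m1.c * g⁻¹) ∈ p.D0 := by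
  refine (p.T_cases (p.conj_c_T z hc1 hc2 hy)).resolve_left fun h => ?_
  set y := g * p.m1.c * g⁻¹ with hydef
  have hy2 : y * y = 1 := by
    rw [hydef, show g * p.m1.c * g⁻¹ * (g * p.m1.c * g⁻¹) = g * (p.m1.c * p.m1.c) * g⁻¹ by group,
      p.m1.c_sq]; group
  have hy1 : y ≠ 1 := fun e => hc1 (conj_eq_one_iff.1 e)
  obtain ⟨k, hk⟩ : ∃ k, k * p.m1.z * k⁻¹ = y := by
    rcases p.D0_invol h hy2 with h' | h'
    · exact p.W_conj_z h' hy1
    · exact p.z_eq ▸ p.symm.W_conj_z h' hy1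
  refine p.z_not_conj hc1 hc2 (g⁻¹ * k) ?_
  rw [show g⁻¹ * k * p.m1.z * (g⁻¹ * k)⁻¹ = g⁻¹ * (k * p.m1.z * k⁻¹) * g by group, hk, hydef]
  group

theorem comm_mem_D0 (hc1 : p.m1.c ≠ 1) (hc2 : p.m2.c ≠ 1) {a b : G}
    (ha : a ∈ normalizer (T : Set G)) (hb : b ∈ normalizer (T : Set G)) :
    a * b * a⁻¹ * b⁻¹ ∈ p.D0 := by
  have hn := p.N_le_D0 hc1 hc2
  have hz : p.m1.z ∈ p.D0 := mem_sup_left p.m1.z_W
  have hTd : ∀ {x : G}, x ∈ T → ∃ d ∈ p.D0, x = d ∨ x = p.m1.c * d := fun {x} hx => by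
    rcases p.T_cases hx with h | h
    · exact ⟨x, h, Or.inl rfl⟩
    · exact ⟨_, h, Or.inr (by rw [← mul_assoc, p.m1.c_sq, one_mul])⟩
  -- one factor in `T`
  have key : ∀ {u t : G}, u ∈ normalizer (T : Set G) → t ∈ T → u * t * u⁻¹ * t⁻¹ ∈ p.D0 := by
    intro u t hu ht
    obtain ⟨d, hd, rfl | rfl⟩ := hTd ht
    · exact mul_mem (conj_mem_normalizer (hn hu) hd) (inv_mem hd)
    · have hcd : p.m1.c * (u * d * u⁻¹ * d⁻¹) * p.m1.c⁻¹ ∈ p.D0 :=
        conj_mem_normalizer (hn (le_normalizer p.m1.c_T))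
          (mul_mem (conj_mem_normalizer (hn hu) hd) (inv_mem hd))
      by_cases huT : u ∈ T
      · have hu' : u * p.m1.c * u⁻¹ = p.m1.c := by
          rw [p.m1.c_comm u (p.m1.T_le huT), mul_inv_cancel_right]
        rw [show u * (p.m1.c * d) * u⁻¹ * (p.m1.c * d)⁻¹ =
          u * p.m1.c * u⁻¹ * (u * d * u⁻¹ * d⁻¹) * p.m1.c⁻¹ by group, hu']
        exact hcd
      · rw [show u * (p.m1.c * d) * u⁻¹ * (p.m1.c * d)⁻¹ =
          u * p.m1.c * u⁻¹ * (u * d * u⁻¹ * d⁻¹) * p.m1.c⁻¹ by group, p.swap hc1 hu huT,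
          show p.m1.c * p.m1.z * (u * d * u⁻¹ * d⁻¹) * p.m1.c⁻¹ =
            p.m1.c * p.m1.z * p.m1.c⁻¹ * (p.m1.c * (u * d * u⁻¹ * d⁻¹) * p.m1.c⁻¹) by group]
        exact mul_mem (conj_mem_normalizer (hn (le_normalizer p.m1.c_T)) hz) hcd
  by_cases hbT : b ∈ T
  · exact key ha hbT
  by_cases haT : a ∈ T
  · have := inv_mem (key hb haT)
    rwa [show (b * a * b⁻¹ * a⁻¹)⁻¹ = a * b * a⁻¹ * b⁻¹ by group] at this
  have hai : a⁻¹ ∈ normalizer (T : Set G) := inv_mem ha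
  have hai' : a⁻¹ ∉ T := fun h => haT (inv_mem_iff.1 h)
  have ht : a⁻¹ * b ∈ T := p.mul_mem_T hc1 hai hai' hb hbT
  have := conj_mem_normalizer (hn ha) (key ha ht)
  rwa [show a * (a * (a⁻¹ * b) * a⁻¹ * (a⁻¹ * b)⁻¹) * a⁻¹ = a * b * a⁻¹ * b⁻¹ by group] at this

/-- `c` lies outside the subgroup generated by elements of odd order. -/
theorem c_not_odd (z : ZN G) (hc1 : p.m1.c ≠ 1) (hc2 : p.m2.c ≠ 1) :
    p.m1.c ∉ Subgroup.closure {g : G | Odd (orderOf g)} := by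
  obtain ⟨S, hS⟩ := p.exists_sylow hc1 hc2
  set N := normalizer (T : Set G) with hNdef
  set K := p.D0.subgroupOf N with hK
  haveI : K.Normal := normal_subgroupOf_of_le_normalizer (p.N_le_D0 hc1 hc2)
  letI : CommGroup (↥N ⧸ K) :=
    { (inferInstance : Group (↥N ⧸ K)) with
      mul_comm := by
        intro x y
        induction x using QuotientGroup.induction_on with | _ x => ?_
        induction y using QuotientGroup.induction_on with | _ y => ?_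
        rw [← QuotientGroup.mk_mul, ← QuotientGroup.mk_mul, QuotientGroup.eq, mem_subgroupOf]
        have := p.comm_mem_D0 hc1 hc2 (inv_mem y.2) (inv_mem x.2)
        rw [inv_inv, inv_inv] at this
        simpa [mul_assoc] using this }
  let φ : ↥N →* ↥N ⧸ K := QuotientGroup.mk' K
  have hcN : p.m1.c ∈ N := le_normalizer p.m1.c_T
  set a := φ ⟨p.m1.c, hcN⟩ with hadef
  have ha2 : a * a = 1 := by
    rw [hadef, ← map_mul]
    exact (congrArg φ (Subtype.ext p.m1.c_sq)).trans (map_one φ)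
  have ha1 : a ≠ 1 := fun h =>
    p.c_not_mem hc1 (mem_subgroupOf.1 ((QuotientGroup.eq_one_iff _).1 h))
  have htr := transfer_of_const φ p.m1.c p.m1.c_sq a ha2 fun g hg => by
    refine ((QuotientGroup.eq).2 (mem_subgroupOf.2 ?_)).symm
    have := p.conj_c_D0 z hc1 hc2 (g := g⁻¹) (by rwa [inv_inv])
    rw [inv_inv] at this
    simpa [p.m1.c_inv] using this
  have hodd : Odd N.index := by
    rw [← Nat.not_even_iff_odd, even_iff_two_dvd, ← hS]
    exact S.not_dvd_index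
  obtain ⟨j, hj⟩ := hodd
  rw [hj, pow_succ, pow_mul, pow_two, ha2, one_pow, one_mul] at htr
  intro hmem
  refine ha1 (htr.symm.trans ?_)
  have hle : Subgroup.closure {g : G | Odd (orderOf g)} ≤ (MonoidHom.transfer φ).ker := by
    rw [closure_le]
    intro x hx
    rw [SetLike.mem_coe, MonoidHom.mem_ker, ← orderOf_eq_one_iff]
    obtain ⟨k, hk⟩ := (p.isTwo_N hc1).to_quotient K (MonoidHom.transfer φ x)
    refine Nat.eq_one_of_dvd_coprimes (k := _) ?_ (orderOf_map_dvd _ x)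
      (orderOf_dvd_of_pow_eq_one hk)
    exact Nat.Coprime.pow_right k (Nat.coprime_two_right.2 hx)
  exact hle hmem

end FPair

end Cfsg.Agent.JComp
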