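import Cfsg.Agent.Lib.JComp.FourPair

/-!
The intersection of a pair of models with a subgroup containing all elements of odd order.
-/

set_option autoImplicit false
set_option linter.unusedSectionVars false

namespace Cfsg.Agent.JComp

open Subgroup Cfsg Cfsg.Agent.CharP S4F

variable {G : Type*} [Group G] [Finite G]

/-- `H` contains the elements of odd order and the model meets it in a complement to `⟨c⟩`. -/
structure OddSub {P₁ P₂ T : Subgroup G} (p : FPair P₁ P₂ T) (H : Subgroup G) : Prop where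
  odd : ∀ g : G, Odd (orderOf g) → g ∈ H
  c_notin : p.m1.c ∈ H → p.m1.c = 1

namespace OddSub

variable {P₁ P₂ T H : Subgroup G} {p : FPair P₁ P₂ T}

theorem even_mem (o : OddSub p H) (m : Mdl P₁ T) {σ : S4} (h : Equiv.Perm.sign σ = 1) :
    m.s σ ∈ H := by
  obtain ⟨x, hx, hxσ⟩ := even_prod σ h
  have key : ∀ y : S4, y ^ 3 = 1 → m.s y ∈ H := fun y hy =>
    o.odd _ ((show Odd 3 by decide).of_dvd_nat
      (orderOf_dvd_of_pow_eq_one (by rw [← map_pow, hy, map_one])))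
  have := mul_mem (inv_mem (key x hx)) (key _ hxσ)
  rwa [← map_inv, ← map_mul, inv_mul_cancel_left] at this

theorem W_le (o : OddSub p H) : p.m1.W ≤ H := by
  rintro _ ⟨σ, hσ, rfl⟩
  refine o.even_mem p.m1 ((sign_v σ ?_).1 hσ)
  exact p.m1.pow4 (p.m1.v_D hσ)

theorem W2_le (o : OddSub p H) : p.m2.W ≤ H := by
  rintro _ ⟨σ, hσ, rfl⟩
  obtain ⟨x, hx, hxσ⟩ := even_prod σ ((sign_v σ (p.m2.pow4 (p.m2.v_D hσ))).1 hσ)
  have key : ∀ y : S4, y ^ 3 = 1 → p.m2.s y ∈ H := fun y hy =>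
    o.odd _ ((show Odd 3 by decide).of_dvd_nat
      (orderOf_dvd_of_pow_eq_one (by rw [← map_pow, hy, map_one])))
  have := mul_mem (inv_mem (key x hx)) (key _ hxσ)
  rwa [← map_inv, ← map_mul, inv_mul_cancel_left] at this

theorem lift (o : OddSub p H) (σ : S4) : p.m1.s σ ∈ H ∨ p.m1.c * p.m1.s σ ∈ H := by
  rcases Int.units_eq_one_or (Equiv.Perm.sign σ) with h | h
  · exact Or.inl (o.even_mem p.m1 h)
  obtain ⟨w, hw, hwE, -⟩ := p.exists_w
  obtain ⟨τ, hτ, e⟩ := p.m1.dec_T (p.m2.E_le_T (p.m2.W_le_E hw))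
  have hV : ¬ IsV τ := fun hh => hwE ⟨τ, hh, e⟩
  have hs : Equiv.Perm.sign (σ * τ⁻¹) = 1 := by
    rw [map_mul, map_inv, h,
      (Int.units_eq_one_or _).resolve_left fun hh => hV ((sign_v τ (p.m1.pow4 hτ)).2 hh),
      mul_inv_cancel]
  have h1 := mul_mem (o.even_mem p.m1 hs) (o.W2_le hw)
  rcases e with rfl | rfl
  · rw [← map_mul, inv_mul_cancel_right] at h1; exact Or.inl h1
  · rw [← mul_assoc, p.m1.cs_comm, mul_assoc, ← map_mul, inv_mul_cancel_right] at h1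
    exact Or.inr h1

theorem unique (o : OddSub p H) {σ : S4} {x y : G} (hx : x = p.m1.s σ ∨ x = p.m1.c * p.m1.s σ)
    (hy : y = p.m1.s σ ∨ y = p.m1.c * p.m1.s σ) (hxH : x ∈ H) (hyH : y ∈ H) : x = y := by
  have key : p.m1.s σ ∈ H → p.m1.c * p.m1.s σ ∈ H → p.m1.c * p.m1.s σ = p.m1.s σ := fun h h' => by
    rw [o.c_notin ((Subgroup.mul_mem_cancel_right H h).1 h'), one_mul]
  rcases hx with rfl | rfl <;> rcases hy with rfl | rfl
  exacts [rfl, (key hxH hyH).symm, key hyH hxH, rfl]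

/-- The lift of `S₄` to `P ⊓ H`. -/
noncomputable def liftFun (o : OddSub p H) (σ : S4) : G :=
  haveI := Classical.dec (p.m1.s σ ∈ H)
  if p.m1.s σ ∈ H then p.m1.s σ else p.m1.c * p.m1.s σ

theorem liftFun_spec (o : OddSub p H) (σ : S4) :
    (o.liftFun σ = p.m1.s σ ∨ o.liftFun σ = p.m1.c * p.m1.s σ) ∧ o.liftFun σ ∈ H := by
  unfold liftFun
  by_cases h : p.m1.s σ ∈ H
  · rw [if_pos h]; exact ⟨Or.inl rfl, h⟩
  · rw [if_neg h]; exact ⟨Or.inr rfl, (o.lift σ).resolve_left h⟩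

theorem liftFun_mul (o : OddSub p H) (σ τ : S4) :
    o.liftFun (σ * τ) = o.liftFun σ * o.liftFun τ := by
  obtain ⟨h1, h1'⟩ := o.liftFun_spec σ
  obtain ⟨h2, h2'⟩ := o.liftFun_spec τ
  refine o.unique (o.liftFun_spec _).1 ?_ (o.liftFun_spec _).2 (mul_mem h1' h2')
  rcases h1 with h1 | h1 <;> rcases h2 with h2 | h2 <;> rw [h1, h2]
  · exact Or.inl (map_mul _ _ _).symm
  · exact Or.inr (by rw [← mul_assoc, p.m1.cs_comm, map_mul, mul_assoc])
  · exact Or.inr (by rw [map_mul, mul_assoc])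
  · refine Or.inl ?_
    rw [mul_assoc, ← mul_assoc (p.m1.s σ), p.m1.cs_comm, mul_assoc p.m1.c (p.m1.s σ), ← mul_assoc,
      p.m1.c_sq, one_mul, map_mul]

theorem liftFun_mem (o : OddSub p H) (σ : S4) : o.liftFun σ ∈ P₁ ⊓ H := by
  refine ⟨?_, (o.liftFun_spec σ).2⟩
  rcases (o.liftFun_spec σ).1 with h | h <;> rw [h]
  exacts [p.m1.s_mem σ, mul_mem p.m1.c_mem (p.m1.s_mem σ)]

theorem liftFun_surj (o : OddSub p H) {x : G} (hx : x ∈ P₁ ⊓ H) : ∃ σ, o.liftFun σ = x := by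
  obtain ⟨σ, hσ⟩ := p.m1.dec x hx.1
  exact ⟨σ, o.unique (o.liftFun_spec σ).1 hσ (o.liftFun_spec σ).2 hx.2⟩

/-- The lift as a homomorphism. -/
noncomputable def liftHom (o : OddSub p H) : S4 →* G :=
  MonoidHom.mk' o.liftFun o.liftFun_mul

theorem liftHom_inj (o : OddSub p H) : Function.Injective o.liftHom := by
  intro σ τ h
  have h' : o.liftFun σ = o.liftFun τ := h
  rcases (o.liftFun_spec σ).1 with e | e <;> rcases (o.liftFun_spec τ).1 with e' | e' <;>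
    rw [e, e'] at h'
  · exact p.m1.s_inj h'
  · exact (p.m1.uniq h'.symm).2.symm
  · exact (p.m1.uniq h').2
  · exact p.m1.s_inj (mul_left_cancel h')

theorem liftHom_range (o : OddSub p H) : o.liftHom.range = P₁ ⊓ H := by
  refine le_antisymm ?_ fun x hx => o.liftFun_surj hx
  rintro _ ⟨σ, rfl⟩
  exact o.liftFun_mem σ

theorem nonempty_equiv (o : OddSub p H) :
    Nonempty (↥(P₁.subgroupOf H) ≃* Equiv.Perm (Fin 4)) := by
  rw [← inf_subgroupOf_right]
  exact ⟨((subgroupOfEquivOfLe inf_le_right).trans (MulEquiv.subgroupCongr o.liftHom_range.symm)).trans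
    (MonoidHom.ofInjective o.liftHom_inj).symm⟩

theorem card_T_inf (o : OddSub p H) : Nat.card ↥(T ⊓ H) = 8 := by
  have e : p.m1.D.map o.liftHom = T ⊓ H := by
    refine le_antisymm ?_ fun x hx => ?_
    · rintro _ ⟨σ, hσ, rfl⟩
      refine ⟨?_, (o.liftFun_spec σ).2⟩
      show o.liftFun σ ∈ T
      rcases (o.liftFun_spec σ).1 with h | h <;> rw [h]
      exacts [p.m1.mem_D.1 hσ, mul_mem p.m1.c_T (p.m1.mem_D.1 hσ)]
    · obtain ⟨σ, hσ, h⟩ := p.m1.dec_T hx.1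
      exact ⟨σ, hσ, o.unique (o.liftFun_spec σ).1 h (o.liftFun_spec σ).2 hx.2⟩
  rw [← e, card_map_of_injective o.liftHom_inj]
  have h24 : Nat.card S4 = 24 := by
    rw [Nat.card_perm, Nat.card_eq_fintype_card, Fintype.card_fin]; decide
  have hdvd : Nat.card p.m1.D ∣ 24 := h24 ▸ card_subgroup_dvd_card _
  have hD : IsPGroup 2 ↥p.m1.D := fun x => ⟨2, Subtype.ext (p.m1.pow4 x.2)⟩
  obtain ⟨k, hk⟩ := IsPGroup.iff_card.1 hD
  have hV : ({σ : S4 | IsV σ}).ncard = 4 := by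
    rw [← Nat.card_coe_set_eq]
    exact (Nat.card_eq_fintype_card (α := {σ : S4 // IsV σ})).trans card_v
  have hlt : ({σ : S4 | IsV σ}).ncard < Nat.card p.m1.D := by
    rw [show Nat.card p.m1.D = (p.m1.D : Set S4).ncard from Nat.card_coe_set_eq _]
    refine Set.ncard_lt_ncard ⟨fun σ hσ => p.m1.v_D hσ, fun h => p.m1.q_sq (h p.m1.q_D).1⟩
      (Set.toFinite _)
  rw [hV, hk] at hlt
  rw [hk] at hdvd ⊢
  have h3 : k ≤ 3 := by
    by_contra h3
    have := (pow_dvd_pow 2 (by omega : 4 ≤ k)).trans hdvd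
    norm_num at this
  interval_cases k <;> simp_all

theorem normalizer_le (o : OddSub p H) {R : Subgroup G} (hR : IsPGroup 2 ↥R) (hRH : R ≤ H)
    (h1 : R ≠ ⊥) (hPR : P₁ ⊓ H ≤ normalizer (R : Set G)) : R = p.m1.W := by
  have hWM : p.m1.W ≤ P₁ ⊓ H := le_inf (p.m1.W_le_E.trans p.m1.E_le) o.W_le
  have hX : IsPGroup 2 ↥(R ⊔ p.m1.W) :=
    hR.to_sup_of_normal_left' (p.m1.isTwo_E.to_le p.m1.W_le_E) (hWM.trans hPR)
  have hPX : P₁ ⊓ H ≤ normalizer ((R ⊔ p.m1.W : Subgroup G) : Set G) :=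
    (le_inf hPR (inf_le_left.trans p.m1.W_normal)).trans (normalizer_inf_le_normalizer_sup _ _)
  have hRW : R ≤ p.m1.W := by
    by_contra hne
    obtain ⟨y, hy, hyW, hyN⟩ := exists_normalizes_not_mem (P := p.m1.W) hX le_sup_right
      fun e => hne (le_sup_left.trans e.ge)
    have hyM : y ∈ P₁ ⊓ H := ⟨p.m1.normalizer_W.le hyN, sup_le hRH o.W_le hy⟩
    obtain ⟨σ, hσ⟩ := o.liftFun_surj hyM
    set Y := (R ⊔ p.m1.W).comap o.liftHom with hY
    have h4 : ∀ τ ∈ Y, τ ^ 4 = 1 := by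
      intro τ hτ
      obtain ⟨k, hk⟩ := hX ⟨_, hτ⟩
      have h1 : τ ^ 2 ^ k = 1 := o.liftHom_inj (by
        rw [map_pow, map_one]; exact congrArg Subtype.val hk)
      have h2 : τ ^ 24 = 1 := by
        have := pow_card_eq_one' (x := τ)
        rwa [Nat.card_perm, Nat.card_eq_fintype_card, Fintype.card_fin] at this
      refine p8 τ (orderOf_dvd_iff_pow_eq_one.1 ?_)
      obtain ⟨j, hj, e⟩ := (Nat.dvd_prime_pow Nat.prime_two).1 (orderOf_dvd_of_pow_eq_one h1)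
      have h3 := orderOf_dvd_of_pow_eq_one h2
      rw [e] at h3 ⊢
      have : j ≤ 3 := by
        by_contra hj3
        have := (pow_dvd_pow 2 (by omega : 4 ≤ j)).trans h3
        norm_num at this
      exact pow_dvd_pow 2 this
    have hσY : σ ∈ Y := mem_comap.2 (show o.liftFun σ ∈ R ⊔ p.m1.W by rw [hσ]; exact hy)
    have hV : IsV σ := normal2 σ (h4 σ hσY) fun g => h4 _ (mul_mem hσY (mem_comap.2 (by
      rw [map_mul, map_mul, map_inv]
      exact conj_mem_normalizer (hPX (o.liftFun_mem g)) (mem_comap.1 hσY))))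
    refine hyW (hσ ▸ ?_)
    rw [o.unique (o.liftFun_spec σ).1 (Or.inl rfl) (o.liftFun_spec σ).2
      (o.W_le (p.m1.s_mem_W hV))]
    exact p.m1.s_mem_W hV
  refine le_antisymm hRW ?_
  obtain ⟨x, hx, hx1⟩ := (ne_bot_iff_exists_ne_one'.1 h1)
  obtain ⟨σ, hσ, rfl⟩ := hRW hx
  rintro _ ⟨τ, hτ, rfl⟩
  rcases eq_or_ne τ 1 with rfl | hτ1
  · rw [map_one]; exact one_mem _
  obtain ⟨g, hg⟩ := v_trans σ τ hσ (fun e => hx1 (by rw [e, map_one])) hτ hτ1
  obtain ⟨ρ, hρ⟩ : ∃ x ∈ P₁ ⊓ H, x * p.m1.s σ * x⁻¹ = p.m1.s τ := by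
    refine ⟨o.liftFun g, o.liftFun_mem g, ?_⟩
    rw [← hg]
    rcases (o.liftFun_spec g).1 with e | e <;> rw [e]
    · simp only [map_mul, map_inv]
    · rw [mul_inv_rev, p.m1.c_inv]
      calc p.m1.c * p.m1.s g * p.m1.s σ * ((p.m1.s g)⁻¹ * p.m1.c)
          = p.m1.c * (p.m1.s (g * σ * g⁻¹) * p.m1.c) := by simp only [map_mul, map_inv]; group
        _ = _ := by rw [p.m1.cs_comm, ← mul_assoc, p.m1.c_sq, one_mul]
  rw [← hρ.2]
  exact conj_mem_normalizer (hPR hρ.1) hx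
where
  ne_bot_iff_exists_ne_one' {R : Subgroup G} : R ≠ ⊥ ↔ ∃ x ∈ R, x ≠ (1 : G) := by
    rw [Ne, eq_bot_iff_forall]; push Not; rfl

theorem normalizer_subgroupOf_eq (R : Subgroup ↥H) :
    normalizer (R : Set ↥H) = (normalizer (R.map H.subtype : Set G)).subgroupOf H := by
  refine le_antisymm (fun x hx => ?_) fun x hx => ?_
  · exact mem_subgroupOf.2 (le_normalizer_map H.subtype ⟨x, hx, rfl⟩)
  · rw [mem_normalizer_iff]
    intro y
    have := mem_normalizer_iff.1 (mem_subgroupOf.1 hx) (y : G)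
    rw [show ((y : G) ∈ R.map H.subtype) = _ from rfl] at this
    constructor
    · intro hy
      obtain ⟨w, hw, e⟩ := this.1 ⟨y, hy, rfl⟩
      exact (Subtype.ext e : w = x * y * x⁻¹) ▸ hw
    · intro hy
      obtain ⟨w, hw, e⟩ := this.2 ⟨_, hy, rfl⟩
      exact (Subtype.ext e : w = y) ▸ hw

theorem isMaximalTwoLocal (o : OddSub p H) : IsMaximalTwoLocal (P₁.subgroupOf H) := by
  have hW : (p.m1.W.subgroupOf H).map H.subtype = p.m1.W := map_subgroupOf_eq_of_le o.W_le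
  refine ⟨⟨p.m1.W.subgroupOf H, ?_, ?_, ?_⟩, ?_⟩
  · exact ((p.m1.isTwo_E.to_le p.m1.W_le_E)).comap_of_injective H.subtype H.subtype_injective
  · intro h
    exact p.m1.W_ne_bot (by rw [← hW, h, Subgroup.map_bot])
  · rw [normalizer_subgroupOf_eq, hW, p.m1.normalizer_W]
  · rintro N ⟨R, hR, hR1, rfl⟩ hle
    have hPR : P₁ ⊓ H ≤ normalizer (R.map H.subtype : Set G) := fun x hx => by
      have := hle (x := ⟨x, hx.2⟩) hx.1
      rwa [normalizer_subgroupOf_eq] at this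
    have hne : R.map H.subtype ≠ ⊥ :=
      fun h => hR1 ((map_eq_bot_iff_of_injective _ H.subtype_injective).1 h)
    rw [normalizer_subgroupOf_eq, o.normalizer_le (hR.map _) (map_subtype_le R) hne hPR,
      p.m1.normalizer_W]

end OddSub

end Cfsg.Agent.JComp
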