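import Cfsg.Agent.Lib.JComp.OverExist
import Cfsg.Agent.Lib.Cores.Subnormal

/-!
The components in `jComponentsZero`: transport, `N(K) = N(W_K)`, and recognition from subnormality.
-/

set_option autoImplicit false
set_option linter.unusedSectionVars false
set_option linter.style.haveILetI false

namespace Cfsg.Agent.JComp

open Subgroup Cfsg Cfsg.Agent.CharP Cfsg.Agent.PLocal.ThompsonSubgroup
open scoped commutatorElement

variable {G : Type*} [Group G] [Finite G]

/-! ### Transport -/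

theorem comp_congr {T T' K : Subgroup G} (h : Jt T' = Jt T) (hK : IsJComponent T K) :
    IsJComponent T' K := by
  obtain ⟨h1, h2, h3, h4, h5⟩ := hK
  refine ⟨h1, ?_, h3, fun S hS hJ => ?_, h5⟩
  · show ⁅K, Jt T'⁆ = K
    rw [h]; exact h2
  · show Jt S = Jt T'
    rw [h]
    refine h4 S ?_ (h.ge.trans hJ)
    show IsSylowTwoIn S (K ⊔ Jt T)
    rw [← h]; exact hS

theorem comp_cjg {T K : Subgroup G} (hK : IsJComponent T K) (g : G) :
    IsJComponent (cjg g T) (cjg g K) := by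
  obtain ⟨h1, h2, h3, h4, h5, h6⟩ := hK
  refine ⟨?_, ?_, ?_, fun S hS hJ => ?_, ?_, ?_⟩
  · show oc (cjg g K) = cjg g K
    rw [← cjg_oc]; exact congrArg (cjg g) h1
  · show ⁅cjg g K, Jt (cjg g T)⁆ = cjg g K
    rw [J_cjg, cjg, cjg, ← map_commutator]; exact congrArg (cjg g) h2
  · show (Qk (cjg g K)).relIndex (cjg g K) = 3
    rw [Qk_cjg, cjg, cjg, relIndex_map_map_of_injective _ _ (MulAut.conj g).injective]
    exact h3
  · show Jt S = Jt (cjg g T)
    have hS' : IsSylowTwoIn S (cjg g K ⊔ Jt (cjg g T)) := hS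
    have hJ' : Jt (cjg g T) ≤ S := hJ
    rw [J_cjg] at hS' hJ'
    have e : cjg g⁻¹ (cjg g K ⊔ cjg g (Jt T)) = K ⊔ Jt T := by
      show ((cjg g K ⊔ cjg g (Jt T))).map _ = _
      rw [Subgroup.map_sup]
      exact congrArg₂ (· ⊔ ·) (cjg_inv_cjg g K) (cjg_inv_cjg g (Jt T))
    have hs := isSylowTwoIn_cjg hS' g⁻¹
    rw [e] at hs
    have hle := cjg_mono (g := g⁻¹) hJ'
    rw [cjg_inv_cjg] at hle
    have h : Jt (cjg g⁻¹ S) = Jt T := h4 _ hs hle
    have := congrArg (cjg g) h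
    rw [J_cjg, cjg_inv_cjg', ← J_cjg] at this
    exact this
  · show Nat.card (wOf (cjg g K)) = 4
    rw [wOf_cjg, card_cjg]; exact h5
  · intro w hw
    rw [wOf_cjg] at hw
    obtain ⟨v, hv, rfl⟩ := hw
    rw [← map_mul, h6 v hv, map_one]

theorem jZero_congr {T T' K : Subgroup G} (h : Jt T' = Jt T) (hK : K ∈ jComponentsZero T) :
    K ∈ jComponentsZero T' :=
  ⟨comp_congr h hK.1, fun S hJ hS => (hK.2 S (h.ge.trans hJ) hS).trans h.symm⟩

/-! ### Two-locals -/

/-- A two-local subgroup with Sylow subgroup `T` and `J(T) ⋠ O₂` is an overgroup of `T`. -/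
theorem ZN.mem_jOvergroups (z : ZN G) {T L : Subgroup G} (hL : IsTwoLocal L)
    (hS : IsSylowTwoIn T L) (hJ : ¬ Jt T ≤ Qk L) : L ∈ jOvergroups T := by
  refine ⟨hS, hJ, ?_⟩
  obtain ⟨R, hR, hR1, rfl⟩ := hL
  have h := (charP_iff 2 (normalizer (R : Set G))).1 (z.char2.2 R hR hR1)
  have hRQ : R ≤ pCoreOf 2 (normalizer (R : Set G)) := le_pCoreOf le_normalizer le_rfl hR
  exact fun x hx => h ⟨centralizer_le_normalizer _ (centralizer_le hRQ hx), hx⟩

/-- A 2-group normalised by an element fixing no involution of a four-group acts trivially on it. -/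
theorem two_group_trivial {W P : Subgroup G} (hcard : Nat.card W = 4) (hexp : ∀ w ∈ W, w * w = 1)
    (hP : IsPGroup 2 ↥P) (hPW : P ≤ normalizer (W : Set G)) {y : G}
    (hyW : y ∈ normalizer (W : Set G)) (hyP : y ∈ normalizer (P : Set G))
    (hfix : ∀ w ∈ W, y * w = w * y → w = 1) : P ≤ centralizer (W : Set G) := by
  have hW : IsPGroup 2 ↥W :=
    IsElementaryAbelian.isPGroup (isElementaryAbelian_two_of hexp)
  obtain ⟨z, hz, hzo, hzc⟩ := exists_order_prime_central (p := 2)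
    (IsPGroup.to_sup_of_normal_right' hP hW hPW) le_sup_right (sup_le hPW le_normalizer)
    (fun h => by rw [h, card_bot] at hcard; omega)
  have hz1 : z ≠ 1 := by rintro rfl; rw [orderOf_one] at hzo; omega
  have hne : z ≠ y * z * y⁻¹ := fun h =>
    hz1 (hfix z hz (mul_inv_eq_iff_eq_mul.1 h.symm))
  intro p hp w hw
  refine (four_commutes hcard hexp hz (conj_mem_normalizer hyW hz) hz1
    (fun h => hz1 (conj_eq_one_iff.1 h)) hne (hzc p (mem_sup_left hp)) ?_ w hw).symm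
  have hp' : y⁻¹ * p * y ∈ P := by simpa using conj_mem_normalizer (inv_mem hyP) hp
  calc p * (y * z * y⁻¹) = y * ((y⁻¹ * p * y) * z) * y⁻¹ := by group
    _ = y * (z * (y⁻¹ * p * y)) * y⁻¹ := by rw [hzc _ (mem_sup_left hp')]
    _ = y * z * y⁻¹ * p := by group

theorem wOf_two (T K : Subgroup G) (hK : IsJComponent T K) :
    IsPGroup 2 ↥(wOf K) ∧ wOf K ≠ ⊥ :=
  ⟨IsElementaryAbelian.isPGroup (isElementaryAbelian_two_of (comp_wexp hK)),
    fun h => by have := comp_wcard hK; rw [h, card_bot] at this; omega⟩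

theorem jZero_local (z : ZN G) {T K : Subgroup G} (hT : IsPGroup 2 ↥T)
    (hK : K ∈ jComponentsZero T) :
    ∃ T', IsSylowTwoIn T' (normalizer (wOf K : Set G)) ∧ IsPGroup 2 ↥T' ∧ Jt T' = Jt T ∧
      normalizer (wOf K : Set G) ∈ jOvergroups T' := by
  obtain ⟨hW, hW1⟩ := wOf_two T K hK.1
  have hJN : Jt T ≤ normalizer (wOf K : Set G) :=
    (comp_J_le_normalizer hK.1).trans (normalizer_le_normalizer_wOf K)
  obtain ⟨T', hT', hle⟩ := exists_sylowTwo_ge (isPGroup_J hT) hJN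
  have hJ : Jt T' = Jt T := hK.2 T' hle hT'
  refine ⟨T', hT', hT'.2.1, hJ, z.mem_jOvergroups ⟨_, hW, hW1, rfl⟩ hT' fun hJQ => ?_⟩
  rw [hJ] at hJQ
  obtain ⟨A, hA, a, ha, haC⟩ := comp_exists_moving hK.1
  obtain ⟨x, hx, hxo⟩ := comp_exists_three hK.1
  have hxN := normalizer_le_normalizer_wOf K (le_normalizer hx)
  refine haC (two_group_trivial (comp_wcard hK.1) (comp_wexp hK.1) (isPGroup_pCoreOf 2 _)
    (pCoreOf_le 2 _) hxN (le_normalizer_pCoreOf 2 _ hxN)
    (fun w hw h => comp_fixed_W hK.1 hx hxo hw h) (hJQ (hA.le_J ha)))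

theorem jZero_normalizer (z : ZN G) {T K : Subgroup G} (hT : IsPGroup 2 ↥T) (hT1 : T ≠ ⊥)
    (hK : K ∈ jComponentsZero T) :
    normalizer (K : Set G) = normalizer (wOf K : Set G) := by
  refine le_antisymm (normalizer_le_normalizer_wOf K) fun g hg => ?_
  obtain ⟨T', hS, hT', hJ, hL⟩ := jZero_local z hT hK
  have hT'1 : T' ≠ ⊥ := fun h => J_ne_bot hT hT1 (by
    rw [← hJ]; exact le_bot_iff.1 ((J_le T').trans h.le))
  obtain ⟨V, X, Ws, E, o⟩ := exists_ovg z hT' hT'1 hL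
  exact o.stab_normalizes z hT' hT'1 (comp_congr hJ hK.1)
    (le_normalizer.trans (normalizer_le_normalizer_wOf K)) hg hg

theorem jZero_conj (z : ZN G) {T K : Subgroup G} (hT : IsPGroup 2 ↥T) (hT1 : T ≠ ⊥)
    (hK : K ∈ jComponentsZero T) (g : G)
    (hg : Jt (cjg g T) ≤ normalizer (wOf K : Set G)) :
    IsJComponent (cjg g T) K := by
  obtain ⟨T', hS, hT', hJ, -⟩ := jZero_local z hT hK
  obtain ⟨T'', hS'', hle⟩ := exists_sylowTwo_ge
    (isPGroup_J (hT.map (MulAut.conj g).toMonoidHom)) hg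
  obtain ⟨l, hl, rfl⟩ := sylowTwo_conj hS hS''
  have ha : aOrd (cjg l T') ≤ aOrd (cjg g T) := by
    rw [aOrd_cjg, aOrd_cjg, aOrd_congr hJ]
  have h1 := J_le_J hle ha
  have hJl : Jt (cjg g T) = Jt (cjg l T) := by
    refine (eq_of_le_of_card_ge h1 ?_).trans ?_
    · rw [J_cjg, J_cjg, card_cjg, card_cjg, hJ]
    · rw [J_cjg, J_cjg, hJ]
  have h2 := comp_cjg hK.1 l
  rw [cjg_eq_self.2 ((jZero_normalizer z hT hT1 hK).ge hl)] at h2
  exact comp_congr hJl h2

/-! ### Subnormality -/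

/-- Odd order elements of `Q K`, for a 2-group `Q`, lie in the subnormal subgroup `K`. -/
theorem odd_mem_of_subnormal {Y : Subgroup G} {H : Subgroup ↥Y} (hH : H.IsSubnormal) :
    ∀ {K Q : Subgroup G}, K ≤ Y → Q ≤ Y → IsPGroup 2 ↥Q → K ≤ normalizer (Q : Set G) →
      K.subgroupOf Y ≤ H → ∀ y : Y, (y : G) ∈ Q ⊔ K → Odd (orderOf y) → y ∈ H := by
  induction hH with
  | top => exact fun _ _ _ _ _ y _ _ => mem_top y
  | step H N hle _ hN ih =>
    intro K Q hKY hQY hQ hKQ hKH y hy ho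
    haveI := hN
    have hyN : y ∈ N := ih hKY hQY hQ hKQ (hKH.trans hle) y hy ho
    obtain ⟨q, hq, k, hk, he⟩ := exists_mul_of_le_normalizer hKQ hy
    have hkH : (⟨k, hKY hk⟩ : Y) ∈ H := hKH (mem_subgroupOf.2 hk)
    have hqN : (⟨q, hQY hq⟩ : Y) ∈ N := by
      have : (⟨q, hQY hq⟩ : Y) = y * (⟨k, hKY hk⟩ : Y)⁻¹ := Subtype.ext (by simp [he])
      rw [this]
      exact mul_mem hyN (inv_mem (hle hkH))
    have hkey : ((⟨y, hyN⟩ : N) : N ⧸ H.subgroupOf N) = ((⟨_, hqN⟩ : N) : N ⧸ H.subgroupOf N) := by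
      rw [show (⟨y, hyN⟩ : N) = ⟨_, hqN⟩ * ⟨_, hle hkH⟩ from
        Subtype.ext (Subtype.ext (by simpa using he)), QuotientGroup.mk_mul,
        (QuotientGroup.eq_one_iff (⟨_, hle hkH⟩ : N)).2 (mem_subgroupOf.2 hkH), mul_one]
    obtain ⟨n, hn⟩ := hQ ⟨q, hq⟩
    have hn' : (⟨y, hyN⟩ : N) ^ 2 ^ n ∈ H.subgroupOf N := by
      rw [← QuotientGroup.eq_one_iff, QuotientGroup.mk_pow, hkey, ← QuotientGroup.mk_pow,
        show ((⟨_, hqN⟩ : N) ^ 2 ^ n : N) = 1 from
          Subtype.ext (Subtype.ext (by simpa using congrArg Subtype.val hn)), QuotientGroup.mk_one]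
    obtain ⟨m, hm⟩ := exists_pow_eq_self_of_coprime (x := y) (n := 2 ^ n)
      (Nat.Coprime.pow_left n (Nat.coprime_two_left.2 ho))
    rw [← hm]
    exact pow_mem (mem_subgroupOf.1 hn') m

/-- The commutators of an element of order three of a subnormal subgroup with an elementary
abelian 2-group it normalises lie in the subnormal subgroup. -/
theorem phi_mem_of_subnormal {Y : Subgroup G} {H : Subgroup ↥Y} (hH : H.IsSubnormal) :
    ∀ {M : Subgroup G} {x : Y}, IsElementaryAbelian 2 M → M ≤ Y → x ∈ H →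
      (x : G) * x * x = 1 → (x : G) ∈ normalizer (M : Set G) →
      ∀ m : Y, (m : G) ∈ M → x * m * x⁻¹ * m ∈ H := by
  induction hH with
  | top => exact fun _ _ _ _ _ m _ => mem_top _
  | step H N hle _ hN ih =>
    intro M x hMe hMY hxH hx3 hxM m hm
    haveI := hN
    have hφ : ∀ v : Y, (v : G) ∈ M → ((x * v * x⁻¹ * v : Y) : G) ∈ M := fun v hv =>
      mul_mem (conj_mem_normalizer hxM hv) hv
    -- `φ⁴ = φ`
    set φ : Y → Y := fun v => x * v * x⁻¹ * v with hφdef
    have hxx : ∀ v : G, v ∈ M → ((x : G) * x) * v * ((x : G) * x)⁻¹ ∈ M := fun v hv =>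
      conj_mem_normalizer (mul_mem hxM hxM) hv
    have hsq : ∀ v : Y, (v : G) ∈ M → ((φ (φ v) : Y) : G) = (x : G) * x * v * ((x : G) * x)⁻¹ * v := by
      intro v hv
      show (x : G) * ((x : G) * v * (x : G)⁻¹ * v) * (x : G)⁻¹ * ((x : G) * v * (x : G)⁻¹ * v) = _
      have hxv := conj_mem_normalizer hxM hv
      calc (x : G) * ((x : G) * v * (x : G)⁻¹ * v) * (x : G)⁻¹ * ((x : G) * v * (x : G)⁻¹ * v)
          = (x : G) * x * v * ((x : G) * x)⁻¹ *
              ((x : G) * v * (x : G)⁻¹ * ((x : G) * v * (x : G)⁻¹)) * v := by group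
        _ = _ := by rw [isElementaryAbelian_two_sq hMe hxv, mul_one]
    have h4 : φ (φ (φ (φ m))) = φ m := by
      apply Subtype.ext
      have hφφ : ((φ (φ m) : Y) : G) ∈ M := hφ _ (hφ _ hm)
      rw [hsq _ hφφ, hsq _ hm]
      show _ = (x : G) * m * (x : G)⁻¹ * m
      have e4 : ((x : G) * x) * ((x : G) * x) = x := by
        rw [show ((x : G) * x) * ((x : G) * x) = ((x : G) * x * x) * x by group, hx3, one_mul]
      calc (x : G) * x * ((x : G) * x * m * ((x : G) * x)⁻¹ * m) * ((x : G) * x)⁻¹ *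
            ((x : G) * x * m * ((x : G) * x)⁻¹ * m)
          = ((x : G) * x * ((x : G) * x)) * m * ((x : G) * x * ((x : G) * x))⁻¹ *
              ((x : G) * x * m * ((x : G) * x)⁻¹ * ((x : G) * x * m * ((x : G) * x)⁻¹)) * m := by
            group
        _ = _ := by rw [isElementaryAbelian_two_sq hMe (hxx _ hm), mul_one, e4]
    have hN' : φ (φ (φ m)) ∈ N :=
      ih hMe hMY (hle hxH) hx3 hxM _ (hφ _ (hφ _ hm))
    have hu : ((φ (φ (φ m)) : Y) : G) ∈ M := hφ _ (hφ _ (hφ _ hm))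
    show φ m ∈ H
    rw [← h4]
    show x * φ (φ (φ m)) * x⁻¹ * φ (φ (φ m)) ∈ H
    set u := φ (φ (φ m))
    have hui : u⁻¹ = u := Subtype.ext (inv_eq_of_mul_eq_one_right (isElementaryAbelian_two_sq hMe hu))
    have hc : u * x⁻¹ * u⁻¹ ∈ H :=
      mem_subgroupOf.1 (hN.conj_mem ⟨x⁻¹, hle (inv_mem hxH)⟩
        (mem_subgroupOf.2 (inv_mem hxH)) ⟨u, hN'⟩)
    have := mul_mem hxH hc
    rw [show x * (u * x⁻¹ * u⁻¹) = x * u * x⁻¹ * u⁻¹ by group, hui] at this
    exact this

/-- A commutator with an involution falls into `O₂` when its square is centralised modulo `O₂`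
and it lies in a subnormal subgroup of exponent three modulo `O₂`. -/
theorem commutator_mem_core {Y : Type*} [Group Y] [Finite Y] {K : Subgroup Y} (hK : K.IsSubnormal)
    (h3 : ∀ k ∈ K, k ^ 3 ∈ pCore 2 Y) {k a : Y} (hk : k ∈ K) (ha : a * a = 1)
    (hc : ⁅⁅k, a⁆ * ⁅k, a⁆, a⁆ ∈ pCore 2 Y) : ⁅k, a⁆ ∈ pCore 2 Y := by
  haveI : Fact (Nat.Prime 3) := ⟨Nat.prime_three⟩
  haveI : (pCore 2 Y).Normal := Cores.pCore_normal 2
  haveI : (pCore 3 (Y ⧸ pCore 2 Y)).Normal := Cores.pCore_normal 3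
  set π := QuotientGroup.mk' (pCore 2 Y)
  have hKb : IsPGroup 3 ↥(K.map π) := by
    rintro ⟨_, k', hk', rfl⟩
    refine ⟨1, Subtype.ext ?_⟩
    show (π k') ^ 3 ^ 1 = 1
    rw [pow_one, ← map_pow]
    exact (QuotientGroup.eq_one_iff (k' ^ 3)).2 (h3 k' hk')
  have hle := Cores.le_pCore_of_isSubnormal hK.quotient hKb
  have hkb : π k ∈ pCore 3 (Y ⧸ pCore 2 Y) := hle ⟨k, hk, rfl⟩
  set u := ⁅k, a⁆ with hu
  have hub : π u ∈ pCore 3 (Y ⧸ pCore 2 Y) := by
    rw [hu, map_commutatorElement, commutatorElement_def,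
      show π k * π a * (π k)⁻¹ * (π a)⁻¹ = π k * (π a * (π k)⁻¹ * (π a)⁻¹) by group]
    exact mul_mem hkb (Subgroup.Normal.conj_mem inferInstance _ (inv_mem hkb) _)
  have hai : a⁻¹ = a := inv_eq_of_mul_eq_one_right ha
  have hinv : a * u * a⁻¹ = u⁻¹ := by
    rw [hu, commutatorElement_def]
    simp only [mul_inv_rev, inv_inv, mul_assoc, hai]
    rw [ha, mul_one]
  have h4 : u ^ 4 ∈ pCore 2 Y := by
    have e : ⁅u * u, a⁆ = u ^ 4 := by
      rw [commutatorElement_def]
      calc u * u * a * (u * u)⁻¹ * a⁻¹ = u * u * ((a * u * a⁻¹) * (a * u * a⁻¹))⁻¹ := by group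
        _ = u ^ 4 := by rw [hinv]; group
    rwa [← e]
  obtain ⟨n, hn⟩ := IsPGroup.iff_card.1 (Cores.pCore_isPGroup (G := Y ⧸ pCore 2 Y) 3)
  have hd : orderOf (π u) ∣ 3 ^ n := hn ▸ Subgroup.orderOf_dvd_natCard _ hub
  have hd4 : orderOf (π u) ∣ 4 := orderOf_dvd_of_pow_eq_one (by
    rw [← map_pow]; exact (QuotientGroup.eq_one_iff (u ^ 4)).2 h4)
  have h1 : orderOf (π u) = 1 := Nat.eq_one_of_dvd_coprimes
    (Nat.Coprime.pow_left n (by norm_num : Nat.Coprime 3 4)) hd hd4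
  exact (QuotientGroup.eq_one_iff u).1 (orderOf_eq_one_iff.1 h1)

/-- Under the hypotheses of recognition, `J(T)` normalises `W_K`. -/
theorem J_le_normalizer_wOf (z : ZN G) {T₁ T L K : Subgroup G} (hT : IsPGroup 2 ↥T) (hT1 : T ≠ ⊥)
    (hL : L ∈ jOvergroups T) (hK : IsJComponent T₁ K) (hKL : K ≤ L)
    (hsn : (K.subgroupOf (K ⊔ Jt T)).IsSubnormal) :
    Jt T ≤ normalizer (wOf K : Set G) := by
  obtain ⟨V, X, Ws, E, o⟩ := exists_ovg z hT hT1 hL
  set Y := K ⊔ Jt T with hY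
  have hKY : K ≤ Y := le_sup_left
  have hYL : Y ≤ L := sup_le hKL o.J_le_L
  have hWJ : ∀ W ∈ Jset T X Ws E, W ≤ Jt T := fun W hW => by
    obtain ⟨K0, hK0, -, hW0⟩ := o.exists_comp hT hW
    exact hW0 ▸ comp_W_le_J hT hK0
  set O := Qk Y with hO
  have hOY : O ≤ Y := pCoreOf_le 2 Y
  have hOn : Y ≤ normalizer (O : Set G) := le_normalizer_pCoreOf 2 Y
  have hmemO : ∀ (g : Y), g ∈ pCore 2 ↥Y → (g : G) ∈ O := fun g hg => ⟨g, hg, rfl⟩
  have hmemO' : ∀ {g : G} (hg : g ∈ Y), g ∈ O → (⟨g, hg⟩ : Y) ∈ pCore 2 ↥Y := by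
    rintro g hg ⟨g', hg', e⟩
    rwa [show (⟨g, hg⟩ : Y) = g' from Subtype.ext e.symm]
  have hQY : ∀ q ∈ Qk L, q ∈ Y → q ∈ O := by
    intro q hq hqY
    exact le_pCoreOf inf_le_right ((le_inf (hYL.trans (le_normalizer_pCoreOf 2 L)) le_normalizer).trans
      (normalizer_inf_le_normalizer_inf _ _))
      ((isPGroup_pCoreOf 2 L).to_le inf_le_left) ⟨hq, hqY⟩
  have hQkY : Qk K ≤ Y := (pCoreOf_le 2 K).trans hKY
  have hQO : Qk K ≤ O := by
    have hsub : ((Qk K).subgroupOf Y).IsSubnormal :=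
      IsSubnormal.step _ _ (comap_mono (pCoreOf_le 2 K)) hsn
        (subgroupOf_normal_of_le (pCoreOf_le 2 K) hKY (le_normalizer_pCoreOf 2 K))
    have h := Cores.le_pCore_of_isSubnormal hsub ((isPGroup_pCoreOf 2 K).comap_subtype)
    exact fun q hq => hmemO ⟨q, hQkY hq⟩ (h (mem_subgroupOf.2 hq))
  have h3 : ∀ k ∈ K.subgroupOf Y, k ^ 3 ∈ pCore 2 ↥Y := fun k hk =>
    hmemO' (k ^ 3).2 (hQO (comp_pow3 hK (mem_subgroupOf.1 hk)))
  by_cases hA : ∃ y ∈ K, orderOf y = 3 ∧ ∃ W ∈ Jset T X Ws E, ∃ a ∈ Jt T, a * a = 1 ∧ a ∈ E W ∧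
      a ∉ X ∧ y ∈ normalizer (W : Set G) ∧ ⁅y, a⁆ ∉ X
  · -- `W_K` is a block
    obtain ⟨y, hy, hyo, W, hW, a, haJ, ha2, haE, haX, hyW, hd⟩ := hA
    have hWs := hW.1
    have hc4 := o.blocks.card_W W hWs
    have hexp := o.wexp hWs
    have hy3 : y * y * y = 1 := by
      have := pow_orderOf_eq_one y
      rwa [hyo, pow_succ, pow_two] at this
    set d := ⁅y, a⁆ with hddef
    have hdE : d ∈ E W := by
      have hyE : y ∈ normalizer (E W : Set G) := by
        rw [← cjg_eq_self, (o.blocks.conj W hWs y (hKL hy)).2, cjg_eq_self.2 hyW]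
      rw [hddef, commutatorElement_def]
      exact mul_mem (conj_mem_normalizer hyE haE) (inv_mem haE)
    have hdY : d ∈ Y := by
      rw [hddef, commutatorElement_def]
      exact mul_mem (mul_mem (mul_mem (hKY hy) (mem_sup_right haJ)) (inv_mem (hKY hy)))
        (inv_mem (mem_sup_right haJ))
    have hyfix : ∀ w ∈ W, y * w = w * y → w = 1 := by
      intro w hw hyw
      by_contra hw1
      have hyC : y ∈ centralizer (W : Set G) :=
        four_three hc4 hexp hyW (hy3 ▸ one_mem _) hw hw1 hyw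
      refine hd (o.blocks.faithful W hWs ⟨hdE, fun v hv => ?_⟩)
      have hav : a⁻¹ * v * a ∈ W := by
        simpa using conj_mem_normalizer (inv_mem (o.blocks.norm W hWs haE)) hv
      have e1 := hyC _ hav
      have e2 := (inv_mem hyC : y⁻¹ ∈ centralizer (W : Set G)) v hv
      calc v * d = (v * y) * a * y⁻¹ * a⁻¹ := by rw [hddef, commutatorElement_def]; group
        _ = y * a * ((a⁻¹ * v * a) * y⁻¹) * a⁻¹ := by rw [hyC v hv]; group
        _ = y * a * (y⁻¹ * (a⁻¹ * v * a)) * a⁻¹ := by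
          rw [(inv_mem hyC : y⁻¹ ∈ centralizer (W : Set G)) _ hav]
        _ = d * v := by rw [hddef, commutatorElement_def]; group
    have hdD : d ∈ Dm X E W := by
      have ha' : y * a * y⁻¹ ∈ E W := by
        have := mul_mem hdE haE
        rwa [hddef, commutatorElement_def, inv_mul_cancel_right] at this
      have hXy : ∀ g, y * g * y⁻¹ ∈ X ↔ g ∈ X := fun g =>
        ((mem_normalizer_iff.1 (o.X_norm (hKL hy))) g).symm
      rw [hddef, commutatorElement_def]
      refine o.Dm_mul_mem hWs ha' (inv_mem haE) (o.not_mem_Dm hWs (fun h => haX ((hXy a).1 h)) ?_)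
        fun h => o.not_mem_Dm hWs haX (ha2 ▸ one_mem _) (inv_mem_iff.1 h)
      rw [show y * a * y⁻¹ * (y * a * y⁻¹) = y * (a * a) * y⁻¹ by group, ha2]
      simp
    -- `O₂(Y)` fixes `W`
    have hOW : O ≤ normalizer (W : Set G) := by
      intro q hq
      rw [← cjg_eq_self]
      by_contra hne
      have hqL := hYL (hOY hq)
      obtain ⟨hW', hE'⟩ := o.blocks.conj W hWs q hqL
      obtain ⟨-, hC, hcom⟩ := o.blocks.sep _ hW' W hWs hne
      have hd' : q * d * q⁻¹ ∈ E (cjg q W) := hE' ▸ conj_mem_cjg hdE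
      set e := q * d * q⁻¹ * d⁻¹ with he
      have heO : e ∈ O := by
        rw [he, show q * d * q⁻¹ * d⁻¹ = q * (d * q⁻¹ * d⁻¹) by group]
        exact mul_mem hq (conj_mem_normalizer (hOn hdY) (inv_mem hq))
      have hd3 := ((o.mem_Dm hWs).1 hdD).2
      have he3 : e ^ 3 ∈ X := by
        haveI : (X.subgroupOf L).Normal := normal_subgroupOf_of_le_normalizer o.X_norm
        set π := QuotientGroup.mk' (X.subgroupOf L)
        have hdL : d ∈ L := hYL hdY
        set b : L := ⟨d, hdL⟩ with hb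
        set b' : L := ⟨q * d * q⁻¹, mul_mem (mul_mem hqL hdL) (inv_mem hqL)⟩ with hb'
        have hc : Commute (π b') (π b) := by
          refine commutatorElement_eq_one_iff_mul_comm.1 ?_
          rw [← map_commutatorElement]
          exact (QuotientGroup.eq_one_iff _).2
            (mem_subgroupOf.2 (hcom (commutator_mem_commutator hd' hdE)))
        have hb3 : π b ^ 3 = 1 := by
          rw [← map_pow]
          refine (QuotientGroup.eq_one_iff _).2 (mem_subgroupOf.2 ?_)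
          rw [SubmonoidClass.coe_pow, pow_succ, pow_two]; exact hd3
        have hb'3 : π b' ^ 3 = 1 := by
          rw [← map_pow]
          refine (QuotientGroup.eq_one_iff _).2 (mem_subgroupOf.2 ?_)
          rw [SubmonoidClass.coe_pow]
          show (q * d * q⁻¹) ^ 3 ∈ X
          rw [conj_pow, pow_succ, pow_two]
          exact conj_mem_normalizer (o.X_norm hqL) hd3
        have : π ((b' * b⁻¹) ^ 3) = 1 := by
          rw [map_pow, map_mul, map_inv, (hc.inv_right).mul_pow, inv_pow, hb3, hb'3]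
          simp
        exact mem_subgroupOf.1 ((QuotientGroup.eq_one_iff _).1 this)
      have heX : e ∈ X := by
        obtain ⟨k, hk⟩ := (isPGroup_pCoreOf 2 Y) ⟨e, heO⟩
        obtain ⟨m, hm⟩ := exists_pow_eq_self_of_coprime (x := e) (n := 3)
          (Nat.Coprime.coprime_dvd_right (orderOf_dvd_of_pow_eq_one (congrArg Subtype.val hk))
            (Nat.Coprime.pow_right k (by norm_num)))
        rw [← hm]; exact pow_mem he3 m
      have hd'W : q * d * q⁻¹ ∈ E W := by
        have := mul_mem (o.blocks.X_le W hWs heX) hdE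
        rwa [he, inv_mul_cancel_right] at this
      have hX' : q * d * q⁻¹ ∈ X := o.blocks.faithful _ hW' ⟨hd', hC hd'W⟩
      exact hd ((mem_normalizer_iff.1 (o.X_norm hqL) d).2 hX')
    have hyQ : y ∈ normalizer (Qk K : Set G) := le_normalizer_pCoreOf 2 K hy
    have hQC : Qk K ≤ centralizer (W : Set G) := two_group_trivial hc4 hexp
      (isPGroup_pCoreOf 2 K) (hQO.trans hOW) hyW hyQ hyfix
    have hWV := o.blocks.le_V W hWs
    have hWe : IsElementaryAbelian 2 W := isElementaryAbelian_two_of hexp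
    have hWY : W ≤ Y := (hWJ W hW).trans le_sup_right
    have hphi : ∀ w ∈ W, y * w * y⁻¹ * w ∈ K := fun w hw =>
      mem_subgroupOf.1 (phi_mem_of_subnormal hsn (x := ⟨y, hKY hy⟩) hWe hWY
        (mem_subgroupOf.2 hy) hy3 hyW ⟨w, hWY hw⟩ hw)
    obtain ⟨v, hv, hv1, -⟩ := four_exists_other hc4 (1 : G)
    set h := y * v * y⁻¹ * v with hh
    have hhW : h ∈ W := mul_mem (conj_mem_normalizer hyW hv) hv
    have hnfix : ∀ w ∈ W, w ≠ 1 → y * w * y⁻¹ ≠ w := fun w hw hw1 e =>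
      hw1 (hyfix w hw (mul_inv_eq_iff_eq_mul.1 e))
    have hh1 : h ≠ 1 := fun e => hnfix v hv hv1 (by
      rw [eq_inv_of_mul_eq_one_left e]
      exact inv_eq_of_mul_eq_one_right (hexp v hv))
    have hWK : W ⊓ K = W := four_eq_of_invariant hc4 hexp inf_le_left ⟨hhW, hphi v hv⟩ hh1
      ⟨conj_mem_normalizer hyW hhW, conj_mem_normalizer (le_normalizer hy) (hphi v hv)⟩
      (hnfix h hhW hh1)
    have hWQ : W ≤ Qk K :=
      comp_two_le hK (IsElementaryAbelian.isPGroup hWe) (inf_eq_left.1 hWK)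
    have hWU : W ≤ omegaCenterOf (Qk K) := fun w hw =>
      mem_omegaCenterOf.2 ⟨hWQ hw, fun q hq => (hQC hq w hw).symm, hexp w hw⟩
    have hhw : h ∈ wOf K := by
      have hvi : v⁻¹ = v := inv_eq_of_mul_eq_one_right (hexp v hv)
      have e : h = ⁅v, y⁆ := by
        rw [hh, commutatorElement_def, hvi,
          four_comm hexp (conj_mem_normalizer hyW hv) hv]
        group
      rw [e, wOf]
      exact commutator_mem_commutator (hWU hv) hy
    have hWw : W ⊓ wOf K = W := four_eq_of_invariant hc4 hexp inf_le_left ⟨hhW, hhw⟩ hh1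
      ⟨conj_mem_normalizer hyW hhW,
        conj_mem_normalizer (normalizer_le_normalizer_wOf K (le_normalizer hy)) hhw⟩
      (hnfix h hhW hh1)
    rw [← eq_of_le_of_card_ge (inf_eq_left.1 hWw) (by rw [comp_wcard hK, hc4])]
    exact o.J_le_Pl.trans (o.Pl_fix hWs)
  · -- `J` normalises `K`
    push Not at hA
    refine le_trans ?_ (normalizer_le_normalizer_wOf K)
    have hkey : ∀ y ∈ K, orderOf y = 3 → ∀ j ∈ Jt T, ⁅y, j⁆ ∈ O := by
      intro y hy hyo
      have hyY := hKY hy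
      let Hy : Subgroup G :=
        { carrier := {g | g ∈ Y ∧ ⁅y, g⁆ ∈ O}
          one_mem' := ⟨one_mem _, by simp⟩
          mul_mem' := fun {g h} hg hh => ⟨mul_mem hg.1 hh.1, by
            rw [show ⁅y, g * h⁆ = ⁅y, g⁆ * (g * ⁅y, h⁆ * g⁻¹) by
              simp only [commutatorElement_def]; group]
            exact mul_mem hg.2 (conj_mem_normalizer (hOn hg.1) hh.2)⟩
          inv_mem' := fun {g} hg => ⟨inv_mem hg.1, by
            rw [show ⁅y, g⁻¹⁆ = g⁻¹ * ⁅y, g⁆⁻¹ * g⁻¹⁻¹ by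
              simp only [commutatorElement_def]; group]
            exact conj_mem_normalizer (hOn (inv_mem hg.1)) (inv_mem hg.2)⟩ }
      have hJH : Jt T ≤ Hy := by
        refine o.J_le_of_witness (fun ξ hξ => ⟨mem_sup_right hξ.2, ?_⟩)
          fun W hW a haJ ha2 haE haX => ⟨mem_sup_right haJ, ?_⟩
        · have hξQ : ξ ∈ Qk L := o.two (X ⊓ Jt T) ((isPGroup_J hT).to_le inf_le_right)
            inf_le_left hξ
          have hξO : ξ ∈ O := hQY ξ hξQ (mem_sup_right hξ.2)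
          rw [commutatorElement_def]
          exact mul_mem (conj_mem_normalizer (hOn hyY) hξO) (inv_mem hξO)
        · have hu2 : ⁅y, a⁆ * ⁅y, a⁆ ∈ X := by
            by_cases hyW : y ∈ normalizer (W : Set G)
            · have := hA y hy hyo W hW a haJ ha2 haE haX hyW
              exact mul_mem this this
            · have hai : a⁻¹ = a := inv_eq_of_mul_eq_one_right ha2
              obtain ⟨hW', hE'⟩ := o.blocks.conj W hW.1 y (hKL hy)
              have hcom := (o.blocks.sep _ hW' W hW.1 (fun e => hyW (cjg_eq_self.1 e))).2.2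
              have e : ⁅y, a⁆ * ⁅y, a⁆ = ⁅y * a * y⁻¹, a⁆ := by
                simp only [commutatorElement_def, mul_inv_rev, inv_inv, hai, mul_assoc]
              rw [e]
              exact hcom (commutator_mem_commutator (hE' ▸ conj_mem_cjg haE) haE)
          have hc : ⁅⁅y, a⁆ * ⁅y, a⁆, a⁆ ∈ O := by
            refine hQY _ (o.comm _ hu2 a (J_le T haJ)) ?_
            have hyaY : ⁅y, a⁆ ∈ Y := by
              rw [commutatorElement_def]
              exact mul_mem (mul_mem (mul_mem hyY (mem_sup_right haJ)) (inv_mem hyY))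
                (inv_mem (mem_sup_right haJ))
            rw [commutatorElement_def]
            exact mul_mem (mul_mem (mul_mem (mul_mem hyaY hyaY) (mem_sup_right haJ))
              (inv_mem (mul_mem hyaY hyaY))) (inv_mem (mem_sup_right haJ))
          exact hmemO _ (commutator_mem_core hsn h3 (k := (⟨y, hyY⟩ : Y))
            (a := (⟨a, mem_sup_right haJ⟩ : Y)) (mem_subgroupOf.2 hy) (Subtype.ext ha2)
            (hmemO' _ hc))
      exact fun j hj => (hJH hj).2
    intro j hj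
    refine mem_normalizer_of_cjg_le ?_
    nth_rewrite 1 [← comp_gen hK]
    rw [cjg, MonoidHom.map_closure, closure_le]
    rintro _ ⟨k, ⟨hk, hko⟩, rfl⟩
    rw [MulEquiv.coe_toMonoidHom, MulAut.conj_apply]
    rcases eq_or_ne k 1 with rfl | hk1
    · simp
    have hk3 : orderOf k = 3 :=
      haveI : Fact (Nat.Prime 3) := ⟨Nat.prime_three⟩
      orderOf_eq_prime (comp_odd_pow3 hK hk hko) hk1
    have hmem : j * k * j⁻¹ ∈ O ⊔ K := by
      have h1 : ⁅k, j⁆⁻¹ ∈ O := inv_mem (hkey k hk hk3 j hj)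
      have := mul_mem (mem_sup_left (T := K) h1) (mem_sup_right (S := O) hk)
      rwa [commutatorElement_def, show (k * j * k⁻¹ * j⁻¹)⁻¹ * k = j * k * j⁻¹ by group] at this
    have hjkY : j * k * j⁻¹ ∈ Y :=
      mul_mem (mul_mem (mem_sup_right hj) (hKY hk)) (inv_mem (mem_sup_right hj))
    exact mem_subgroupOf.1 (odd_mem_of_subnormal hsn hKY hOY (isPGroup_pCoreOf 2 Y)
      (hKY.trans hOn) le_rfl ⟨_, hjkY⟩ hmem
      (by rw [← orderOf_coe]; show Odd (orderOf (j * k * j⁻¹)); rw [orderOf_conj_eq]; exact hko))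

/-- Recognition of a component from a conjugate one. -/
theorem comp_of_subnormal (z : ZN G) {T L K : Subgroup G} (hT : IsPGroup 2 ↥T) (hT1 : T ≠ ⊥)
    (hL : L ∈ jOvergroups T) (g : G) (hK : K ∈ jComponentsZero (cjg g T)) (hKL : K ≤ L)
    (hsn : (K.subgroupOf (K ⊔ Jt T)).IsSubnormal) : IsJComponent T K := by
  have hg1 : cjg g T ≠ ⊥ := fun h => hT1 (map_eq_bot_iff_of_injective _
    (MulAut.conj g).injective |>.1 h)
  have hN := J_le_normalizer_wOf z hT hT1 hL hK.1 hKL hsn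
  have e : cjg g⁻¹ (cjg g T) = T := cjg_inv_cjg g T
  have := jZero_conj z (hT.map _) hg1 hK g⁻¹ (by rw [e]; exact hN)
  rwa [e] at this

end Cfsg.Agent.JComp
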