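import Cfsg.Agent.Lib.JComp.Pair

/-!
The amalgam of two members: the maximal 2-local subgroups are `S₄` or `C₂ × S₄`.
-/

set_option autoImplicit false
set_option linter.unusedSectionVars false
set_option linter.style.haveILetI false

namespace Cfsg.Agent.JComp

open Subgroup Cfsg Cfsg.Agent.CharP Cfsg.Agent.PLocal.ThompsonSubgroup
open scoped commutatorElement

/-- The conclusion of the amalgam theorem for a pair of subgroups. -/
def SymFour {X : Type*} [Group X] (P₁ P₂ : Subgroup X) : Prop :=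
  (Nonempty (↥P₁ ≃* Equiv.Perm (Fin 4)) ∧ Nonempty (↥P₂ ≃* Equiv.Perm (Fin 4))) ∨
    (Nonempty (↥P₁ ≃* Multiplicative (ZMod 2) × Equiv.Perm (Fin 4)) ∧
      Nonempty (↥P₂ ≃* Multiplicative (ZMod 2) × Equiv.Perm (Fin 4)))

/-- The amalgam theorem (both `Ω₁Z(T)` noncentral) in the group `X`. -/
def Amal (X : Type*) [Group X] : Prop :=
  ∀ (P₁ P₂ : Subgroup X) [Finite ↥P₁] [Finite ↥P₂], P₁ ⊔ P₂ = ⊤ →
    ∀ T : Subgroup X, T = P₁ ⊓ P₂ →
    (∀ P ∈ ({P₁, P₂} : Set (Subgroup X)),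
      P ⊓ centralizer (pCoreOf 2 P : Set X) ≤ pCoreOf 2 P) →
    (∀ P ∈ ({P₁, P₂} : Set (Subgroup X)),
      ∃ S : Sylow 2 ↥P, (S : Subgroup ↥P) = T.subgroupOf P) →
    (∀ N : Subgroup X, N.Normal → N ≤ T → N = ⊥) →
    (∀ P ∈ ({P₁, P₂} : Set (Subgroup X)),
      Nonempty (↥P ⧸ pCore 2 ↥P ≃* Equiv.Perm (Fin 3))) →
    (∀ P ∈ ({P₁, P₂} : Set (Subgroup X)),
      ¬ P ≤ centralizer (omegaOne 2 (T ⊓ centralizer (T : Set X)) : Set X)) →
    SymFour P₁ P₂

variable {G : Type*} [Group G] [Finite G] {S : Sylow 2 G} {M T K L : Subgroup G}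

/-- Transfer of the hypotheses of the amalgam theorem to a subgroup. -/
theorem core_subgroupOf {P H : Subgroup G} (hPH : P ≤ H) :
    (pCoreOf 2 (P.subgroupOf H)).map H.subtype = Qk P := by
  rw [← pCoreOf_map H.subtype_injective, map_subgroupOf_eq_of_le hPH]

theorem TwoComps.amalgam {K1 K2 L1 L2 : Subgroup G} (p : TwoComps M T K1 K2 L1 L2) (h : Hyp S M)
    (hT : T ∈ maxStraddlingTwoSubgroups M) (am : ∀ H : Subgroup G, Amal ↥H) :
    SymFour (K1 ⊔ T) (K2 ⊔ T) := by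
  obtain ⟨hTp, hT1, -⟩ := straddle_props hT
  set P1 := K1 ⊔ T with hP1
  set P2 := K2 ⊔ T with hP2
  set H := P1 ⊔ P2 with hH
  have h1H : P1 ≤ H := le_sup_left
  have h2H : P2 ≤ H := le_sup_right
  have hTint : T = P1 ⊓ P2 := by
    have hT12 : T ≤ P1 ⊓ P2 := le_inf le_sup_right le_sup_right
    have hmul := relIndex_mul_relIndex T (P1 ⊓ P2) P1 hT12 inf_le_left
    rw [(p.m1.sylow h.zn hTp hT1).2] at hmul
    rcases (Nat.dvd_prime Nat.prime_three).1 (Dvd.intro _ hmul) with e | e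
    · exact le_antisymm hT12 (relIndex_eq_one.1 e)
    · rw [e] at hmul
      have hle : P1 ≤ P1 ⊓ P2 := relIndex_eq_one.1 (by omega)
      exact absurd (p.m1.unique h hT p.m2.max ((hle.trans inf_le_right).trans p.m2.le)).symm p.ne
  set A := P1.subgroupOf H with hA
  set B := P2.subgroupOf H with hB
  set T' := T.subgroupOf H with hT'
  have hinj := H.subtype_injective
  have hTH : T ≤ H := (le_sup_right : T ≤ P1).trans h1H
  have hgen : A ⊔ B = ⊤ := by
    apply map_injective hinj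
    rw [Subgroup.map_sup, hA, hB, map_subgroupOf_eq_of_le h1H, map_subgroupOf_eq_of_le h2H,
      ← MonoidHom.range_eq_map, range_subtype]
  have hdata : ∀ (K' L' : Subgroup G), Member M T K' L' → ∀ hle : K' ⊔ T ≤ H,
      let P := (K' ⊔ T).subgroupOf H
      (P ⊓ centralizer (pCoreOf 2 P : Set ↥H) ≤ pCoreOf 2 P) ∧
      (∃ U : Sylow 2 ↥P, (U : Subgroup ↥P) = T'.subgroupOf P) ∧
      Nonempty (↥P ⧸ pCore 2 ↥P ≃* Equiv.Perm (Fin 3)) ∧
      ¬ P ≤ centralizer (omegaOne 2 (T' ⊓ centralizer (T' : Set ↥H)) : Set ↥H) := by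
    intro K' L' m hle P
    have hmap : P.map H.subtype = K' ⊔ T := map_subgroupOf_eq_of_le hle
    have hQ : (pCoreOf 2 P).map H.subtype = Qk (K' ⊔ T) := core_subgroupOf hle
    refine ⟨?_, ?_, ?_, ?_⟩
    · intro y hy
      have hc : (y : G) ∈ centralizer (Qk (K' ⊔ T) : Set G) := by
        rw [← hQ]
        rintro _ ⟨q, hq, rfl⟩
        exact congrArg Subtype.val (hy.2 q hq)
      have := m.cent h.zn hTp hT1 hc
      rw [← hQ] at this
      obtain ⟨q, hq, hqy⟩ := this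
      exact hinj hqy ▸ hq
    · obtain ⟨U, hU⟩ := isSylowTwoIn_iff.1 (m.sylow h.zn hTp hT1).1
      let e : ↥P ≃* ↥(K' ⊔ T) := subgroupOfEquivOfLe hle
      refine ⟨U.comapOfInjective e.toMonoidHom e.injective
        (by rw [MonoidHom.range_eq_top.2 e.surjective]; exact le_top), ?_⟩
      show (U : Subgroup ↥(K' ⊔ T)).comap e.toMonoidHom = _
      ext y
      rw [mem_comap, mem_subgroupOf, mem_subgroupOf]
      refine ⟨fun hy => hU.le ⟨e y, hy, rfl⟩, fun hy => ?_⟩
      obtain ⟨u, hu, hue⟩ := hU.ge hy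
      have : u = e y := Subtype.ext hue
      exact this ▸ hu
    · let e : ↥P ≃* ↥(K' ⊔ T) := subgroupOfEquivOfLe hle
      have hc : (pCore 2 ↥P).map e.toMonoidHom = pCore 2 ↥(K' ⊔ T) :=
        Cfsg.Agent.Cores.map_pCore_eq e 2
      have hQN : (pCore 2 ↥(K' ⊔ T)).Normal :=
        hc ▸ Normal.map inferInstance e.toMonoidHom e.surjective
      let q := QuotientGroup.congr (pCore 2 ↥P) (pCore 2 ↥(K' ⊔ T)) e hc
      have hidx : Nat.card (↥(K' ⊔ T) ⧸ pCore 2 ↥(K' ⊔ T)) = 6 := by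
        have := (m.core_index h.zn hTp hT1).2
        rw [relIndex] at this
        show (pCore 2 ↥(K' ⊔ T)).index = 6
        rwa [Qk, pCoreOf, subgroupOf, comap_map_eq_self_of_injective (subtype_injective _)] at this
      have hnc : ∃ a b : ↥(K' ⊔ T) ⧸ pCore 2 ↥(K' ⊔ T), a * b ≠ b * a := by
        by_contra hcon
        push Not at hcon
        refine m.not_comm h.zn hTp hT1 (commutator_le.2 fun a ha b hb => ?_)
        refine ⟨⁅(⟨a, ha⟩ : ↥(K' ⊔ T)), ⟨b, hb⟩⁆, ?_, rfl⟩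
        rw [SetLike.mem_coe, ← QuotientGroup.eq_one_iff, ← QuotientGroup.mk'_apply,
          map_commutatorElement, commutatorElement_eq_one_iff_mul_comm]
        exact hcon _ _
      obtain ⟨r⟩ := mul_equiv_perm_three hidx hnc
      exact ⟨q.trans r⟩
    · intro hcent
      obtain ⟨x, hx, hxo⟩ := comp_exists_three m.comp
      obtain ⟨zz, hzW, hz1, -, hzT, -, -⟩ := m.fix_z hTp
      have hzH : zz ∈ H := hle (mem_sup_right (omegaCenterOf_le _ hzT))
      have hzmem : (⟨zz, hzH⟩ : ↥H) ∈ omegaOne 2 (T' ⊓ centralizer (T' : Set ↥H)) := by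
        obtain ⟨hzT', hzc, hz2⟩ := mem_omegaCenterOf.1 hzT
        refine subset_closure ⟨mem_inf.2 ⟨mem_subgroupOf.2 hzT', fun y hy => ?_⟩, ?_⟩
        · exact Subtype.ext (hzc _ (mem_subgroupOf.1 hy))
        · exact Subtype.ext (by simpa [pow_two] using hz2)
      have := hcent (x := ⟨x, hle (mem_sup_left hx)⟩) (mem_subgroupOf.2 (mem_sup_left hx)) _ hzmem
      exact hz1 (comp_fixed_W m.comp hx hxo hzW (congrArg Subtype.val this).symm)
  obtain ⟨a1, a2, a4, a5⟩ := hdata K1 L1 p.m1 h1H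
  obtain ⟨b1, b2, b4, b5⟩ := hdata K2 L2 p.m2 h2H
  have hres := am H A B hgen T' (by rw [hT', hA, hB, hTint, subgroupOf, comap_inf]; rfl)
    (by rintro P (rfl | rfl); exacts [a1, b1]) (by rintro P (rfl | rfl); exacts [a2, b2])
    (by
      intro N hN hNT
      apply map_injective hinj
      rw [Subgroup.map_bot, ← le_bot_iff, ← p.core_bot h hT]
      refine le_pCoreOf ((map_subtype_le N)) ?_ ?_
      · have := le_normalizer_map (H := N) H.subtype
        rwa [normalizer_eq_top, ← MonoidHom.range_eq_map, range_subtype] at this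
      · exact hTp.to_le ((map_mono hNT).trans (map_subgroupOf_eq_of_le hTH).le))
    (by rintro P (rfl | rfl); exacts [a4, b4]) (by rintro P (rfl | rfl); exacts [a5, b5])
  let e1 : ↥A ≃* ↥P1 := subgroupOfEquivOfLe h1H
  let e2 : ↥B ≃* ↥P2 := subgroupOfEquivOfLe h2H
  rcases hres with ⟨⟨f1⟩, ⟨f2⟩⟩ | ⟨⟨f1⟩, ⟨f2⟩⟩
  · exact Or.inl ⟨⟨e1.symm.trans f1⟩, ⟨e2.symm.trans f2⟩⟩
  · exact Or.inr ⟨⟨e1.symm.trans f1⟩, ⟨e2.symm.trans f2⟩⟩

/-- `P = ⟨K, T⟩` is `S₄` or `C₂ × S₄`. -/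
def IsModel (P : Subgroup G) : Prop :=
  Nonempty (↥P ≃* Equiv.Perm (Fin 4)) ∨
    Nonempty (↥P ≃* Multiplicative (ZMod 2) × Equiv.Perm (Fin 4))

theorem SymFour.models {P₁ P₂ : Subgroup G} (h : SymFour P₁ P₂) : IsModel P₁ ∧ IsModel P₂ := by
  rcases h with ⟨a, b⟩ | ⟨a, b⟩
  exacts [⟨Or.inl a, Or.inl b⟩, ⟨Or.inr a, Or.inr b⟩]

/-- The core of a model is `W_K × C` with `|C| ≤ 2`. -/
theorem Member.model_core (m : Member M T K L) (z : ZN G) (hT : IsPGroup 2 ↥T) (hT1 : T ≠ ⊥)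
    (hmod : IsModel (K ⊔ T)) :
    Qk (K ⊔ T) = wOf K ⊔ Qk (K ⊔ T) ⊓ centralizer (K : Set G) ∧
      Nat.card (Qk (K ⊔ T) ⊓ centralizer (K : Set G) : Subgroup G) ≤ 2 ∧
      Nat.card (Qk (K ⊔ T)) ≤ 8 := by
  obtain ⟨x, hx, hxo⟩ := comp_exists_three m.comp
  obtain ⟨hO, hidx⟩ := m.core_index z hT hT1
  set O := Qk (K ⊔ T) with hOdef
  set W := wOf K with hW
  set C := O ⊓ centralizer (K : Set G) with hC
  have hcard : Nat.card O * 6 = Nat.card ↥(K ⊔ T) := by
    rw [← hidx, card_mul_relIndex' (pCoreOf_le 2 _)]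
  have hWO : W ≤ O := by
    rw [hO]
    refine le_inf ((wOf_le_Qk K).trans ?_) ?_
    · rw [← m.core_K z hT hT1]; exact inf_le_right
    · exact fun w hw v hv => comp_W_comm m.comp hv hw
  have hdis : W ⊓ C = ⊥ := (eq_bot_iff_forall _).2 fun w hw =>
    comp_fixed_W m.comp hx hxo hw.1 (hw.2.2 x hx)
  have hsupc : Nat.card ↥(W ⊔ C) = 4 * Nat.card C := by
    have h1 := card_sup_mul_inf (A := W) (B := C) (le_normalizer_of_commute fun a ha b hb =>
      hb.2 a ((wOf_le_Qk K).trans (pCoreOf_le 2 K) ha))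
    rwa [hdis, card_bot, mul_one, comp_wcard m.comp] at h1
  have hle : W ⊔ C ≤ O := sup_le hWO inf_le_left
  have hb := card_le_of_le hle
  rcases hmod with ⟨⟨e⟩⟩ | ⟨⟨e⟩⟩
  · have hP : Nat.card ↥(K ⊔ T) = 24 := by
      rw [Nat.card_congr e.toEquiv, Nat.card_perm, Nat.card_eq_fintype_card, Fintype.card_fin]
      decide
    have hC1 : 0 < Nat.card C := Nat.card_pos
    exact ⟨(eq_of_le_of_card_ge hle (by omega)).symm, by omega, by omega⟩
  · have hP : Nat.card ↥(K ⊔ T) = 48 := by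
      rw [Nat.card_congr e.toEquiv, Nat.card_prod, Nat.card_perm,
        Nat.card_congr Multiplicative.toAdd, Nat.card_zmod, Nat.card_eq_fintype_card,
        Fintype.card_fin]
      decide
    obtain ⟨c, hc⟩ : ∃ c : ↥(K ⊔ T), e c = (Multiplicative.ofAdd 1, 1) :=
      ⟨e.symm _, e.apply_symm_apply _⟩
    have hc2 : c * c = 1 := e.injective (by rw [map_mul, hc, map_one e]; decide)
    have hc1 : c ≠ 1 := fun h => by
      rw [h, map_one e] at hc; exact absurd (congrArg Prod.fst hc) (by decide)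
    have hcc : ∀ y : ↥(K ⊔ T), y * c = c * y := fun y => e.injective (by
      rw [map_mul, map_mul, hc]
      ext : 1
      · exact mul_comm _ _
      · simp)
    have hcP : ∀ y ∈ K ⊔ T, y * (c : G) = c * y := fun y hy =>
      congrArg Subtype.val (hcc ⟨y, hy⟩)
    have hc1' : (c : G) ≠ 1 := fun h => hc1 (Subtype.ext h)
    have hc2' : (c : G) ^ 2 = 1 := by rw [pow_two]; exact congrArg Subtype.val hc2
    have ho : orderOf (c : G) = 2 := orderOf_eq_prime hc2' hc1'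
    have hcO : (c : G) ∈ O := by
      refine (le_pCoreOf (zpowers_le.2 c.2) ?_ ?_) (mem_zpowers _)
      · intro y hy
        refine mem_normalizer_of_cjg_le ?_
        rw [cjg, MonoidHom.map_zpowers]
        refine zpowers_le.2 ?_
        rw [MulEquiv.coe_toMonoidHom, MulAut.conj_apply, hcP y hy, mul_inv_cancel_right]
        exact mem_zpowers _
      · exact IsPGroup.of_card (n := 1) (by rw [Nat.card_zpowers, ho, pow_one])
    have hcC : (c : G) ∈ C := mem_inf.2 ⟨hcO, fun y hy => hcP y (mem_sup_left hy)⟩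
    have hC2 : 2 ≤ Nat.card C := by
      rw [← ho]
      exact Nat.le_of_dvd Nat.card_pos (C.orderOf_dvd_natCard hcC)
    exact ⟨(eq_of_le_of_card_ge hle (by omega)).symm, by omega, by omega⟩

theorem Member.core_elem (m : Member M T K L) (z : ZN G) (hT : IsPGroup 2 ↥T) (hT1 : T ≠ ⊥)
    (hmod : IsModel (K ⊔ T)) : ∀ a ∈ Qk (K ⊔ T), a * a = 1 := by
  obtain ⟨hO, hC2, -⟩ := m.model_core z hT hT1 hmod
  intro a ha
  have hcomm : ∀ w ∈ wOf K, ∀ c ∈ (Qk (K ⊔ T) ⊓ centralizer (K : Set G) : Subgroup G),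
      w * c = c * w := fun w hw c hc =>
    hc.2 w ((wOf_le_Qk K).trans (pCoreOf_le 2 K) hw)
  rw [hO] at ha
  obtain ⟨w, hw, c, hc, rfl⟩ :=
    exists_mul_of_le_normalizer (le_normalizer_of_commute hcomm) ha
  have hc2 : c * c = 1 := by
    rcases eq_or_ne c 1 with rfl | h1
    · exact one_mul 1
    rcases card_two_cases hC2 hc h1 (mul_mem hc hc) with e | e
    · exact e
    · exact absurd (mul_left_cancel (e.trans (mul_one c).symm)) h1
  rw [mul_assoc, ← mul_assoc c, ← hcomm w hw c hc, ← mul_assoc, ← mul_assoc,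
    comp_wexp m.comp w hw, one_mul, hc2]

/-- A model is a maximal 2-local subgroup. -/
theorem Member.model_eq (m : Member M T K L) (z : ZN G) (hT : IsPGroup 2 ↥T) (hT1 : T ≠ ⊥)
    (hmod : IsModel (K ⊔ T)) : L = K ⊔ T := by
  refine le_antisymm ?_ m.le
  obtain ⟨hO, hC2, hO8⟩ := m.model_core z hT hT1 hmod
  have hexp := m.core_elem z hT hT1 hmod
  obtain ⟨x, hx, hxo⟩ := comp_exists_three m.comp
  obtain ⟨V, X, Ws, E, o⟩ := exists_ovg z hT hT1 m.ov
  have hKL : K ≤ L := le_sup_left.trans m.le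
  have hQO : Qk L = Qk (K ⊔ T) := by
    have hle : Qk L ≤ Qk (K ⊔ T) := le_pCoreOf (o.Q_le_T.trans le_sup_right)
      (m.le.trans (le_normalizer_pCoreOf 2 L)) (isPGroup_pCoreOf 2 L)
    refine le_antisymm hle (le_trans ?_ o.cent)
    intro a ha b hb
    exact isElementaryAbelian_two_comm (isElementaryAbelian_two_of hexp) (hle hb) ha
  set O := Qk (K ⊔ T) with hOdef
  set W := wOf K with hW
  set C := O ⊓ centralizer (K : Set G) with hC
  have hLO : L ≤ normalizer (O : Set G) := hQO ▸ le_normalizer_pCoreOf 2 L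
  obtain ⟨W₀, hW₀, hWe, -, -⟩ := o.comp_data z hT hT1 m.comp hKL
  -- `L` fixes the four-group, hence normalises `K`
  have hLW : L ≤ normalizer (W : Set G) := by
    intro g hg
    by_contra hgn
    have hne : W₀ ≠ cjg g W₀ := fun e => hgn (cjg_eq_self.1 (by rw [hW, hWe]; exact e.symm))
    have hW' := o.Jset_conj hW₀ hg
    have hdis := (o.blocks.sep W₀ hW₀.1 _ hW'.1 hne).1
    have hWO : W₀ ≤ O := by rw [← hWe, hO]; exact le_sup_left
    have hW'O : cjg g W₀ ≤ O := (cjg_mono hWO).trans (cjg_eq_self.2 (hLO hg)).le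
    have h1 := card_sup_mul_inf (A := W₀) (B := cjg g W₀) (le_normalizer_of_commute fun a ha b hb =>
      isElementaryAbelian_two_comm (isElementaryAbelian_two_of hexp) (hWO ha) (hW'O hb))
    rw [hdis, card_bot, mul_one, card_cjg, o.blocks.card_W W₀ hW₀.1] at h1
    have := card_le_of_le (sup_le hWO hW'O)
    omega
  have hLK : L ≤ normalizer (K : Set G) := fun g hg =>
    o.stab_normalizes z hT hT1 m.comp hKL hg (hLW hg)
  -- the centraliser of `W` in `L` is `O`
  have hCW : ∀ g ∈ L, g ∈ centralizer (W : Set G) → g ∈ O := by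
    intro g hg hgW
    rw [← hQO]
    refine o.cent ?_
    rw [hQO]
    have hfix : O ≤ centralizer ({g} : Set G) := by
      rw [hO]
      refine sup_le (fun w hw => mem_centralizer_singleton_iff.2 (hgW w hw)) fun c hc => ?_
      rw [mem_centralizer_singleton_iff]
      rcases eq_or_ne c 1 with rfl | hc1
      · rw [one_mul, mul_one]
      have hcc : g * c * g⁻¹ ∈ C := by
        refine mem_inf.2 ⟨conj_mem_normalizer (hLO hg) hc.1, ?_⟩
        exact conj_mem_normalizer (normalizer_le_normalizer_centralizer' K (hLK hg)) hc.2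
      rcases card_two_cases hC2 hc hc1 hcc with e | e
      · exact absurd (conj_eq_one_iff.1 e) hc1
      · exact (mul_inv_eq_iff_eq_mul.1 e).symm
    exact fun y hy => mem_centralizer_singleton_iff.1 (hfix hy)
  obtain ⟨zz, hzW, hz1, -, -, -, hfixT⟩ := m.fix_z hT
  obtain ⟨A, hA, a, ha, haC⟩ := comp_exists_moving m.comp
  set B := L ⊓ centralizer ({zz} : Set G) with hB
  have haB : a ∈ B := mem_inf.2 ⟨m.le (mem_sup_right (hA.1 ha)),
    mem_centralizer_singleton_iff.2 (hfixT a (hA.1 ha))⟩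
  have h2 := four_stab_index (comp_wcard m.comp) (comp_wexp m.comp) (inf_le_left.trans hLW) hzW hz1
    (fun b (hb : b ∈ B) => mem_centralizer_singleton_iff.1 hb.2) haB haC
  have hBP : ∀ h ∈ B, h ∈ K ⊔ T := by
    intro b hb
    by_cases hbC : b ∈ centralizer (W : Set G)
    · exact pCoreOf_le 2 (K ⊔ T) (hCW b hb.1 hbC)
    · have hmem : (⟨b, hb⟩ * ⟨a, haB⟩ : ↥B) ∈ (B ⊓ centralizer (W : Set G)).subgroupOf B := by
        rw [mul_mem_iff_of_index_two h2, mem_subgroupOf, mem_subgroupOf]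
        exact iff_of_false (fun h => hbC h.2) fun h => haC h.2
      obtain ⟨hbaB, hbaC⟩ := mem_inf.1 (mem_subgroupOf.1 hmem)
      have h4 : b * a ∈ K ⊔ T := pCoreOf_le 2 (K ⊔ T) (hCW _ hbaB.1 hbaC)
      have := mul_mem h4 (inv_mem (mem_sup_right (hA.1 ha) : a ∈ K ⊔ T))
      rwa [mul_inv_cancel_right] at this
  intro g hg
  -- `⟨x⟩` is transitive on `W∖1`
  have hxW : x ∈ normalizer (W : Set G) := normalizer_le_normalizer_wOf K (le_normalizer hx)
  have key : ∃ k ∈ K ⊔ T, k ∈ L ∧ k * (g * zz * g⁻¹) * k⁻¹ = zz := by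
    have hgz : g * zz * g⁻¹ ∈ W := conj_mem_normalizer (hLW hg) hzW
    have hxz : x * zz * x⁻¹ ≠ zz := fun e =>
      hz1 (comp_fixed_W m.comp hx hxo hzW (mul_inv_eq_iff_eq_mul.1 e))
    have hxz1 : x * zz * x⁻¹ ≠ 1 := fun e => hz1 (conj_eq_one_iff.1 e)
    have hxW1 : x * zz * x⁻¹ ∈ W := conj_mem_normalizer hxW hzW
    have hx3 : x ^ 3 = 1 := hxo ▸ pow_orderOf_eq_one x
    have hsq : x * (x * zz * x⁻¹) * x⁻¹ = zz * (x * zz * x⁻¹) := by
      rcases four_cases (comp_wcard m.comp) (comp_wexp m.comp) hzW hxW1 hz1 hxz1 hxz.symm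
        (conj_mem_normalizer hxW hxW1) with e | e | e | e
      · exact absurd (conj_eq_one_iff.1 e) hxz1
      · exfalso; apply hxz
        calc x * zz * x⁻¹ = x * (x * (x * zz * x⁻¹) * x⁻¹) * x⁻¹ := by rw [e]
          _ = x ^ 3 * zz * (x ^ 3)⁻¹ := by rw [pow_three]; group
          _ = zz := by rw [hx3]; group
      · exact absurd (mul_left_cancel (mul_right_cancel e)) hxz
      · exact e
    rcases four_cases (comp_wcard m.comp) (comp_wexp m.comp) hzW hxW1 hz1 hxz1 hxz.symm hgz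
      with e | e | e | e
    · exact absurd (conj_eq_one_iff.1 e) hz1
    · exact ⟨1, one_mem _, one_mem _, by rw [e]; group⟩
    · exact ⟨x⁻¹, inv_mem (mem_sup_left hx), inv_mem (hKL hx), by rw [e]; group⟩
    · refine ⟨x, mem_sup_left hx, hKL hx, ?_⟩
      rw [e, ← hsq, show x * (x * (x * zz * x⁻¹) * x⁻¹) * x⁻¹ = x ^ 3 * zz * (x ^ 3)⁻¹ by rw [pow_three]; group,
        hx3]
      group
  obtain ⟨k, hk, hkL, hkz⟩ := key
  have hkg : k * g ∈ B := mem_inf.2 ⟨mul_mem hkL hg, mem_centralizer_singleton_iff.2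
    (mul_inv_eq_iff_eq_mul.1 (by refine Eq.trans ?_ hkz; group))⟩
  have := mul_mem (inv_mem hk) (hBP _ hkg)
  rwa [inv_mul_cancel_left] at this

end Cfsg.Agent.JComp
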