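import Cfsg.Agent.Lib.JComp.Component
import Cfsg.Agent.Lib.JComp.Blocks

/-!
The overgroups `L` of `T`: the kernel `X` and the blocks.
-/

set_option autoImplicit false
set_option linter.unusedSectionVars false
set_option linter.style.haveILetI false

namespace Cfsg.Agent.JComp

open Subgroup Cfsg Cfsg.Agent.CharP
open scoped commutatorElement

/-- The standing hypotheses: characteristic 2 type, solvable 2-local subgroups and
`C(Ω₁ Z(S)) ≤ N(S)`. -/
structure ZN (G : Type*) [Group G] : Prop where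
  char2 : IsCharacteristicTwoType G
  solv : ∀ N : Subgroup G, IsTwoLocal N → Group.IsSolvable ↥N
  hz : ∀ S : Sylow 2 G, centralizer (omegaCenterOf (S : Subgroup G) : Set G) ≤
    normalizer ((S : Subgroup G) : Set G)

variable {G : Type*} [Group G]

/-- The data attached to an overgroup `L` of `T`. -/
structure Ovg (T L V X : Subgroup G) (Ws : Set (Subgroup G)) (E : Subgroup G → Subgroup G) :
    Prop where
  syl : IsSylowTwoIn T L
  nJ : ¬ Jt T ≤ Qk L
  cent : centralizer (Qk L : Set G) ≤ Qk L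
  V_le : V ≤ omegaCenterOf (Qk L)
  X_le : X ≤ L
  X_cent : X ≤ centralizer (V : Set G)
  X_norm : L ≤ normalizer (X : Set G)
  Q_le : Qk L ≤ X
  comm : ∀ x ∈ X, ∀ t ∈ T, ⁅x, t⁆ ∈ Qk L
  two : ∀ P : Subgroup G, IsPGroup 2 ↥P → P ≤ X → P ≤ Qk L
  normJ : X ≤ normalizer (Jt T : Set G)
  blocks : Blocks T L V X Ws E

variable [Finite G]

theorem core_ne_bot {T L : Subgroup G} (hT1 : T ≠ ⊥) (hL : L ∈ jOvergroups T) : Qk L ≠ ⊥ := by
  intro hb
  refine hT1 ((eq_bot_iff_forall _).2 fun t _ => ?_)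
  have h : t ∈ centralizer (Qk L : Set G) := fun y hy => by
    rw [SetLike.mem_coe, hb, mem_bot] at hy
    rw [hy, one_mul, mul_one]
  exact mem_bot.1 (hb.le (hL.2.2 h))

theorem ZN.solvable_of_core (z : ZN G) {L : Subgroup G} (h : Qk L ≠ ⊥) : Group.IsSolvable ↥L := by
  haveI := z.solv _ ⟨Qk L, isPGroup_pCoreOf 2 L, h, rfl⟩
  exact solvable_of_solvable_injective (f := inclusion (le_normalizer_pCoreOf 2 L))
    (inclusion_injective _)

theorem two_subgroup_le_of_normalizer (S : Sylow 2 G) {P : Subgroup G} (hP : IsPGroup 2 ↥P)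
    (h : P ≤ normalizer ((S : Subgroup G) : Set G)) : P ≤ (S : Subgroup G) :=
  le_sup_left.trans (S.is_maximal' (IsPGroup.to_sup_of_normal_right' hP S.isPGroup' h)
    le_sup_right).le

theorem exists_ovg (z : ZN G) {T L : Subgroup G} (hT : IsPGroup 2 ↥T) (hT1 : T ≠ ⊥)
    (hL : L ∈ jOvergroups T) : ∃ V X Ws E, Ovg T L V X Ws E := by
  obtain ⟨hsyl, hnJ, hcent⟩ := hL
  have hcore := core_ne_bot hT1 ⟨hsyl, hnJ, hcent⟩
  have hQT : Qk L ≤ T := pCoreOf_le_of_isSylIn (isSylowTwoIn_iff.1 hsyl)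
  have hQn : L ≤ normalizer (Qk L : Set G) := le_normalizer_pCoreOf 2 L
  -- `Ω₁ Z(T) ≤ Ω₁ Z(O₂ L)`
  have hZQ : omegaCenterOf T ≤ omegaCenterOf (Qk L) := by
    intro v hv
    obtain ⟨h1, h2, h3⟩ := mem_omegaCenterOf.1 hv
    have h4 : v ∈ centralizer (Qk L : Set G) := fun q hq => h2 q (hQT hq)
    exact mem_omegaCenterOf.2 ⟨hcent h4, fun q hq => h2 q (hQT hq), h3⟩
  set V : Subgroup G := ⨆ g : L, cjg (g : G) (omegaCenterOf T) with hV
  have hVQ : V ≤ omegaCenterOf (Qk L) := iSup_le fun g => by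
    rw [← cjg_eq_self.2 (normalizer_le_normalizer_omegaCenterOf _ (hQn g.2))]
    exact cjg_mono hZQ
  have hVL : V ≤ L := hVQ.trans ((omegaCenterOf_le _).trans (pCoreOf_le 2 L))
  have hVn : L ≤ normalizer (V : Set G) := by
    intro g hg
    refine mem_normalizer_of_cjg_le ?_
    rw [hV, cjg, Subgroup.map_iSup]
    refine iSup_le fun h => le_iSup_of_le (⟨g, hg⟩ * h : L) ?_
    rw [Subgroup.coe_mul, ← cjg_cjg]
  have hVe : IsElementaryAbelian 2 V :=
    PLocal.ThompsonSubgroup.IsElementaryAbelian.mono (elem_omegaCenterOf _) hVQ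
  set X := L ⊓ centralizer (V : Set G) with hX
  have hXn : L ≤ normalizer (X : Set G) :=
    (le_inf le_normalizer (hVn.trans (normalizer_le_normalizer_centralizer' V))).trans
      (normalizer_inf_le_normalizer_inf _ _)
  have hQX : Qk L ≤ X := le_inf (pCoreOf_le 2 L) fun q hq v hv =>
    ((mem_omegaCenterOf.1 (hVQ hv)).2.1 q hq).symm
  -- a Sylow subgroup of `G` containing `T`
  obtain ⟨S, hTS⟩ := hT.exists_le_sylow
  have hXS : X ≤ normalizer ((S : Subgroup G) : Set G) := by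
    refine le_trans (fun x hx => ?_) (z.hz S)
    intro v hv
    obtain ⟨h1, h2, h3⟩ := mem_omegaCenterOf.1 hv
    have hvQ : v ∈ Qk L := hcent fun q hq => h2 q (hTS (hQT hq))
    have hvT : v ∈ omegaCenterOf T :=
      mem_omegaCenterOf.2 ⟨hQT hvQ, fun t ht => h2 t (hTS ht), h3⟩
    have hvV : v ∈ V := le_iSup (fun g : L => cjg (g : G) (omegaCenterOf T)) 1
      (by simpa [mem_cjg] using hvT)
    exact hx.2 v hvV
  have hQk : (S : Subgroup G) ⊓ X ≤ Qk L := by
    have h1 : (S : Subgroup G) ⊓ X ≤ Qk X := le_pCoreOf inf_le_right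
      ((le_inf hXS le_normalizer).trans (normalizer_inf_le_normalizer_inf _ _))
      (S.isPGroup'.to_le inf_le_left)
    exact h1.trans (le_pCoreOf ((pCoreOf_le 2 X).trans inf_le_left)
      (hXn.trans (normalizer_le_normalizer_pCoreOf 2 X)) (isPGroup_pCoreOf 2 X))
  have htwo : ∀ P : Subgroup G, IsPGroup 2 ↥P → P ≤ X → P ≤ Qk L := fun P hP hPX =>
    (le_inf (two_subgroup_le_of_normalizer S hP (hPX.trans hXS)) hPX).trans hQk
  have hcomm : ∀ x ∈ X, ∀ t ∈ T, ⁅x, t⁆ ∈ Qk L := by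
    intro x hx t ht
    refine hQk (mem_inf.2 ⟨?_, ?_⟩)
    · rw [commutatorElement_def]
      exact mul_mem (conj_mem_normalizer (hXS hx) (hTS ht)) (inv_mem (hTS ht))
    · rw [commutatorElement_def, show x * t * x⁻¹ * t⁻¹ = x * (t * x⁻¹ * t⁻¹) by group]
      exact mul_mem hx (conj_mem_normalizer (hXn (hsyl.1 ht)) (inv_mem hx))
  have hnormJ : X ≤ normalizer (Jt T : Set G) := by
    have hle : Qk L ⊔ Jt T ≤ T := sup_le hQT (J_le T)
    have hJ : Jt (Qk L ⊔ Jt T) = Jt T := J_eq_of_le_of_le le_sup_right hle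
    rw [← hJ]
    refine le_trans (fun x hx => ?_) (normalizer_le_normalizer_J _)
    refine mem_normalizer_of_cjg_le ?_
    rw [cjg, Subgroup.map_sup]
    refine sup_le ?_ ?_
    · rw [conj_map_of_mem (hQn hx.1)]; exact le_sup_left
    · rintro _ ⟨j, hj, rfl⟩
      rw [MulEquiv.coe_toMonoidHom, MulAut.conj_apply,
        show x * j * x⁻¹ = ⁅x, j⁆ * j by rw [commutatorElement_def]; group]
      exact mul_mem (mem_sup_left (hcomm x hx j (J_le T hj))) (mem_sup_right hj)
  have hO : ∀ N : Subgroup G, X ≤ N → N ≤ L → L ≤ normalizer (N : Set G) →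
      (∃ k, X.relIndex N = 2 ^ k) → N ≤ X := by
    rintro N hXN hNL hNn ⟨k, hk⟩
    have hTN : N ≤ centralizer (omegaCenterOf T : Set G) := by
      set M := X ⊔ T ⊓ N
      have hMN : M ≤ N := sup_le hXN inf_le_right
      have h1 : M.relIndex N ∣ 2 ^ k := hk ▸ relIndex_dvd_of_le_left N le_sup_left
      have h2 : Odd (M.relIndex N) := by
        refine Odd.of_dvd_nat ?_ (relIndex_dvd_of_le_left N le_sup_right)
        have e1 := card_sup_mul_inf (A := N) (B := T) (hsyl.1.trans hNn)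
        rw [inf_comm, ← card_mul_relIndex' (le_sup_right : T ≤ N ⊔ T),
          ← card_mul_relIndex' (inf_le_right : T ⊓ N ≤ N)] at e1
        have e2 : T.relIndex (N ⊔ T) = (T ⊓ N).relIndex N :=
          Nat.eq_of_mul_eq_mul_left (Nat.mul_pos (Nat.card_pos (α := T))
            (Nat.card_pos (α := ↥(T ⊓ N)))) (by linear_combination e1)
        have e3 : T.relIndex (N ⊔ T) ∣ T.relIndex L := ⟨(N ⊔ T).relIndex L,
          (relIndex_mul_relIndex T (N ⊔ T) L le_sup_right (sup_le hNL hsyl.1)).symm⟩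
        rw [← e2]
        exact hsyl.2.2.of_dvd_nat e3
      have h3 : M.relIndex N = 1 := Nat.eq_one_of_dvd_coprimes
        (Nat.Coprime.pow_left k (Nat.coprime_two_left.2 h2)) h1 dvd_rfl
      refine (relIndex_eq_one.1 h3).trans (sup_le ?_ ?_)
      · intro x hx v hv
        exact hx.2 v (le_iSup (fun g : L => cjg (g : G) (omegaCenterOf T)) 1
          (by simpa [mem_cjg] using hv))
      · intro x hx v hv
        exact ((mem_omegaCenterOf.1 hv).2.1 x hx.1).symm
    refine le_inf hNL (le_centralizer_iff.1 ?_)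
    refine iSup_le fun g => ?_
    rw [← cjg_eq_self.2 (normalizer_le_normalizer_centralizer' N (hNn g.2))]
    exact cjg_mono (le_centralizer_iff.1 hTN)
  obtain ⟨Ws, E, hb⟩ := exists_blocks hsyl (z.solvable_of_core hcore) hVL hVn hVe hX hO
  exact ⟨V, X, Ws, E, hsyl, hnJ, hcent, hVQ, inf_le_left, inf_le_right, hXn, hQX, hcomm, htwo, hnormJ, hb⟩

end Cfsg.Agent.JComp
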