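import Cfsg.Agent.Lib.JComp.OverSub

/-!
Existence of J-components: every block moved by `J(T)` carries one.
-/

set_option autoImplicit false
set_option linter.unusedSectionVars false
set_option linter.style.haveILetI false

namespace Cfsg.Agent.JComp

open Subgroup Cfsg Cfsg.Agent.CharP Cfsg.Agent.PLocal.ThompsonSubgroup
open scoped commutatorElement

variable {G : Type*} [Group G] [Finite G]

/-- An involution acting on an elementary abelian 2-group fixes at least a square root of it. -/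
theorem card_le_sq_fixed {C : Subgroup G} (hC : IsElementaryAbelian 2 C) {a : G}
    (haN : a ∈ normalizer (C : Set G)) (ha2 : a * a = 1) :
    Nat.card C ≤ Nat.card ↥(C ⊓ centralizer ({a} : Set G)) *
      Nat.card ↥(C ⊓ centralizer ({a} : Set G)) := by
  let psi : C →* G :=
    { toFun := fun v => (v : G) * (a * v * a⁻¹)
      map_one' := by simp
      map_mul' := fun v w => by
        have e := isElementaryAbelian_two_comm hC w.2 (conj_mem_normalizer haN v.2)
        show (v : G) * w * (a * ((v : G) * w) * a⁻¹) = _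
        calc (v : G) * w * (a * ((v : G) * w) * a⁻¹)
            = (v : G) * ((w : G) * (a * v * a⁻¹)) * (a * w * a⁻¹) := by group
          _ = _ := by rw [e]; group }
  set Ca := C ⊓ centralizer ({a} : Set G)
  have hrange : psi.range ≤ Ca := by
    rintro _ ⟨v, rfl⟩
    have h := conj_mem_normalizer haN v.2
    refine ⟨mul_mem v.2 h, mem_centralizer_singleton_iff.2 ?_⟩
    show (v : G) * (a * v * a⁻¹) * a = a * ((v : G) * (a * v * a⁻¹))
    symm
    apply mul_inv_eq_iff_eq_mul.1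
    calc a * ((v : G) * (a * v * a⁻¹)) * a⁻¹
        = (a * v * a⁻¹) * ((a * a) * v * (a * a)⁻¹) := by group
      _ = (a * v * a⁻¹) * v := by rw [ha2]; group
      _ = _ := isElementaryAbelian_two_comm hC h v.2
  have hker : psi.ker.map C.subtype ≤ Ca := by
    rintro _ ⟨v, hv, rfl⟩
    refine ⟨v.2, mem_centralizer_singleton_iff.2 ?_⟩
    have hv' : (v : G) * (a * v * a⁻¹) = 1 := hv
    have h1 : a * v * a⁻¹ = v := by
      calc a * (v : G) * a⁻¹ = v * v * (a * v * a⁻¹) := by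
            rw [isElementaryAbelian_two_sq hC v.2, one_mul]
        _ = v := by rw [mul_assoc, hv', mul_one]
    exact (mul_inv_eq_iff_eq_mul.1 h1).symm
  have h1 := psi.ker.card_eq_card_quotient_mul_card_subgroup
  rw [Nat.card_congr (QuotientGroup.quotientKerEquivRange psi).toEquiv] at h1
  rw [h1]
  exact Nat.mul_le_mul (card_le_of_le hrange)
    ((card_map_of_injective C.subtype_injective).symm.trans_le (card_le_of_le hker))

namespace Ovg

variable {T L V X : Subgroup G} {Ws : Set (Subgroup G)} {E : Subgroup G → Subgroup G}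

/-- A good element inverted by an involution from a largest elementary abelian subgroup of `T`. -/
theorem exists_good (o : Ovg T L V X Ws E) {W : Subgroup G} (hW : W ∈ Jset T X Ws E) :
    ∃ A, MaxEA T A ∧ ∃ a ∈ A, a ∈ E W ∧ a ∉ X ∧ ∃ x, orderOf x = 3 ∧ a * x * a⁻¹ = x⁻¹ ∧
      Good L X E W x := by
  obtain ⟨hWs, A, hA, a, ha, haE, haX⟩ := hW
  refine ⟨A, hA, a, ha, haE, haX, ?_⟩
  have ha2 : a * a = 1 := isElementaryAbelian_two_sq hA.2.1 ha
  have hai : a⁻¹ = a := inv_eq_of_mul_eq_one_right ha2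
  have hac : ∀ ξ ∈ X, ⁅ξ, a⁆ ∈ Qk L := fun ξ hξ => o.comm ξ hξ a (hA.1 ha)
  obtain ⟨g, hg, hgX, hg3⟩ := o.exists_three hWs
  set d := g * a * g⁻¹ * a with hd
  have hdE : d ∈ E W := mul_mem (mul_mem (mul_mem hg haE) (inv_mem hg)) haE
  have hXg : ∀ y, g * y * g⁻¹ ∈ X ↔ y ∈ X := fun y =>
    ((mem_normalizer_iff.1 (o.E_norm_X hWs hg)) y).symm
  have hdD : d ∈ Dm X E W := o.Dm_mul_mem hWs (mul_mem (mul_mem hg haE) (inv_mem hg)) haE
    (o.not_mem_Dm hWs (fun h => haX ((hXg a).1 h)) (by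
      rw [show g * a * g⁻¹ * (g * a * g⁻¹) = g * (a * a) * g⁻¹ by group, ha2]; simp))
    (o.not_mem_Dm hWs haX (ha2 ▸ one_mem _))
  have hdinv : a * d * a⁻¹ = d⁻¹ := by
    rw [hd, hai]
    calc a * (g * a * g⁻¹ * a) * a = a * g * a * g⁻¹ * (a * a) := by group
      _ = a⁻¹ * g * a⁻¹ * g⁻¹ := by rw [ha2, hai, mul_one]
      _ = (g * a * g⁻¹ * a)⁻¹ := by group
  have hdX : d ∉ X := by
    intro hdX
    obtain ⟨z, hz, hz1, hza, hfix⟩ := four_transvection (o.blocks.card_W W hWs) (o.wexp hWs)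
      (o.blocks.norm W hWs haE) (ha2 ▸ one_mem _)
      (fun h => haX (o.blocks.faithful W hWs ⟨haE, h⟩))
    have hgz : g * z * g⁻¹ ∈ W := conj_mem_normalizer (o.blocks.norm W hWs hg) hz
    have hu : a * (g * z * g⁻¹) * a⁻¹ ∈ W := conj_mem_normalizer (o.blocks.norm W hWs haE) hgz
    have e := o.X_le_centW hWs hdX _ hu
    have h1 : a * (g * z * g⁻¹) * a⁻¹ = g * z * g⁻¹ := by
      calc a * (g * z * g⁻¹) * a⁻¹
          = (a * (g * z * g⁻¹) * a⁻¹) * d * d⁻¹ := by group
        _ = d * (a * (g * z * g⁻¹) * a⁻¹) * d⁻¹ := by rw [e]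
        _ = g * a * g⁻¹ * (a * a) * (g * z * g⁻¹) * (a * a)⁻¹ * g * a⁻¹ * g⁻¹ := by
            rw [hd]; group
        _ = g * (a * z * a⁻¹) * g⁻¹ := by rw [ha2]; group
        _ = g * z * g⁻¹ := by rw [hza, mul_inv_cancel_right]
    rcases hfix _ hgz (mul_inv_eq_iff_eq_mul.1 h1) with h | h
    · exact hz1 (conj_eq_one_iff.1 h)
    · exact hz1 (o.fixed_of_three hWs hg hgX hg3 hz (mul_inv_eq_iff_eq_mul.1 h))
  have hd3 : d * d * d ∈ X := ((o.mem_Dm hWs).1 hdD).2
  have hd3Q : d * d * d ∈ Qk L := by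
    have h6 : d * d * d * (d * d * d) ∈ Qk L := by
      have h := hac _ hd3
      have e : a * (d * d * d)⁻¹ * a⁻¹ = d * d * d := by
        calc a * (d * d * d)⁻¹ * a⁻¹ = ((a * d * a⁻¹) * (a * d * a⁻¹) * (a * d * a⁻¹))⁻¹ := by
              group
          _ = _ := by rw [hdinv]; simp only [mul_inv_rev, inv_inv, mul_assoc]
      rw [commutatorElement_def, show d * d * d * a * (d * d * d)⁻¹ * a⁻¹ =
        d * d * d * (a * (d * d * d)⁻¹ * a⁻¹) by group, e] at h
      exact h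
    refine o.two (zpowers (d * d * d)) ?_ (zpowers_le.2 hd3) (mem_zpowers _)
    obtain ⟨k, hk⟩ := (isPGroup_pCoreOf 2 L) ⟨_, h6⟩
    have hk' : (d * d * d * (d * d * d)) ^ 2 ^ k = 1 := congrArg Subtype.val hk
    have hdvd : orderOf (d * d * d) ∣ 2 ^ (k + 1) := orderOf_dvd_of_pow_eq_one (by
      rw [pow_succ, mul_comm, pow_mul, pow_two, hk'])
    obtain ⟨i, -, hi⟩ := (Nat.dvd_prime_pow Nat.prime_two).1 hdvd
    exact IsPGroup.of_card (n := i) (by rw [Nat.card_zpowers, hi])
  obtain ⟨n, hn⟩ := IsPGroup.iff_card.1 (isPGroup_pCoreOf 2 L)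
  set x := d ^ 2 ^ n with hx
  have hx3 : x ^ 3 = 1 := by
    rw [hx, ← pow_mul, mul_comm, pow_mul]
    have := pow_card_eq_one' (x := (⟨d ^ 3, by rw [pow_succ, pow_two]; exact hd3Q⟩ : Qk L))
    rw [hn] at this
    exact congrArg Subtype.val this
  have hxX : x ∉ X := by
    intro h
    apply hdX
    have h3 : d ^ 3 ∈ X := by rw [pow_succ, pow_two]; exact hd3
    have hb : (Nat.gcdA 3 (2 ^ n) : ℤ) * 3 + Nat.gcdB 3 (2 ^ n) * (2 ^ n : ℕ) = 1 := by
      have h := Nat.gcd_eq_gcd_ab 3 (2 ^ n)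
      rw [Nat.Coprime.gcd_eq_one (Nat.Coprime.pow_right n (by norm_num))] at h
      push_cast at h ⊢
      linear_combination -h
    rw [← zpow_one d, ← hb, zpow_add, mul_comm _ (3 : ℤ),
      mul_comm _ (((2 ^ n : ℕ)) : ℤ), zpow_mul, zpow_mul, zpow_natCast]
    refine mul_mem (zpow_mem ?_ _) (zpow_mem h _)
    rw [show (3 : ℤ) = ((3 : ℕ) : ℤ) from rfl, zpow_natCast]
    exact h3
  have hxo : orderOf x = 3 := orderOf_eq_prime hx3 fun e => hxX (e ▸ one_mem _)
  have e : a * x * a⁻¹ = x⁻¹ := by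
    rw [hx, ← inv_pow, ← hdinv]
    exact map_pow (MulAut.conj a) d _
  refine ⟨x, hxo, e, pow_mem hdE _, hxX, ?_, a, haE, haX, ha2 ▸ one_mem _, hac, ?_⟩
  · rw [← pow_two, ← pow_succ, hx3]; exact one_mem _
  · rw [e, inv_mul_cancel]; exact one_mem _

theorem span_norm (o : Ovg T L V X Ws E) {W : Subgroup G} (hW : W ∈ Ws) {x : G}
    (hx : Good L X E W x) {t : G} (htL : t ∈ L) (htW : t ∈ normalizer (W : Set G)) :
    t ∈ normalizer ((Qk L ⊔ zpowers x : Subgroup G) : Set G) := by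
  have h := o.Good_conj hW htL hx
  rw [cjg_eq_self.2 htW] at h
  rw [← cjg_eq_self, cjg, Subgroup.map_sup, MonoidHom.map_zpowers,
    conj_map_of_mem (le_normalizer_pCoreOf 2 L htL)]
  exact o.uniq_span hW hx h

theorem exists_comp' (o : Ovg T L V X Ws E) (hT : IsPGroup 2 ↥T) {W : Subgroup G}
    (hW : W ∈ Jset T X Ws E) :
    ∃ K, IsJComponent T K ∧ K ≤ L ∧ wOf K = W ∧
      (∀ t ∈ L, t ∈ normalizer (W : Set G) → t ∈ normalizer (K : Set G)) ∧
      ∃ x, Good L X E W x ∧ orderOf x = 3 ∧ K = oc (Qk L ⊔ zpowers x) := by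
  haveI : Fact (Nat.Prime 3) := ⟨Nat.prime_three⟩
  obtain ⟨A, hA, a, haA, haE, haX, x, hxo, hax, hgood⟩ := o.exists_good hW
  have hWs := hW.1
  obtain ⟨hxE, hxX, hx3, -⟩ := id hgood
  have ha2 : a * a = 1 := isElementaryAbelian_two_sq hA.2.1 haA
  have haJ : a ∈ Jt T := hA.le_J haA
  have hxL : x ∈ L := o.blocks.E_le W hWs hxE
  set Q := Qk L with hQdef
  set H0 := Q ⊔ zpowers x with hH0
  have hQn : L ≤ normalizer (Q : Set G) := le_normalizer_pCoreOf 2 L
  have hH0L : H0 ≤ L := sup_le (pCoreOf_le 2 L) (zpowers_le.2 hxL)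
  have hQp : IsPGroup 2 ↥Q := isPGroup_pCoreOf 2 L
  obtain ⟨n, hn⟩ := IsPGroup.iff_card.1 hQp
  have hdisj : Q ⊓ zpowers x = ⊥ := (eq_bot_iff_forall _).2 fun y hy =>
    eq_one_of_mem_pgroup hQp hy.1 (by
      have hd : orderOf y ∣ 3 := by
        have h := (zpowers x).orderOf_dvd_natCard hy.2
        rwa [Nat.card_zpowers, hxo] at h
      exact Nat.Coprime.coprime_dvd_left hd (by norm_num))
  have hH0card : Nat.card H0 = 3 * Nat.card Q := by
    have h := card_sup_mul_inf (A := Q) (B := zpowers x) (zpowers_le.2 (hQn hxL))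
    rw [hdisj, card_bot, mul_one, Nat.card_zpowers, hxo] at h
    rw [h, mul_comm]
  have hH0X : H0 ⊓ X ≤ Q := by
    have hle : Q ≤ H0 ⊓ X := le_inf le_sup_left o.Q_le
    have h1 := card_mul_relIndex' hle
    have h2 := card_mul_relIndex' (inf_le_left : H0 ⊓ X ≤ H0)
    rw [← h1, hH0card, mul_assoc, mul_comm 3] at h2
    have h3 : Q.relIndex (H0 ⊓ X) * (H0 ⊓ X).relIndex H0 = 3 :=
      Nat.eq_of_mul_eq_mul_left Nat.card_pos h2
    rcases (Nat.dvd_prime Nat.prime_three).1 ⟨_, h3.symm⟩ with h | h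
    · exact relIndex_eq_one.1 h
    · exfalso
      rw [h] at h3
      have h4 : (H0 ⊓ X).relIndex H0 = 1 := by omega
      exact hxX (relIndex_eq_one.1 h4 (mem_sup_right (mem_zpowers x))).2
  have hH0syl : ∀ y ∈ H0, orderOf y = 3 → IsSylIn 3 (zpowers y) H0 := by
    intro y hy hyo
    refine isSylIn_of_not_dvd (IsPGroup.of_card (n := 1)
      (by rw [Nat.card_zpowers, hyo, pow_one])) (zpowers_le.2 hy) ?_
    have h := card_mul_relIndex' (zpowers_le.2 hy : zpowers y ≤ H0)
    rw [Nat.card_zpowers, hyo, hH0card, Nat.mul_left_cancel_iff (by norm_num), hn] at h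
    rw [h]
    intro hd
    have := Nat.prime_three.dvd_of_dvd_pow hd
    norm_num at this
  have hxH0 : x ∈ H0 := mem_sup_right (mem_zpowers x)
  have hodd3 : ∀ y ∈ H0, Odd (orderOf y) → y ^ 3 = 1 := by
    intro y hy ho
    have hnorm : H0 ≤ normalizer (Q : Set G) := hH0L.trans hQn
    haveI : (Q.subgroupOf H0).Normal := normal_subgroupOf_of_le_normalizer hnorm
    have h := pow_index_mem (Q.subgroupOf H0) (⟨y, hy⟩ : H0)
    have hi : (Q.subgroupOf H0).index = 3 := by
      have h := card_mul_relIndex' (le_sup_left : Q ≤ H0)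
      rw [hH0card, mul_comm 3] at h
      exact Nat.eq_of_mul_eq_mul_left Nat.card_pos h
    rw [hi, mem_subgroupOf] at h
    exact eq_one_of_mem_pgroup hQp h
      (Nat.Coprime.coprime_dvd_left (orderOf_pow_dvd 3) (Nat.coprime_two_right.2 ho))
  set K := oc H0 with hKdef
  have hKH : K ≤ H0 := oc_le H0
  have hKL : K ≤ L := hKH.trans hH0L
  have hxK : x ∈ K := subset_closure ⟨hxH0, by rw [hxo]; decide⟩
  have hQK : Q ≤ normalizer (K : Set G) := fun q hq => by
    rw [← cjg_eq_self, hKdef, cjg_oc, cjg_eq_self.2 (le_normalizer (mem_sup_left hq))]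
  -- elements of `L` fixing `W` normalise `K`
  have hstab : ∀ t ∈ L, t ∈ normalizer (W : Set G) → t ∈ normalizer (K : Set G) := by
    intro t ht htW
    rw [← cjg_eq_self, hKdef, cjg_oc, cjg_eq_self.2 (o.span_norm hWs hgood ht htW)]
  have hJK : Jt T ≤ normalizer (K : Set G) := fun j hj =>
    hstab j (o.J_le_L hj) (o.Pl_fix hWs (o.J_le_Pl hj))
  -- a subgroup normalised by `H₀` containing `x` contains `K`
  have hind : ∀ H : Subgroup G, x ∈ H → H0 ≤ normalizer (H : Set G) → K ≤ H := by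
    intro H hxH hn
    rw [hKdef, oc, closure_le]
    rintro y ⟨hy, hyo⟩
    rcases eq_or_ne y 1 with rfl | hy1
    · exact one_mem _
    obtain ⟨g, hg, he⟩ := (hH0syl x hxH0 hxo).exists_conj
      (hH0syl y hy (orderOf_eq_prime (hodd3 y hy hyo) hy1))
    obtain ⟨u, hu, huy⟩ := (he.ge (mem_zpowers y) : y ∈ cjg g (zpowers x))
    rw [← huy]
    exact conj_mem_normalizer (hn hg) (zpowers_le.2 hxH hu)
  have hKQ : K ⊔ Q = H0 := le_antisymm (sup_le hKH le_sup_left)
    (sup_le le_sup_right ((zpowers_le.2 hxK).trans le_sup_left))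
  have hKcard : Nat.card K = 3 * Nat.card ↥(K ⊓ Q) := by
    have h := card_sup_mul_inf (A := K) (B := Q) hQK
    rw [hKQ, hH0card] at h
    have h' : Nat.card Q * (3 * Nat.card ↥(K ⊓ Q)) = Nat.card Q * Nat.card K := by
      linear_combination h
    exact (Nat.eq_of_mul_eq_mul_left Nat.card_pos h').symm
  have hcore : pCoreOf 2 K = K ⊓ Q := by
    refine le_antisymm (le_inf (pCoreOf_le 2 K) fun u hu => ?_) ?_
    · have huH := hKH (pCoreOf_le 2 K hu)
      haveI : (Q.subgroupOf H0).Normal := normal_subgroupOf_of_le_normalizer (hH0L.trans hQn)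
      have h := pow_index_mem (Q.subgroupOf H0) (⟨u, huH⟩ : H0)
      have hi : (Q.subgroupOf H0).index = 3 := by
        have h := card_mul_relIndex' (le_sup_left : Q ≤ H0)
        rw [hH0card, mul_comm 3] at h
        exact Nat.eq_of_mul_eq_mul_left Nat.card_pos h
      rw [hi, mem_subgroupOf] at h
      obtain ⟨k, hk⟩ := (isPGroup_pCoreOf 2 K) ⟨u, hu⟩
      obtain ⟨m, hm⟩ := exists_pow_eq_self_of_coprime (x := u) (n := 3)
        (Nat.Coprime.coprime_dvd_right (orderOf_dvd_of_pow_eq_one (congrArg Subtype.val hk))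
          (Nat.Coprime.pow_right k (by norm_num)))
      rw [← hm]
      exact pow_mem h m
    · exact le_pCoreOf inf_le_left ((le_inf le_normalizer (hKL.trans hQn)).trans
        (normalizer_inf_le_normalizer_inf _ _)) (hQp.to_le inf_le_right)
  have hgen : closure {g : G | g ∈ K ∧ Odd (orderOf g)} = K := by
    refine le_antisymm ((closure_le K).2 fun g hg => hg.1) ?_
    nth_rewrite 1 [hKdef]
    exact closure_mono fun g hg => ⟨subset_closure hg, hg.2⟩
  have hcomm : ⁅K, Jt T⁆ = K := by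
    refine le_antisymm ?_ (hind _ ?_ (sup_le ?_ (zpowers_le.2 ?_)))
    · rw [commutator_le]
      intro k hk j hj
      rw [commutatorElement_def, show k * j * k⁻¹ * j⁻¹ = k * (j * k⁻¹ * j⁻¹) by group]
      exact mul_mem hk (conj_mem_normalizer (hJK hj) (inv_mem hk))
    · have h : ⁅x, a⁆ ∈ ⁅K, Jt T⁆ := commutator_mem_commutator hxK haJ
      have e : a * x⁻¹ * a⁻¹ = x := by
        rw [show a * x⁻¹ * a⁻¹ = (a * x * a⁻¹)⁻¹ by group, hax, inv_inv]
      rw [commutatorElement_def, show x * a * x⁻¹ * a⁻¹ = x * (a * x⁻¹ * a⁻¹) by group, e] at h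
      have hx3' : x * x * x = 1 := by
        have := pow_orderOf_eq_one x
        rwa [hxo, pow_succ, pow_two] at this
      have := inv_mem h
      rwa [show (x * x)⁻¹ = x from inv_eq_of_mul_eq_one_right hx3'] at this
    · exact (le_inf hQK ((o.Q_le_T).trans (le_normalizer_J T))).trans
        (normalizer_inf_le_normalizer_commutator _ _)
    · exact normalizer_commutator_ge_left K (Jt T) hxK
  -- the four-group
  set U := omegaCenterOf (pCoreOf 2 K) with hU
  have hUe : IsElementaryAbelian 2 U := elem_omegaCenterOf _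
  have hUQ : U ≤ Q := (omegaCenterOf_le _).trans (hcore.le.trans inf_le_right)
  have hQU : ∀ q ∈ K ⊓ Q, ∀ u ∈ U, q * u = u * q :=
    fun q hq u hu => (mem_omegaCenterOf.1 hu).2.1 q (hcore.ge hq)
  have hKUn : K ≤ normalizer (U : Set G) := le_normalizer.trans
    ((normalizer_le_normalizer_Qk K).trans (normalizer_le_normalizer_omegaCenterOf _))
  have hxU : ∀ u ∈ U, x * u * x⁻¹ ∈ U := fun u hu => conj_mem_normalizer (hKUn hxK) hu
  let phi : U →* G :=
    { toFun := fun u => x * u * x⁻¹ * u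
      map_one' := by simp
      map_mul' := fun u v => by
        have e := isElementaryAbelian_two_comm hUe u.2 (hxU v v.2)
        show x * ((u : G) * v) * x⁻¹ * ((u : G) * v) = _
        calc x * ((u : G) * v) * x⁻¹ * ((u : G) * v)
            = x * u * x⁻¹ * ((x * v * x⁻¹) * u) * v := by group
          _ = _ := by rw [← e]; group }
  have hphiU : phi.range ≤ U := by
    rintro _ ⟨u, rfl⟩
    exact mul_mem (hxU u u.2) u.2
  have hWR : wOf K ≤ phi.range := by
    have hRn : K ≤ normalizer (phi.range : Set G) := by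
      have hle : (K ⊓ Q) ⊔ zpowers x = K := by
        refine eq_of_le_of_card_ge (sup_le inf_le_left (zpowers_le.2 hxK)) ?_
        have h := card_sup_mul_inf (A := K ⊓ Q) (B := zpowers x)
          ((zpowers_le.2 ((le_inf le_normalizer (hKL.trans hQn)).trans
            (normalizer_inf_le_normalizer_inf _ _) hxK)))
        have h0 : K ⊓ Q ⊓ zpowers x = ⊥ := le_bot_iff.1 (hdisj ▸ inf_le_inf_right _ inf_le_right)
        rw [h0, card_bot, mul_one, Nat.card_zpowers, hxo] at h
        rw [h, hKcard, mul_comm]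
      rw [← hle]
      refine sup_le (fun q hq => ?_) (zpowers_le.2 ?_)
      · refine mem_normalizer_of_cjg_le ?_
        rintro _ ⟨r, hr, rfl⟩
        rw [MulEquiv.coe_toMonoidHom, MulAut.conj_apply, hQU q hq r (hphiU hr),
          mul_inv_cancel_right]
        exact hr
      · refine mem_normalizer_of_cjg_le ?_
        rintro _ ⟨_, ⟨u, rfl⟩, rfl⟩
        refine ⟨⟨x * u * x⁻¹, hxU u u.2⟩, ?_⟩
        show x * (x * u * x⁻¹) * x⁻¹ * (x * u * x⁻¹) = x * (x * u * x⁻¹ * u) * x⁻¹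
        group
    rw [wOf, commutator_le]
    intro u hu
    let Hk : Subgroup G :=
      { carrier := {k | k ∈ K ∧ ∀ u ∈ U, ⁅u, k⁆ ∈ phi.range}
        one_mem' := ⟨one_mem _, fun u _ => by rw [commutatorElement_one_right]; exact one_mem _⟩
        mul_mem' := fun {g h} hg hh => ⟨mul_mem hg.1 hh.1, fun u hu => by
          rw [show ⁅u, g * h⁆ = ⁅u, g⁆ * (g * ⁅u, h⁆ * g⁻¹) by
            simp only [commutatorElement_def]; group]
          exact mul_mem (hg.2 u hu) (conj_mem_normalizer (hRn hg.1) (hh.2 u hu))⟩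
        inv_mem' := fun {g} hg => ⟨inv_mem hg.1, fun u hu => by
          rw [show ⁅u, g⁻¹⁆ = g⁻¹ * ⁅u, g⁆⁻¹ * g⁻¹⁻¹ by
            simp only [commutatorElement_def]; group]
          exact conj_mem_normalizer (hRn (inv_mem hg.1)) (inv_mem (hg.2 u hu))⟩ }
    have hxHk : x ∈ Hk := ⟨hxK, fun v hv => ⟨⟨v, hv⟩, by
      show x * v * x⁻¹ * v = ⁅v, x⁆
      have hvi : v⁻¹ = v := inv_eq_of_mul_eq_one_right (isElementaryAbelian_two_sq hUe hv)
      rw [commutatorElement_def, hvi, isElementaryAbelian_two_comm hUe (hxU v hv) hv]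
      group⟩⟩
    have hQHk : ∀ q ∈ K ⊓ Q, q ∈ Hk := fun q hq => ⟨hq.1, fun v hv => by
      rw [commutatorElement_eq_one_iff_mul_comm.2 (hQU q hq v hv).symm]
      exact one_mem _⟩
    have hKHk : K ≤ Hk := by
      intro k hk
      have hn' : zpowers x ≤ normalizer ((K ⊓ Q : Subgroup G) : Set G) := zpowers_le.2
        ((le_inf le_normalizer (hKL.trans hQn)).trans (normalizer_inf_le_normalizer_inf _ _) hxK)
      have hsup : k ∈ (K ⊓ Q) ⊔ zpowers x := by
        have hle : (K ⊓ Q) ⊔ zpowers x = K := by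
          refine eq_of_le_of_card_ge (sup_le inf_le_left (zpowers_le.2 hxK)) ?_
          have h := card_sup_mul_inf hn'
          have h0 : K ⊓ Q ⊓ zpowers x = ⊥ := le_bot_iff.1 (hdisj ▸ inf_le_inf_right _ inf_le_right)
          rw [h0, card_bot, mul_one, Nat.card_zpowers, hxo] at h
          rw [h, hKcard, mul_comm]
        rw [hle]; exact hk
      obtain ⟨q, hq, y, hy, rfl⟩ := exists_mul_of_le_normalizer hn' hsup
      exact mul_mem (hQHk q hq) (zpowers_le.2 hxHk hy)
    intro k hk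
    exact (hKHk hk).2 u hu
  have hx3' : x * x * x = 1 := by
    have := pow_orderOf_eq_one x
    rwa [hxo, pow_succ, pow_two] at this
  have hfixU1 : ∀ v ∈ wOf K, x * v = v * x → v = 1 := by
    intro v hv hxv
    obtain ⟨u, hu⟩ := hWR hv
    have hu' : x * (u : G) * x⁻¹ * u = v := hu
    have e : x * (u : G) * x⁻¹ = v * u := by
      rw [← hu', mul_assoc _ (u : G) (u : G), isElementaryAbelian_two_sq hUe u.2, mul_one]
    have ev : x * v * x⁻¹ = v := by rw [hxv, mul_inv_cancel_right]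
    have f : ∀ w, x * (v * w) * x⁻¹ = v * (x * w * x⁻¹) := fun w => by
      calc x * (v * w) * x⁻¹ = (x * v * x⁻¹) * (x * w * x⁻¹) := by group
        _ = _ := by rw [ev]
    have e3 : v * (v * (v * (u : G))) = u := by
      calc v * (v * (v * (u : G))) = x * (x * (x * (u : G) * x⁻¹) * x⁻¹) * x⁻¹ := by
            rw [e, f, e, f, f, e]
        _ = (x * x * x) * (u : G) * (x * x * x)⁻¹ := by group
        _ = u := by rw [hx3']; group
    have hv2 : v * v = 1 := isElementaryAbelian_two_sq hUe (wOf_le_omega K hv)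
    rw [← mul_assoc v v, hv2, one_mul] at e3
    simpa using e3
  -- the module contains `W`
  set U1 := wOf K with hU1
  have hU1e : IsElementaryAbelian 2 U1 := IsElementaryAbelian.mono hUe (wOf_le_omega K)
  have hc4 := o.blocks.card_W W hWs
  have hexp := o.wexp hWs
  have hxN := o.blocks.norm W hWs hxE
  have hnfix : ∀ v ∈ W, v ≠ 1 → x * v * x⁻¹ ≠ v := fun v hv hv1 h =>
    hv1 (o.fixed_of_three hWs hxE hxX (o.Q_le hx3) hv (mul_inv_eq_iff_eq_mul.1 h))
  have hWU1 : W ≤ U1 := by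
    obtain ⟨v, hv, hv1, -⟩ := four_exists_other hc4 (1 : G)
    set h := x * v * x⁻¹ * v⁻¹ with hh
    have hhW : h ∈ W := mul_mem (conj_mem_normalizer hxN hv) (inv_mem hv)
    have hh1 : h ≠ 1 := fun e => hnfix v hv hv1 (mul_inv_eq_one.1 e)
    have hvQ : ∀ w ∈ W, w ∈ Q := fun w hw =>
      omegaCenterOf_le _ (o.V_le (o.blocks.le_V W hWs hw))
    have hhK : h ∈ K ⊓ Q := by
      refine ⟨?_, hvQ h hhW⟩
      rw [hh, show x * v * x⁻¹ * v⁻¹ = x * (v * x⁻¹ * v⁻¹) by group]
      exact mul_mem hxK (conj_mem_normalizer (hQK (hvQ v hv)) (inv_mem hxK))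
    have hWK : W ⊓ (K ⊓ Q) = W := four_eq_of_invariant hc4 hexp inf_le_left ⟨hhW, hhK⟩ hh1
      ⟨conj_mem_normalizer hxN hhW, conj_mem_normalizer (le_normalizer hxK) hhK.1,
        conj_mem_normalizer (hQn hxL) hhK.2⟩ (hnfix h hhW hh1)
    have hWU : W ≤ U := fun w hw => mem_omegaCenterOf.2 ⟨hcore.ge (hWK.ge hw).2, fun q hq =>
      (mem_omegaCenterOf.1 (o.V_le (o.blocks.le_V W hWs hw))).2.1 q (hcore.le hq).2, hexp w hw⟩
    have hhw : h ∈ U1 := by
      rw [hU1, wOf, commutator_comm]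
      exact commutator_mem_commutator hxK (hWU hv)
    have hWw : W ⊓ U1 = W := four_eq_of_invariant hc4 hexp inf_le_left ⟨hhW, hhw⟩ hh1
      ⟨conj_mem_normalizer hxN hhW,
        conj_mem_normalizer (normalizer_le_normalizer_wOf K (le_normalizer hxK)) hhw⟩
      (hnfix h hhW hh1)
    exact inf_eq_left.1 hWw
  have haK : a ∈ normalizer (K : Set G) := hJK haJ
  have haU1 : a ∈ normalizer (U1 : Set G) := normalizer_le_normalizer_wOf K haK
  set M := U1 ⊓ centralizer ({a} : Set G) with hM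
  have hU1M : Nat.card U1 ≤ Nat.card M * Nat.card M := card_le_sq_fixed hU1e haU1 ha2
  -- `A₀`
  set A0 := A ⊓ centralizer (W : Set G) with hA0
  have hAW : A ≤ normalizer (W : Set G) := (hA.le_J.trans o.J_le_Pl).trans (o.Pl_fix hWs)
  have hA0card : Nat.card A ≤ 2 * Nat.card A0 := four_index hc4 hexp hA.2.1 hAW
  have hA0K : A0 ≤ normalizer (K : Set G) := (inf_le_left.trans hA.le_J).trans hJK
  have hA0x : ∀ b ∈ A0, b * x * b⁻¹ * x⁻¹ ∈ K ⊓ Q := by
    intro b hb
    have hjK : b * x * b⁻¹ * x⁻¹ ∈ K := mul_mem (conj_mem_normalizer (hA0K hb) hxK) (inv_mem hxK)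
    refine mem_inf.2 ⟨hjK, hH0X (mem_inf.2 ⟨hKH hjK, o.blocks.faithful W hWs (mem_inf.2 ⟨?_, ?_⟩)⟩)⟩
    · have hbE : b ∈ normalizer (E W : Set G) :=
        o.Pl_le_normalizer_E hWs (o.J_le_Pl (hA.le_J hb.1))
      exact mul_mem (conj_mem_normalizer hbE hxE) (inv_mem hxE)
    · intro w hw
      have hxw : x⁻¹ * w * x ∈ W := by
        simpa using conj_mem_normalizer (inv_mem hxN) hw
      have e1 : b * w = w * b := (hb.2 w hw).symm
      have hbC : b ∈ centralizer (W : Set G) := hb.2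
      have e2 : b⁻¹ * (x⁻¹ * w * x) = (x⁻¹ * w * x) * b⁻¹ :=
        ((inv_mem hbC) _ hxw).symm
      calc w * (b * x * b⁻¹ * x⁻¹) = (w * b) * x * b⁻¹ * x⁻¹ := by group
        _ = b * x * ((x⁻¹ * w * x) * b⁻¹) * x⁻¹ := by rw [← e1]; group
        _ = b * x * b⁻¹ * x⁻¹ * w := by rw [← e2]; group
  have hcx : ∀ b ∈ A0, ∀ c ∈ U1, b * c = c * b → b * (x * c * x⁻¹) = x * c * x⁻¹ * b := by
    intro b hb c hc hbc
    have hj := hQU _ (hA0x b hb) _ (hxU c (wOf_le_omega K hc))
    apply mul_inv_eq_iff_eq_mul.1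
    calc b * (x * c * x⁻¹) * b⁻¹
        = (b * x * b⁻¹ * x⁻¹) * x * (b * c * b⁻¹) * x⁻¹ * (b * x * b⁻¹ * x⁻¹)⁻¹ := by group
      _ = (b * x * b⁻¹ * x⁻¹) * (x * c * x⁻¹) * (b * x * b⁻¹ * x⁻¹)⁻¹ := by
          rw [hbc, mul_inv_cancel_right]; group
      _ = x * c * x⁻¹ := by rw [hj, mul_inv_cancel_right]
  have hxU1 : ∀ v ∈ U1, x * v * x⁻¹ ∈ U1 := fun v hv =>
    conj_mem_normalizer (normalizer_le_normalizer_wOf K (le_normalizer hxK)) hv
  -- `M ∩ Mˣ = 1`
  have hMx : M ⊓ cjg x M = ⊥ := (eq_bot_iff_forall _).2 fun v hv => by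
    obtain ⟨hv1, hv2⟩ := hv
    have hva : a * v = v * a := (mem_centralizer_singleton_iff.1 hv1.2).symm
    rw [SetLike.mem_coe] at hv2
    have hv2' := mem_cjg.1 hv2
    have hva2 : a * (x⁻¹ * v * x) * a⁻¹ = x⁻¹ * v * x := by
      rw [(mem_centralizer_singleton_iff.1 hv2'.2).symm, mul_inv_cancel_right]
    refine hfixU1 v hv1.1 ?_
    have e1 : x * v * x⁻¹ = x⁻¹ * v * x := by
      calc x * v * x⁻¹ = (a * x⁻¹ * a⁻¹) * (a * v * a⁻¹) * (a * x⁻¹ * a⁻¹)⁻¹ := by
            rw [show a * x⁻¹ * a⁻¹ = (a * x * a⁻¹)⁻¹ by group, hax, inv_inv, hva,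
              mul_inv_cancel_right]
        _ = a * (x⁻¹ * v * x) * a⁻¹ := by group
        _ = _ := hva2
    have e2 : x * x * v = v * (x * x) := by
      calc x * x * v = x * (x * v * x⁻¹) * x := by group
        _ = v * (x * x) := by rw [e1]; group
    calc x * v = (x * x) * ((x * x) * v) := by
          rw [← mul_assoc (x * x) (x * x) v, show x * x * (x * x) = (x * x * x) * x by group, hx3',
            one_mul]
      _ = (x * x) * (v * (x * x)) := by rw [e2]
      _ = ((x * x) * v) * (x * x) := by group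
      _ = v * x := by
          rw [e2, mul_assoc, show x * x * (x * x) = (x * x * x) * x by group, hx3', one_mul]
  have hMxU : cjg x M ≤ U1 := by
    rintro _ ⟨m, hm, rfl⟩
    exact hxU1 m hm.1
  have hcommU1 : ∀ {P R : Subgroup G}, P ≤ U1 → R ≤ U1 → R ≤ normalizer (P : Set G) :=
    fun {P R} hP hR => le_normalizer_of_commute fun p hp r hr =>
      isElementaryAbelian_two_comm hU1e (hP hp) (hR hr)
  have hM2 : Nat.card M * Nat.card M ≤ Nat.card U1 := by
    have h := card_sup_mul_inf (hcommU1 (inf_le_left : M ≤ U1) hMxU)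
    rw [hMx, card_bot, mul_one, card_cjg] at h
    rw [← h]
    exact card_le_of_le (sup_le inf_le_left hMxU)
  have hgenU1 : M ⊔ cjg x M = U1 := by
    refine eq_of_le_of_card_ge (sup_le inf_le_left hMxU) ?_
    have h := card_sup_mul_inf (hcommU1 (inf_le_left : M ≤ U1) hMxU)
    rw [hMx, card_bot, mul_one, card_cjg] at h
    exact hU1M.trans h.ge
  -- the fixed points of `A₀`
  set C := U1 ⊓ centralizer (A0 : Set G) with hC
  have hCe : IsElementaryAbelian 2 C := IsElementaryAbelian.mono hU1e inf_le_left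
  have hCa : a ∈ normalizer (C : Set G) := by
    refine (normalizer_inf_le_normalizer_inf U1 _) ⟨haU1, ?_⟩
    refine normalizer_le_normalizer_centralizer' A0 (centralizer_le_normalizer _ ?_)
    exact fun b hb => isElementaryAbelian_two_comm hA.2.1 hb.1 haA
  set Ca := C ⊓ centralizer ({a} : Set G) with hCadef
  have hCsq : Nat.card C ≤ Nat.card Ca * Nat.card Ca := card_le_sq_fixed hCe hCa ha2
  have hCxC : cjg x Ca ≤ C := by
    rintro _ ⟨c, hc, rfl⟩
    exact ⟨hxU1 c hc.1.1, fun b hb => hcx b hb c hc.1.1 (hc.1.2 b hb)⟩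
  have hC2 : Nat.card Ca * Nat.card Ca ≤ Nat.card C := by
    have hCaM : Ca ≤ M := le_inf (inf_le_left.trans inf_le_left) inf_le_right
    have h := card_sup_mul_inf (hcommU1 (inf_le_left.trans inf_le_left : Ca ≤ U1)
      ((hCxC.trans inf_le_left) : cjg x Ca ≤ U1))
    have h0 : Ca ⊓ cjg x Ca = ⊥ :=
      le_bot_iff.1 (hMx ▸ inf_le_inf hCaM (cjg_mono hCaM))
    rw [h0, card_bot, mul_one, card_cjg] at h
    rw [← h]
    exact card_le_of_le (sup_le inf_le_left hCxC)
  have hU1T : U1 ≤ T := (wOf_le_omega K).trans (hUQ.trans o.Q_le_T)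
  have hA0T : A0 ≤ T := inf_le_left.trans hA.1
  have hCa2 : Nat.card Ca ≤ 2 := by
    have hcm : A0 ≤ centralizer (C : Set G) := le_centralizer_iff.1 inf_le_right
    have hAC : IsElementaryAbelian 2 (A0 ⊔ C) :=
      IsElementaryAbelian.sup (IsElementaryAbelian.mono hA.2.1 inf_le_left) hCe hcm
    have h1 := card_le_aOrd (sup_le hA0T (inf_le_left.trans hU1T)) hAC
    rw [← hA.card] at h1
    have h2 := card_sup_mul_inf (le_normalizer_of_commute (A := A0) (B := C)
      fun b hb c hc => hc.2 b hb)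
    have h3 : Nat.card ↥(A0 ⊓ C) ≤ Nat.card Ca := card_le_of_le fun v hv =>
      ⟨hv.2, mem_centralizer_singleton_iff.2 (isElementaryAbelian_two_comm hA.2.1 hv.1.1 haA)⟩
    have h4 : Nat.card A0 * Nat.card C ≤ Nat.card A0 * (2 * Nat.card Ca) := by
      rw [← h2]
      calc _ ≤ (2 * Nat.card A0) * Nat.card Ca := Nat.mul_le_mul (h1.trans hA0card) h3
        _ = _ := by ring
    have h5 := hC2.trans (Nat.le_of_mul_le_mul_left h4 Nat.card_pos)
    exact Nat.le_of_mul_le_mul_right h5 Nat.card_pos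
  have hA0M : A0 ≤ normalizer (M : Set G) := by
    refine (le_inf ?_ ?_).trans (normalizer_inf_le_normalizer_inf _ _)
    · exact hA0K.trans (normalizer_le_normalizer_wOf K)
    · rw [← centralizer_closure]
      refine le_trans ?_ (normalizer_le_normalizer_centralizer' _)
      refine le_trans (fun b hb => ?_) (centralizer_le_normalizer _)
      rw [centralizer_closure]
      exact mem_centralizer_singleton_iff.2 (isElementaryAbelian_two_comm hA.2.1 hb.1 haA)
  have hMne : M ≠ ⊥ := by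
    intro h0
    rw [h0, card_bot, mul_one] at hU1M
    have := (card_le_of_le hWU1).trans hU1M
    omega
  obtain ⟨z, hzM, hzo, hzc⟩ := exists_order_prime_central (p := 2)
    (IsPGroup.to_sup_of_normal_right' (hT.to_le hA0T)
      ((hT.to_le hU1T).to_le inf_le_left) hA0M)
    le_sup_right (sup_le hA0M le_normalizer) hMne
  have hz1 : z ≠ 1 := by rintro rfl; rw [orderOf_one] at hzo; omega
  have hzCa : z ∈ Ca := ⟨⟨hzM.1, fun b hb => hzc b (mem_sup_left hb)⟩, hzM.2⟩
  have hCaz : ∀ v ∈ Ca, v = 1 ∨ v = z := by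
    intro v hv
    by_contra h
    push Not at h
    classical
    have hs : ({1, z, v} : Finset G) ⊆ (Ca : Set G).toFinite.toFinset := by
      intro u hu
      simp only [Finset.mem_insert, Finset.mem_singleton] at hu
      rw [Set.Finite.mem_toFinset]
      rcases hu with rfl | rfl | rfl
      exacts [one_mem _, hzCa, hv]
    have hc3 : ({1, z, v} : Finset G).card = 3 := by
      rw [Finset.card_insert_of_notMem (by simp [hz1.symm, Ne.symm h.1]),
        Finset.card_insert_of_notMem (by simp [Ne.symm h.2]), Finset.card_singleton]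
    have := Finset.card_le_card hs
    rw [hc3, ← Set.ncard_eq_toFinset_card _ _, ← Nat.card_coe_set_eq] at this
    exact absurd (this.trans hCa2) (by norm_num)
  have htrans := card_transvections (A0 := A0) (M := M) (z := z)
    (IsElementaryAbelian.mono hA.2.1 inf_le_left) (IsElementaryAbelian.mono hU1e inf_le_left)
    hA0M hzM hz1 (fun b hb => hzc b (mem_sup_left hb))
    (fun m hm hmf => hCaz m ⟨⟨hm.1, fun b hb => hmf b hb⟩, hm.2⟩)
  set A1 := A0 ⊓ centralizer (M : Set G) with hA1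
  have hA1U1 : A1 ≤ centralizer (U1 : Set G) := by
    rw [← hgenU1, le_centralizer_iff]
    refine sup_le (le_centralizer_iff.1 inf_le_right) ?_
    rintro _ ⟨m, hm, rfl⟩ b hb
    exact hcx b hb.1 m hm.1 (hb.2 m hm).symm
  have hU14 : Nat.card U1 ≤ 4 := by
    have hAC : IsElementaryAbelian 2 (A1 ⊔ U1) :=
      IsElementaryAbelian.sup (IsElementaryAbelian.mono hA.2.1 (inf_le_left.trans inf_le_left))
        hU1e hA1U1
    have h1 := card_le_aOrd (sup_le (inf_le_left.trans hA0T) hU1T) hAC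
    rw [← hA.card] at h1
    have h2 := card_sup_mul_inf (le_normalizer_of_commute (A := A1) (B := U1)
      fun b hb c hc => (hA1U1 hb c hc).symm)
    have h3 : Nat.card ↥(A1 ⊓ U1) ≤ 2 := (card_le_of_le fun v (hv : v ∈ A1 ⊓ U1) =>
      (⟨⟨hv.2, fun b hb => isElementaryAbelian_two_comm hA.2.1 hb.1 hv.1.1.1⟩,
        mem_centralizer_singleton_iff.2 (isElementaryAbelian_two_comm hA.2.1 hv.1.1.1 haA)⟩ :
        v ∈ Ca)).trans hCa2
    have h4 : Nat.card A1 * Nat.card U1 ≤ Nat.card A1 * (2 * Nat.card M) := by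
      rw [← h2]
      calc _ ≤ (2 * Nat.card A0) * 2 := Nat.mul_le_mul (h1.trans hA0card) h3
        _ ≤ (Nat.card M * Nat.card A1) * 2 := Nat.mul_le_mul_right _ htrans
        _ = _ := by ring
    have h5 := Nat.le_of_mul_le_mul_left h4 Nat.card_pos
    have h6 : Nat.card M ≤ 2 := Nat.le_of_mul_le_mul_right (hM2.trans h5) Nat.card_pos
    omega
  have hU1W : U1 = W := (eq_of_le_of_card_ge hWU1 (hU14.trans hc4.ge)).symm
  refine ⟨K, ⟨hgen, hcomm, ?_, fun S hS hJS => ?_, (congrArg (fun H : Subgroup G => Nat.card H) hU1W).trans hc4, ?_⟩, hKL, hU1W,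
    hstab, x, hgood, hxo, rfl⟩
  · rw [hcore]
    have h := card_mul_relIndex' (inf_le_left : K ⊓ Q ≤ K)
    rw [hKcard, mul_comm 3] at h
    exact Nat.eq_of_mul_eq_mul_left Nat.card_pos h
  · have hSL : S ≤ L := hS.1.trans (sup_le hKL o.J_le_L)
    obtain ⟨T', hT', hle⟩ := exists_sylowTwo_ge hS.2.1 hSL
    have hJ' := J_eq_of_sylow o.syl hT' (hJS.trans hle)
    show Jt S = Jt T
    rw [← hJ']
    exact J_eq_of_le_of_le (hJ'.le.trans hJS) hle
  · intro w hw
    exact isElementaryAbelian_two_sq hU1e hw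

theorem exists_comp (o : Ovg T L V X Ws E) (hT : IsPGroup 2 ↥T) {W : Subgroup G}
    (hW : W ∈ Jset T X Ws E) :
    ∃ K, IsJComponent T K ∧ K ≤ L ∧ wOf K = W :=
  let ⟨K, h1, h2, h3, _⟩ := o.exists_comp' hT hW
  ⟨K, h1, h2, h3⟩

theorem Jset_nonempty (o : Ovg T L V X Ws E) (hT : IsPGroup 2 ↥T) :
    (Jset T X Ws E).Nonempty := by
  by_contra h
  rw [Set.not_nonempty_iff_eq_empty] at h
  refine o.nJ (o.two _ (isPGroup_J hT) (o.J_le_of_witness inf_le_left fun W hW => ?_))
  rw [h] at hW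
  exact absurd hW (Set.notMem_empty W)

/-- If all components of `L` and `N_L(J)` lie in `M`, then so does `L`. -/
theorem le_of_comps (o : Ovg T L V X Ws E) (z : ZN G) (hT : IsPGroup 2 ↥T) (hT1 : T ≠ ⊥)
    {M : Subgroup G} (hN : L ⊓ normalizer (Jt T : Set G) ≤ M)
    (hcomp : ∀ K, IsJComponent T K → K ≤ L → K ≤ M) : L ≤ M := by
  have hXM : X ≤ M := (le_inf o.X_le o.normJ).trans hN
  have hJM : Jt T ≤ M := (le_inf o.J_le_L le_normalizer).trans hN
  have hPM : Pl T X Ws E ≤ M := by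
    refine sup_le hXM (iSup₂_le fun W hW => ?_)
    obtain ⟨hWs, A, hA, a, ha, haE, haX⟩ := id hW
    obtain ⟨K, hK, hKL, hKW⟩ := o.exists_comp hT hW
    obtain ⟨W', hW', hWe, hKD, -, -⟩ := o.comp_data z hT hT1 hK hKL
    have hWW : W' = W := hWe.symm.trans hKW
    rw [hWW] at hKD
    obtain ⟨x, hx, hxo⟩ := comp_exists_three hK
    have hxX : x ∉ X := fun h => o.comp_not_le_X hK
      (comp_induct hK hx hxo h (hKL.trans o.X_norm))
    obtain ⟨hxE, hx3⟩ := (o.mem_Dm hWs).1 (hKD hx)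
    have hD : Dm X E W ≤ M := by
      rw [o.Dm_eq hWs hxE hxX hx3]
      exact sup_le hXM (zpowers_le.2 (hcomp K hK hKL hx))
    intro y hy
    by_cases hyD : y ∈ Dm X E W
    · exact hD hyD
    have ha2 : a * a ∈ X := by rw [isElementaryAbelian_two_sq hA.2.1 ha]; exact one_mem _
    have h1 := o.Dm_mul_mem hWs haE hy (o.not_mem_Dm hWs haX ha2) hyD
    have := mul_mem (inv_mem (hJM (hA.le_J ha))) (hD h1)
    rwa [inv_mul_cancel_left] at this
  obtain ⟨P1, -, -, -, hmin, hfr⟩ := o.frattini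
  intro g hg
  obtain ⟨p, hp, n, hnL, hn, rfl⟩ := hfr g hg
  exact mul_mem (hPM (hmin _ (sup_le le_sup_left o.J_le_Pl) o.Pl_norm hp)) (hN ⟨hnL, hn⟩)

end Ovg

end Cfsg.Agent.JComp
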