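import Cfsg.Agent.Lib.JComp.Overgroup

/-!
Subnormality of the components of an overgroup.
-/

set_option autoImplicit false
set_option linter.unusedSectionVars false
set_option linter.style.haveILetI false

namespace Cfsg.Agent.JComp

open Subgroup Cfsg Cfsg.Agent.CharP

variable {G : Type*} [Group G] [Finite G]

theorem subgroupOf_normal_of_le {A B C : Subgroup G} (hAB : A ≤ B) (hBC : B ≤ C)
    (h : B ≤ normalizer (A : Set G)) : ((A.subgroupOf C).subgroupOf (B.subgroupOf C)).Normal := by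
  exact (normal_subgroupOf_iff_le_normalizer
    (show A.subgroupOf C ≤ B.subgroupOf C from comap_mono hAB)).2
    fun b hb => le_normalizer_comap C.subtype (h (mem_subgroupOf.1 hb))

namespace Ovg

variable {T L V X : Subgroup G} {Ws : Set (Subgroup G)} {E : Subgroup G → Subgroup G}

theorem comp_isSubnormal (o : Ovg T L V X Ws E) (z : ZN G) (hT : IsPGroup 2 ↥T) (hT1 : T ≠ ⊥)
    {K : Subgroup G} (hK : IsJComponent T K) (hKL : K ≤ L) :
    (K.subgroupOf L).IsSubnormal := by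
  obtain ⟨W, hW, hWe, hKD, -, -⟩ := o.comp_data z hT hT1 hK hKL
  have hDE := o.Dm_le hW.1
  have hDP : Dm X E W ≤ Pl T X Ws E :=
    hDE.trans (le_sup_of_le_right (le_biSup (f := E) hW))
  have hDK : Dm X E W ≤ normalizer (K : Set G) := fun y hy =>
    o.stab_normalizes z hT hT1 hK hKL (o.blocks.E_le W hW.1 (hDE hy))
      (hWe ▸ o.blocks.norm W hW.1 (hDE hy))
  have h1 : ((Pl T X Ws E).subgroupOf L).IsSubnormal :=
    haveI := normal_subgroupOf_of_le_normalizer o.Pl_norm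
    IsSubnormal.step _ ⊤ le_top IsSubnormal.top inferInstance
  have h2 : ((Dm X E W).subgroupOf L).IsSubnormal := IsSubnormal.step _ _ (comap_mono hDP) h1
    (subgroupOf_normal_of_le hDP o.Pl_le (o.Pl_le_normalizer_Dm hW.1))
  exact IsSubnormal.step _ _ (comap_mono hKD) h2
    (subgroupOf_normal_of_le hKD (hDP.trans o.Pl_le) hDK)

theorem comp_normalized_of_central (o : Ovg T L V X Ws E) (z : ZN G) (hT : IsPGroup 2 ↥T)
    (hT1 : T ≠ ⊥) {K : Subgroup G} (hK : IsJComponent T K) (hKL : K ≤ L)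
    (hZW : T ⊓ centralizer (T : Set G) ⊓ wOf K ≠ ⊥) : T ≤ normalizer (K : Set G) := by
  obtain ⟨W, hW, hWe, -⟩ := o.comp_data z hT hT1 hK hKL
  obtain ⟨v, ⟨hv, hvW⟩, hv1⟩ := (bot_or_exists_ne_one _).resolve_left hZW
  intro t ht
  refine o.stab_normalizes z hT hT1 hK hKL (o.syl.1 ht) ?_
  rw [hWe, ← cjg_eq_self]
  by_contra hne
  have h := (o.blocks.sep W hW.1 _ (o.blocks.conj W hW.1 t (o.syl.1 ht)).1 (Ne.symm hne)).1
  refine hv1 (mem_bot.1 (h.le ⟨hWe ▸ hvW, ?_⟩))
  show v ∈ cjg t W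
  rw [mem_cjg]
  have e : t⁻¹ * v * t = v := by
    rw [mul_assoc, ← (hv.2 t ht), inv_mul_cancel_left]
  rw [e]
  exact hWe ▸ hvW

end Ovg

end Cfsg.Agent.JComp
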