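import Cfsg.Agent.Lib.JComp.OverData
import Cfsg.Agent.Lib.JComp.Four
import Cfsg.Agent.S2941

/-!
The J-components inside an overgroup `L` of `T`, in terms of the blocks.
-/

set_option autoImplicit false
set_option linter.unusedSectionVars false
set_option linter.style.haveILetI false

namespace Cfsg.Agent.JComp

open Subgroup Cfsg Cfsg.Agent.CharP Cfsg.Agent.PLocal.ThompsonSubgroup
open scoped commutatorElement

variable {G : Type*} [Group G] [Finite G]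

/-- The closure of the elements of odd order. -/
abbrev oc (H : Subgroup G) : Subgroup G := closure {g : G | g ∈ H ∧ Odd (orderOf g)}

theorem oc_le (H : Subgroup G) : oc H ≤ H := (closure_le H).2 fun _ hg => hg.1

theorem orderOf_conj_eq (g x : G) : orderOf (g * x * g⁻¹) = orderOf x :=
  MulEquiv.orderOf_eq (MulAut.conj g) x

theorem cjg_oc (g : G) (H : Subgroup G) : cjg g (oc H) = oc (cjg g H) := by
  have key : ∀ (g : G) (H : Subgroup G), cjg g (oc H) ≤ oc (cjg g H) := by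
    intro g H
    rw [cjg, oc, MonoidHom.map_closure, closure_le]
    rintro _ ⟨x, ⟨hx, ho⟩, rfl⟩
    refine subset_closure ⟨⟨x, hx, rfl⟩, ?_⟩
    rwa [MulEquiv.coe_toMonoidHom, MulAut.conj_apply, orderOf_conj_eq]
  refine le_antisymm (key g H) ?_
  have h := cjg_mono (g := g) (key g⁻¹ (cjg g H))
  rwa [cjg_inv_cjg', cjg_inv_cjg] at h

theorem comp_inf_le_Qk {T K H : Subgroup G} (hK : IsJComponent T K)
    (hn : K ≤ normalizer (H : Set G)) (hne : ¬ K ≤ H) : K ⊓ H ≤ Qk K := by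
  refine comp_two_le hK ?_ inf_le_left
  rw [IsPGroup.iff_orderOf]
  rintro ⟨y, hyK, hyH⟩
  obtain ⟨n, hn'⟩ := comp_card_Qk hK
  have h3 : (y ^ 2 ^ n) ^ 3 = 1 := by
    rw [← pow_mul, mul_comm, pow_mul]
    have := pow_card_eq_one' (x := (⟨y ^ 3, comp_pow3 hK hyK⟩ : Qk K))
    rw [hn'] at this
    exact congrArg Subtype.val this
  have h1 : y ^ 2 ^ n = 1 := by
    by_contra hne1
    exact hne (comp_induct hK (pow_mem hyK _) (orderOf_eq_prime h3 hne1) (pow_mem hyH _) hn)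
  obtain ⟨i, -, hi⟩ := (Nat.dvd_prime_pow Nat.prime_two).1 (orderOf_dvd_of_pow_eq_one h1)
  exact ⟨i, by rw [← orderOf_coe]; exact hi⟩

/-- The subgroup of index two of a block. -/
abbrev Dm (X : Subgroup G) (E : Subgroup G → Subgroup G) (W : Subgroup G) : Subgroup G :=
  X ⊔ closure {y | y ∈ E W ∧ y * y * y ∈ X}

/-- The blocks moved by `J(T)`. -/
abbrev Jset (T X : Subgroup G) (Ws : Set (Subgroup G)) (E : Subgroup G → Subgroup G) :
    Set (Subgroup G) :=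
  {W | W ∈ Ws ∧ ∃ A, MaxEA T A ∧ ∃ a ∈ A, a ∈ E W ∧ a ∉ X}

/-- The normal subgroup of `L` spanned by the blocks moved by `J(T)`. -/
abbrev Pl (T X : Subgroup G) (Ws : Set (Subgroup G)) (E : Subgroup G → Subgroup G) : Subgroup G :=
  X ⊔ ⨆ W ∈ Jset T X Ws E, E W

/-- An element of order three modulo `O₂(L)` of a block, inverted by an involution of the block. -/
def Good (L X : Subgroup G) (E : Subgroup G → Subgroup G) (W : Subgroup G) (x : G) : Prop :=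
  x ∈ E W ∧ x ∉ X ∧ x * x * x ∈ Qk L ∧ ∃ a, a ∈ E W ∧ a ∉ X ∧ a * a ∈ X ∧
    (∀ ξ ∈ X, ⁅ξ, a⁆ ∈ Qk L) ∧ a * x * a⁻¹ * x ∈ Qk L

namespace Ovg

variable {T L V X : Subgroup G} {Ws : Set (Subgroup G)} {E : Subgroup G → Subgroup G}

theorem wexp (o : Ovg T L V X Ws E) {W : Subgroup G} (hW : W ∈ Ws) : ∀ w ∈ W, w * w = 1 :=
  fun _ hw => (mem_omegaCenterOf.1 (o.V_le (o.blocks.le_V W hW hw))).2.2

theorem X_le_centW (o : Ovg T L V X Ws E) {W : Subgroup G} (hW : W ∈ Ws) :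
    X ≤ centralizer (W : Set G) :=
  o.X_cent.trans (centralizer_le (o.blocks.le_V W hW))

theorem E_norm_X (o : Ovg T L V X Ws E) {W : Subgroup G} (hW : W ∈ Ws) :
    E W ≤ normalizer (X : Set G) := (o.blocks.E_le W hW).trans o.X_norm

theorem Q_le_T (o : Ovg T L V X Ws E) : Qk L ≤ T :=
  pCoreOf_le_of_isSylIn (isSylowTwoIn_iff.1 o.syl)

theorem fixed_of_three (o : Ovg T L V X Ws E) {W : Subgroup G} (hW : W ∈ Ws) {y : G}
    (hy : y ∈ E W) (hyX : y ∉ X) (h3 : y * y * y ∈ X) {w : G} (hw : w ∈ W)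
    (hc : y * w = w * y) : w = 1 := by
  by_contra hw1
  exact hyX (o.blocks.faithful W hW ⟨hy, four_three (o.blocks.card_W W hW) (o.wexp hW)
    (o.blocks.norm W hW hy) (o.X_le_centW hW h3) hw hw1 hc⟩)

theorem span (o : Ovg T L V X Ws E) {W : Subgroup G} (hW : W ∈ Ws) {x : G} (hx : x ∈ E W)
    (hxX : x ∉ X) (hx3 : x * x * x ∈ X) :
    (X ⊔ zpowers x).relIndex (E W) = 2 ∧ ∀ y ∈ X ⊔ zpowers x, y * y * y ∈ X := by
  haveI : (X.subgroupOf (E W)).Normal := normal_subgroupOf_of_le_normalizer (o.E_norm_X hW)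
  set π := QuotientGroup.mk' (X.subgroupOf (E W))
  set xb := π ⟨x, hx⟩ with hxb
  have ho : orderOf xb = 3 := by
    refine orderOf_eq_prime ?_ fun h => hxX ?_
    · rw [pow_succ, pow_two]
      exact (QuotientGroup.eq_one_iff ((⟨x, hx⟩ : E W) * ⟨x, hx⟩ * ⟨x, hx⟩)).2 (mem_subgroupOf.2 hx3)
    · exact mem_subgroupOf.1 ((QuotientGroup.eq_one_iff _).1 h)
  have hc : Nat.card (↥(E W) ⧸ X.subgroupOf (E W)) = 6 := o.blocks.index W hW
  have hle : X ⊔ zpowers x ≤ E W := sup_le (o.blocks.X_le W hW) (zpowers_le.2 hx)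
  have hDsub : (X ⊔ zpowers x).subgroupOf (E W) = (zpowers xb).comap π := by
    apply le_antisymm
    · rw [subgroupOf_sup (o.blocks.X_le W hW) (zpowers_le.2 hx)]
      refine sup_le (fun y hy => ?_) ?_
      · rw [mem_comap, show π y = 1 from (QuotientGroup.eq_one_iff y).2 hy]
        exact one_mem _
      · intro y hy
        obtain ⟨i, hi⟩ := mem_zpowers_iff.1 (mem_subgroupOf.1 hy)
        refine mem_zpowers_iff.2 ⟨i, ?_⟩
        rw [hxb, ← map_zpow]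
        exact congrArg π (Subtype.ext (by simpa using hi))
    · intro y hy
      obtain ⟨i, hi⟩ := mem_zpowers_iff.1 hy
      rw [hxb, ← map_zpow, QuotientGroup.mk'_apply, QuotientGroup.mk'_apply, QuotientGroup.eq] at hi
      rw [mem_subgroupOf]
      have := mul_mem (mem_sup_right (S := X) (zpow_mem (mem_zpowers x) i))
        (mem_sup_left (T := zpowers x) (mem_subgroupOf.1 hi))
      simpa using this
  refine ⟨?_, fun y hy => ?_⟩
  · rw [relIndex, hDsub, index_comap_of_surjective _ (QuotientGroup.mk'_surjective _)]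
    have h := card_mul_index (zpowers xb)
    rw [Nat.card_zpowers, ho, hc] at h
    omega
  · set yy : E W := ⟨y, hle hy⟩
    have hyb : π yy ∈ zpowers xb := by
      rw [← mem_comap, ← hDsub]; exact mem_subgroupOf.2 hy
    have h1 : (π yy) ^ 3 = 1 := by
      obtain ⟨i, hi⟩ := mem_zpowers_iff.1 hyb
      rw [← hi, ← zpow_natCast, ← zpow_mul, mul_comm, zpow_mul, zpow_natCast, ← ho,
        pow_orderOf_eq_one, one_zpow]
    rw [pow_succ, pow_two] at h1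
    exact (QuotientGroup.eq_one_iff (yy * yy * yy)).1 h1

theorem exists_three (o : Ovg T L V X Ws E) {W : Subgroup G} (hW : W ∈ Ws) :
    ∃ x ∈ E W, x ∉ X ∧ x * x * x ∈ X := by
  haveI : (X.subgroupOf (E W)).Normal := normal_subgroupOf_of_le_normalizer (o.E_norm_X hW)
  have hc : Nat.card (↥(E W) ⧸ X.subgroupOf (E W)) = 6 := o.blocks.index W hW
  haveI : Fact (Nat.Prime 3) := ⟨Nat.prime_three⟩
  obtain ⟨xb, hxb⟩ := exists_prime_orderOf_dvd_card' (G := ↥(E W) ⧸ X.subgroupOf (E W)) 3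
    (hc ▸ by norm_num)
  obtain ⟨x, rfl⟩ := QuotientGroup.mk'_surjective (X.subgroupOf (E W)) xb
  refine ⟨x, x.2, fun h => ?_, ?_⟩
  · rw [show QuotientGroup.mk' (X.subgroupOf (E W)) x = 1 from (QuotientGroup.eq_one_iff x).2 h,
      orderOf_one] at hxb
    omega
  · have h := pow_orderOf_eq_one (QuotientGroup.mk' (X.subgroupOf (E W)) x)
    rw [hxb, pow_succ, pow_two] at h
    exact (QuotientGroup.eq_one_iff (x * x * x)).1 h

theorem Dm_le (o : Ovg T L V X Ws E) {W : Subgroup G} (hW : W ∈ Ws) : Dm X E W ≤ E W :=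
  sup_le (o.blocks.X_le W hW) ((closure_le _).2 fun _ h => h.1)

theorem Dm_eq (o : Ovg T L V X Ws E) {W : Subgroup G} (hW : W ∈ Ws) {x : G} (hx : x ∈ E W)
    (hxX : x ∉ X) (hx3 : x * x * x ∈ X) : Dm X E W = X ⊔ zpowers x := by
  obtain ⟨hidx, -⟩ := o.span hW hx hxX hx3
  refine le_antisymm (sup_le le_sup_left ((closure_le _).2 fun y hy => ?_))
    (sup_le le_sup_left (zpowers_le.2 (mem_sup_right (subset_closure ⟨hx, hx3⟩))))
  have h2 : y * y ∈ X ⊔ zpowers x := by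
    have := sq_mem_of_index_two (H := (X ⊔ zpowers x).subgroupOf (E W)) hidx ⟨y, hy.1⟩
    rw [pow_two] at this
    exact this
  have := mul_mem (inv_mem h2) (mem_sup_left (T := zpowers x) hy.2)
  rwa [show (y * y)⁻¹ * (y * y * y) = y by group] at this

theorem mem_Dm (o : Ovg T L V X Ws E) {W : Subgroup G} (hW : W ∈ Ws) {y : G} :
    y ∈ Dm X E W ↔ y ∈ E W ∧ y * y * y ∈ X := by
  refine ⟨fun h => ⟨o.Dm_le hW h, ?_⟩, fun h => mem_sup_right (subset_closure h)⟩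
  obtain ⟨x, hx, hxX, hx3⟩ := o.exists_three hW
  rw [o.Dm_eq hW hx hxX hx3] at h
  exact (o.span hW hx hxX hx3).2 y h

theorem Dm_mul_mem (o : Ovg T L V X Ws E) {W : Subgroup G} (hW : W ∈ Ws) {a b : G}
    (ha : a ∈ E W) (hb : b ∈ E W) (ha' : a ∉ Dm X E W) (hb' : b ∉ Dm X E W) :
    a * b ∈ Dm X E W := by
  obtain ⟨x, hx, hxX, hx3⟩ := o.exists_three hW
  rw [o.Dm_eq hW hx hxX hx3] at ha' hb' ⊢
  exact (mul_mem_iff_of_index_two (H := (X ⊔ zpowers x).subgroupOf (E W))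
    (o.span hW hx hxX hx3).1 (a := ⟨a, ha⟩) (b := ⟨b, hb⟩)).2 (iff_of_false ha' hb')

theorem not_mem_Dm (o : Ovg T L V X Ws E) {W : Subgroup G} (hW : W ∈ Ws) {a : G}
    (haX : a ∉ X) (ha2 : a * a ∈ X) : a ∉ Dm X E W := fun h => haX (by
  have := mul_mem (inv_mem ha2) ((o.mem_Dm hW).1 h).2
  rwa [show (a * a)⁻¹ * (a * a * a) = a by group] at this)

theorem three_of_Q (o : Ovg T L V X Ws E) {W : Subgroup G} {x : G}
    (hg : Good L X E W x) : x * x * x ∈ X := o.Q_le hg.2.2.1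

theorem Good_conj (o : Ovg T L V X Ws E) {W : Subgroup G} (hW : W ∈ Ws) {x g : G} (hgL : g ∈ L)
    (h : Good L X E W x) : Good L X E (cjg g W) (g * x * g⁻¹) := by
  obtain ⟨hx, hxX, hx3, a, ha, haX, ha2, hac, hax⟩ := h
  obtain ⟨-, hE⟩ := o.blocks.conj W hW g hgL
  have hXg : ∀ y, g * y * g⁻¹ ∈ X ↔ y ∈ X := fun y =>
    ((mem_normalizer_iff.1 (o.X_norm hgL)) y).symm
  have hQg : ∀ y, g * y * g⁻¹ ∈ Qk L ↔ y ∈ Qk L := fun y =>
    ((mem_normalizer_iff.1 (le_normalizer_pCoreOf 2 L hgL)) y).symm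
  refine ⟨hE ▸ conj_mem_cjg hx, fun h => hxX ((hXg x).1 h), ?_, g * a * g⁻¹,
    hE ▸ conj_mem_cjg ha, fun h => haX ((hXg a).1 h), ?_, fun ξ hξ => ?_, ?_⟩
  · rw [show g * x * g⁻¹ * (g * x * g⁻¹) * (g * x * g⁻¹) = g * (x * x * x) * g⁻¹ by group]
    exact (hQg _).2 hx3
  · rw [show g * a * g⁻¹ * (g * a * g⁻¹) = g * (a * a) * g⁻¹ by group]
    exact (hXg _).2 ha2
  · have hξ' : g⁻¹ * ξ * g ∈ X := (hXg _).1 (by simpa [mul_assoc] using hξ)
    rw [show ⁅ξ, g * a * g⁻¹⁆ = g * ⁅g⁻¹ * ξ * g, a⁆ * g⁻¹ by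
      simp only [commutatorElement_def]; group]
    exact (hQg _).2 (hac _ hξ')
  · rw [show g * a * g⁻¹ * (g * x * g⁻¹) * (g * a * g⁻¹)⁻¹ * (g * x * g⁻¹) =
      g * (a * x * a⁻¹ * x) * g⁻¹ by group]
    exact (hQg _).2 hax

theorem uniq_mem (o : Ovg T L V X Ws E) {W : Subgroup G} (hW : W ∈ Ws) {x y : G}
    (hgx : Good L X E W x) (hgy : Good L X E W y) : y ∈ Qk L ⊔ zpowers x := by
  have hx3X := o.three_of_Q hgx
  have hy3X := o.three_of_Q hgy
  obtain ⟨hx, hxX, hx3, a, ha, haX, ha2, hac, hax⟩ := hgx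
  obtain ⟨hy, hyX, hy3, b, hb, hbX, hb2, hbc, hby⟩ := hgy
  haveI : ((Qk L).subgroupOf (E W)).Normal := normal_subgroupOf_of_le_normalizer
    ((o.blocks.E_le W hW).trans (le_normalizer_pCoreOf 2 L))
  haveI hXn : (X.subgroupOf (E W)).Normal := normal_subgroupOf_of_le_normalizer (o.E_norm_X hW)
  set π := QuotientGroup.mk' ((Qk L).subgroupOf (E W))
  have hπ : ∀ {u : E W}, (u : G) ∈ Qk L → π u = 1 := fun {u} hu =>
    (QuotientGroup.eq_one_iff u).2 (mem_subgroupOf.2 hu)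
  set Xb := (X.subgroupOf (E W)).map π
  have hXbn : Xb.Normal := Normal.map hXn _ (QuotientGroup.mk'_surjective _)
  have hD : Dm X E W = X ⊔ zpowers x := o.Dm_eq hW hx hxX hx3X
  have hDmap : ∀ {u : E W}, (u : G) ∈ X ⊔ zpowers x → π u ∈ zpowers (π ⟨x, hx⟩) ⊔ Xb := by
    intro u hu
    have hle : (X ⊔ zpowers x).subgroupOf (E W) ≤
        ((zpowers (π ⟨x, hx⟩)) ⊔ Xb).comap π := by
      rw [subgroupOf_sup (o.blocks.X_le W hW) (zpowers_le.2 hx)]
      refine sup_le (fun v hv => mem_sup_right ⟨v, hv, rfl⟩) fun v hv => ?_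
      obtain ⟨i, hi⟩ := mem_zpowers_iff.1 (mem_subgroupOf.1 hv)
      refine mem_sup_left (mem_zpowers_iff.2 ⟨i, ?_⟩)
      rw [← map_zpow]
      exact congrArg π (Subtype.ext (by simpa using hi))
    exact hle (mem_subgroupOf.2 hu)
  have hba : b * a⁻¹ ∈ X ⊔ zpowers x := hD ▸ o.Dm_mul_mem hW hb (inv_mem ha)
    (o.not_mem_Dm hW hbX hb2) (fun h => o.not_mem_Dm hW haX ha2 ((inv_mem_iff).1 h))
  have hcc : ∀ (c : G) (hc : c ∈ E W), (∀ ξ ∈ X, ⁅ξ, c⁆ ∈ Qk L) →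
      ∀ ξ ∈ Xb, π ⟨c, hc⟩ * ξ = ξ * π ⟨c, hc⟩ := by
    rintro c hc h _ ⟨ξ, hξ, rfl⟩
    refine (commutatorElement_eq_one_iff_mul_comm.1 ?_).symm
    rw [← map_commutatorElement]
    exact hπ (h _ (mem_subgroupOf.1 hξ))
  have key := inverted_unique (M := ↥(E W) ⧸ (Qk L).subgroupOf (E W)) hXbn ?_
    (hcc a ha hac) (hcc b hb hbc)
    (x := π ⟨x, hx⟩) ?_ ?_ ?_ (y := π ⟨y, hy⟩)
    (hDmap (hD ▸ (o.mem_Dm hW).2 ⟨hy, hy3X⟩)) ?_
  · obtain ⟨i, hi⟩ := mem_zpowers_iff.1 key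
    rw [← map_zpow, QuotientGroup.mk'_apply, QuotientGroup.mk'_apply, QuotientGroup.eq] at hi
    have hm : (x ^ i)⁻¹ * y ∈ Qk L := by simpa using mem_subgroupOf.1 hi
    have := mul_mem (mem_sup_right (S := Qk L) (zpow_mem (mem_zpowers x) i))
      (mem_sup_left (T := zpowers x) hm)
    simpa using this
  · rintro _ ⟨ξ, hξ, rfl⟩ h
    rw [← map_mul] at h
    have h2 : (ξ : G) * ξ ∈ Qk L := mem_subgroupOf.1 ((QuotientGroup.eq_one_iff _).1 h)
    refine hπ (o.two (zpowers (ξ : G)) ?_ (zpowers_le.2 (mem_subgroupOf.1 hξ)) (mem_zpowers _))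
    obtain ⟨k, hk⟩ := (isPGroup_pCoreOf 2 L) ⟨_, h2⟩
    have hk' : ((ξ : G) * ξ) ^ 2 ^ k = 1 := congrArg Subtype.val hk
    obtain ⟨i, -, hi⟩ := (Nat.dvd_prime_pow Nat.prime_two).1
      (orderOf_dvd_of_pow_eq_one (n := 2 * 2 ^ k) (x := (ξ : G)) (by rw [pow_mul, pow_two, hk'])
        |>.trans (dvd_of_eq (show 2 * 2 ^ k = 2 ^ (k + 1) by rw [pow_succ, mul_comm])))
    exact IsPGroup.of_card (n := i) (by rw [Nat.card_zpowers, hi])
  · rw [← map_mul, ← map_mul]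
    exact hπ hx3
  · rw [← mul_inv_eq_one, inv_inv, ← map_inv, ← map_mul, ← map_mul, ← map_mul]
    exact hπ hax
  · rw [← map_inv, ← map_mul]
    exact hDmap hba
  · rw [← mul_inv_eq_one, inv_inv, ← map_inv, ← map_mul, ← map_mul, ← map_mul]
    exact hπ hby

theorem uniq_span (o : Ovg T L V X Ws E) {W : Subgroup G} (hW : W ∈ Ws) {x y : G}
    (hgx : Good L X E W x) (hgy : Good L X E W y) :
    Qk L ⊔ zpowers y = Qk L ⊔ zpowers x :=
  le_antisymm (sup_le le_sup_left (zpowers_le.2 (o.uniq_mem hW hgx hgy)))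
    (sup_le le_sup_left (zpowers_le.2 (o.uniq_mem hW hgy hgx)))

/-! ### The blocks moved by `J(T)` -/

theorem fix_all (o : Ovg T L V X Ws E) {W W' : Subgroup G} (hW : W ∈ Ws) (hW' : W' ∈ Ws) :
    E W' ≤ normalizer (W : Set G) := by
  rcases eq_or_ne W W' with rfl | h
  · exact o.blocks.norm W hW
  · exact (o.blocks.sep W hW W' hW' h).2.1.trans (centralizer_le_normalizer _)

theorem J_le_of_witness (o : Ovg T L V X Ws E) {H : Subgroup G} (hX : X ⊓ Jt T ≤ H)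
    (h : ∀ W ∈ Jset T X Ws E, ∀ a, a ∈ Jt T → a * a = 1 → a ∈ E W → a ∉ X → a ∈ H) :
    Jt T ≤ H := by
  refine J_le_of_forall fun A hA a ha => ?_
  have hCA : closure {a | a ∈ A ∧ ∃ W ∈ Ws, a ∈ E W ∧ a ∉ X} ≤ A :=
    (closure_le A).2 fun _ hb => hb.1
  have hAL : A ≤ L := hA.1.trans o.syl.1
  obtain ⟨ξ, hξ, c, hc, he⟩ := exists_mul_of_le_normalizer
    (hCA.trans (hAL.trans o.X_norm)) (o.blocks.gen A hA ha)
  have hξA : ξ ∈ A := by
    have := mul_mem ha (inv_mem (hCA hc))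
    rwa [he, mul_inv_cancel_right] at this
  rw [he]
  refine mul_mem (hX ⟨hξ, hA.le_J hξA⟩) ((closure_le H).2 ?_ hc)
  rintro b ⟨hb, W, hW, hbE, hbX⟩
  exact h W ⟨hW, A, hA, b, hb, hbE, hbX⟩ b (hA.le_J hb) (isElementaryAbelian_two_sq hA.2.1 hb)
    hbE hbX

theorem J_le_Pl (o : Ovg T L V X Ws E) : Jt T ≤ Pl T X Ws E :=
  o.J_le_of_witness (inf_le_left.trans le_sup_left) fun W hW _ _ _ haE _ =>
    mem_sup_right (le_biSup (f := E) hW haE)

theorem Pl_le (o : Ovg T L V X Ws E) : Pl T X Ws E ≤ L :=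
  sup_le o.X_le (iSup₂_le fun W hW => o.blocks.E_le W hW.1)

theorem Pl_fix (o : Ovg T L V X Ws E) {W : Subgroup G} (hW : W ∈ Ws) :
    Pl T X Ws E ≤ normalizer (W : Set G) :=
  sup_le ((o.X_le_centW hW).trans (centralizer_le_normalizer _))
    (iSup₂_le fun _ hW' => o.fix_all hW hW'.1)

theorem J_le_L (o : Ovg T L V X Ws E) : Jt T ≤ L := (J_le T).trans o.syl.1

theorem Jset_conj_normalizer (o : Ovg T L V X Ws E) {W : Subgroup G} (hW : W ∈ Jset T X Ws E)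
    {n : G} (hnL : n ∈ L) (hn : n ∈ normalizer (Jt T : Set G)) :
    cjg n W ∈ Jset T X Ws E := by
  obtain ⟨hWs, A, hA, a, ha, haE, haX⟩ := hW
  obtain ⟨hW', hE⟩ := o.blocks.conj W hWs n hnL
  have hA' : cjg n A ≤ Jt T := (cjg_mono hA.le_J).trans (cjg_eq_self.2 hn).le
  refine ⟨hW', cjg n A, maxEA_of_card (hA'.trans (J_le T)) (IsElementaryAbelian.map hA.2.1 _)
    (by rw [card_cjg, hA.card]), n * a * n⁻¹, conj_mem_cjg ha, hE ▸ conj_mem_cjg haE,
    fun h => haX ((mem_normalizer_iff.1 (o.X_norm hnL) a).2 h)⟩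

/-- `L = P₁ N_L(J)` with `P₁` fixing every block. -/
theorem frattini (o : Ovg T L V X Ws E) :
    ∃ P1 : Subgroup G, P1 ≤ L ∧ X ⊔ Jt T ≤ P1 ∧ (∀ W ∈ Ws, P1 ≤ normalizer (W : Set G)) ∧
      (∀ M : Subgroup G, X ⊔ Jt T ≤ M → L ≤ normalizer (M : Set G) → P1 ≤ M) ∧
      ∀ g ∈ L, ∃ p ∈ P1, ∃ n ∈ L, n ∈ normalizer (Jt T : Set G) ∧ g = p * n := by
  set P1 : Subgroup G := ⨆ g : L, cjg (g : G) (X ⊔ Jt T) with hP1
  have hXJ : X ⊔ Jt T ≤ P1 := le_iSup_of_le 1 (fun x hx => by simpa [mem_cjg] using hx)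
  have hP1L : P1 ≤ L := iSup_le fun g =>
    (cjg_mono (sup_le o.X_le o.J_le_L)).trans (cjg_eq_self.2 (le_normalizer g.2)).le
  have hP1n : L ≤ normalizer (P1 : Set G) := by
    intro g hg
    refine mem_normalizer_of_cjg_le ?_
    rw [hP1, cjg, Subgroup.map_iSup]
    refine iSup_le fun h => le_iSup_of_le (⟨g, hg⟩ * h : L) ?_
    rw [Subgroup.coe_mul, ← cjg_cjg]
  refine ⟨P1, hP1L, hXJ, fun W hW => iSup_le fun g => ?_, fun M hM hMn => iSup_le fun g => ?_,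
    fun g hg => ?_⟩
  · obtain ⟨hW', -⟩ := o.blocks.conj W hW (g : G)⁻¹ (inv_mem g.2)
    have h0 : X ⊔ Jt T ≤ normalizer (cjg (g : G)⁻¹ W : Set G) := by
      refine (sup_le le_sup_left o.J_le_Pl).trans (o.Pl_fix hW')
    rintro _ ⟨y, hy, rfl⟩
    rw [MulEquiv.coe_toMonoidHom, MulAut.conj_apply, ← cjg_eq_self, ← cjg_cjg, ← cjg_cjg,
      cjg_eq_self.2 (h0 hy), cjg_inv_cjg']
  · rw [← cjg_eq_self.2 (hMn g.2)]
    exact cjg_mono hM
  · have hS := sylowTwo_inf_normal o.syl hP1L hP1n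
    have hJS : Jt (T ⊓ P1) = Jt T :=
      J_eq_of_le_of_le (le_inf (J_le T) (le_sup_right.trans hXJ)) inf_le_left
    have h1 := isSylowTwoIn_cjg hS g
    rw [cjg_eq_self.2 (hP1n hg)] at h1
    obtain ⟨p, hp, hpe⟩ := sylowTwo_conj h1 hS
    refine ⟨p⁻¹, inv_mem hp, p * g, mul_mem (hP1L hp) hg, ?_, by group⟩
    rw [← hJS]
    refine normalizer_le_normalizer_J _ ?_
    rw [← cjg_eq_self, ← cjg_cjg]
    exact hpe

theorem Jset_conj (o : Ovg T L V X Ws E) {W : Subgroup G} (hW : W ∈ Jset T X Ws E) {g : G}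
    (hg : g ∈ L) : cjg g W ∈ Jset T X Ws E := by
  obtain ⟨P1, -, -, hfix, -, hfr⟩ := o.frattini
  obtain ⟨p, hp, n, hnL, hn, rfl⟩ := hfr g hg
  have h := o.Jset_conj_normalizer hW hnL hn
  rw [← cjg_cjg, cjg_eq_self.2 (hfix _ h.1 hp)]
  exact h

theorem Pl_norm (o : Ovg T L V X Ws E) : L ≤ normalizer (Pl T X Ws E : Set G) := by
  intro g hg
  refine mem_normalizer_of_cjg_le ?_
  rw [cjg, Pl, Subgroup.map_sup, conj_map_of_mem (o.X_norm hg)]
  refine sup_le le_sup_left ?_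
  rw [Subgroup.map_iSup]
  refine iSup_le fun W => ?_
  rw [Subgroup.map_iSup]
  refine iSup_le fun hW => ?_
  rw [show (E W).map (MulAut.conj g).toMonoidHom = E (cjg g W) from (o.blocks.conj W hW.1 g hg).2]
  exact le_sup_of_le_right (le_biSup (f := E) (o.Jset_conj hW hg))

theorem cjg_Dm (o : Ovg T L V X Ws E) {W : Subgroup G} (hW : W ∈ Ws) {g : G} (hg : g ∈ L) :
    cjg g (Dm X E W) = Dm X E (cjg g W) := by
  obtain ⟨hW', hE⟩ := o.blocks.conj W hW g hg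
  ext y
  rw [mem_cjg, o.mem_Dm hW, o.mem_Dm hW', ← hE, mem_cjg,
    show g⁻¹ * y * g * (g⁻¹ * y * g) * (g⁻¹ * y * g) = g⁻¹ * (y * y * y) * g by group]
  refine and_congr_right fun _ => ?_
  have := (mem_normalizer_iff.1 (o.X_norm (inv_mem hg))) (y * y * y)
  rw [inv_inv] at this
  exact this.symm

theorem Pl_le_normalizer_Dm (o : Ovg T L V X Ws E) {W : Subgroup G} (hW : W ∈ Ws) :
    Pl T X Ws E ≤ normalizer (Dm X E W : Set G) := fun p hp => by
  rw [← cjg_eq_self, o.cjg_Dm hW (o.Pl_le hp), cjg_eq_self.2 (o.Pl_fix hW hp)]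

theorem Pl_le_normalizer_E (o : Ovg T L V X Ws E) {W : Subgroup G} (hW : W ∈ Ws) :
    Pl T X Ws E ≤ normalizer (E W : Set G) := fun p hp => by
  rw [← cjg_eq_self, (o.blocks.conj W hW p (o.Pl_le hp)).2, cjg_eq_self.2 (o.Pl_fix hW hp)]

/-! ### The block of a component -/

theorem comp_le_Pl (o : Ovg T L V X Ws E) {K : Subgroup G} (hK : IsJComponent T K)
    (hKL : K ≤ L) : K ≤ Pl T X Ws E := by
  nth_rewrite 1 [← comp_comm hK]
  rw [commutator_le]
  intro k hk j hj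
  rw [commutatorElement_def]
  exact mul_mem (conj_mem_normalizer (o.Pl_norm (hKL hk)) (o.J_le_Pl hj))
    (inv_mem (o.J_le_Pl hj))

theorem comp_not_le_X (o : Ovg T L V X Ws E) {K : Subgroup G} (hK : IsJComponent T K) :
    ¬ K ≤ X := by
  intro h
  have hKQ : K ≤ Qk L := by
    nth_rewrite 1 [← comp_comm hK]
    rw [commutator_le]
    exact fun k hk j hj => o.comm k (h hk) j (J_le T hj)
  obtain ⟨x, hx, hxo⟩ := comp_exists_three hK
  have := eq_one_of_mem_pgroup (isPGroup_pCoreOf 2 L) (hKQ hx) (by rw [hxo]; norm_num)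
  rw [this, orderOf_one] at hxo
  omega

theorem comp_core_normalizes (o : Ovg T L V X Ws E) (z : ZN G) (hT : IsPGroup 2 ↥T) (hT1 : T ≠ ⊥)
    {K : Subgroup G} (hK : IsJComponent T K) (hKL : K ≤ L) :
    Qk L ≤ normalizer (K : Set G) :=
  S2941.result z.char2 z.solv z.hz T hT hT1 K hK (Qk L)
    ((sup_le hKL o.J_le_L).trans (le_normalizer_pCoreOf 2 L))
    (o.Q_le_T.trans (le_normalizer_J T))

theorem exists_block_elem (o : Ovg T L V X Ws E) {K : Subgroup G} (hK : IsJComponent T K)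
    (hKL : K ≤ L) :
    ∃ W ∈ Jset T X Ws E, ∃ x ∈ K, orderOf x = 3 ∧ Good L X E W x := by
  have hXn : K ≤ normalizer (X : Set G) := hKL.trans o.X_norm
  have hKX := comp_inf_le_Qk hK hXn (o.comp_not_le_X hK)
  obtain ⟨x0, hx0, hx0o⟩ := comp_exists_three hK
  have hJK := comp_J_le_normalizer hK
  obtain ⟨W, hW, a, haJ, ha2, haE, haX, hd⟩ : ∃ W ∈ Jset T X Ws E, ∃ a, a ∈ Jt T ∧ a * a = 1 ∧
      a ∈ E W ∧ a ∉ X ∧ ⁅x0, a⁆ ∉ Qk K := by
    by_contra hcon
    push Not at hcon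
    have hQn : normalizer (K : Set G) ≤ normalizer (Qk K : Set G) := normalizer_le_normalizer_Qk K
    let H : Subgroup G :=
      { carrier := {g | g ∈ normalizer (K : Set G) ∧ ⁅x0, g⁆ ∈ Qk K}
        one_mem' := ⟨one_mem _, by simp⟩
        mul_mem' := fun {g h} hg hh => ⟨mul_mem hg.1 hh.1, by
          rw [show ⁅x0, g * h⁆ = ⁅x0, g⁆ * (g * ⁅x0, h⁆ * g⁻¹) by
            simp only [commutatorElement_def]; group]
          exact mul_mem hg.2 (conj_mem_normalizer (hQn hg.1) hh.2)⟩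
        inv_mem' := fun {g} hg => ⟨inv_mem hg.1, by
          rw [show ⁅x0, g⁻¹⁆ = g⁻¹ * ⁅x0, g⁆⁻¹ * g⁻¹⁻¹ by
            simp only [commutatorElement_def]; group]
          exact conj_mem_normalizer (hQn (inv_mem hg.1)) (inv_mem hg.2)⟩ }
    have hJH : Jt T ≤ H := o.J_le_of_witness
      (fun ξ hξ => ⟨hJK hξ.2, hKX (mem_inf.2 ⟨by
          rw [commutatorElement_def, show x0 * ξ * x0⁻¹ * ξ⁻¹ = x0 * (ξ * x0⁻¹ * ξ⁻¹) by group]
          exact mul_mem hx0 (conj_mem_normalizer (hJK hξ.2) (inv_mem hx0)), by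
          rw [commutatorElement_def]
          exact mul_mem (conj_mem_normalizer (hXn hx0) hξ.1) (inv_mem hξ.1)⟩)⟩)
      fun W hW a haJ ha2 haE haX => ⟨hJK haJ, hcon W hW a haJ ha2 haE haX⟩
    let H2 : Subgroup G :=
      { carrier := {k | k ∈ K ∧ ∀ j ∈ Jt T, ⁅k, j⁆ ∈ Qk K}
        one_mem' := ⟨one_mem _, fun j _ => by simp⟩
        mul_mem' := fun {g h} hg hh => ⟨mul_mem hg.1 hh.1, fun j hj => by
          rw [show ⁅g * h, j⁆ = (g * ⁅h, j⁆ * g⁻¹) * ⁅g, j⁆ by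
            simp only [commutatorElement_def]; group]
          exact mul_mem (conj_mem_normalizer (le_normalizer_pCoreOf 2 K hg.1) (hh.2 j hj))
            (hg.2 j hj)⟩
        inv_mem' := fun {g} hg => ⟨inv_mem hg.1, fun j hj => by
          rw [show ⁅g⁻¹, j⁆ = g⁻¹ * ⁅g, j⁆⁻¹ * g⁻¹⁻¹ by
            simp only [commutatorElement_def]; group]
          exact conj_mem_normalizer (le_normalizer_pCoreOf 2 K (inv_mem hg.1))
            (inv_mem (hg.2 j hj))⟩ }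
    have hK2 : K ≤ H2 := by
      rw [← comp_gen_three hK hx0 hx0o]
      refine sup_le (fun q hq => ⟨pCoreOf_le 2 K hq, fun j hj => ?_⟩)
        (zpowers_le.2 ⟨hx0, fun j hj => (hJH hj).2⟩)
      rw [commutatorElement_def, show q * j * q⁻¹ * j⁻¹ = q * (j * q⁻¹ * j⁻¹) by group]
      exact mul_mem hq (conj_mem_normalizer (normalizer_le_normalizer_Qk K (hJK hj))
        (inv_mem hq))
    have hKQ : K ≤ Qk K := by
      nth_rewrite 1 [← comp_comm hK]
      rw [commutator_le]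
      exact fun k hk j hj => (hK2 hk).2 j hj
    have h3 := comp_card hK
    have := card_le_of_le hKQ
    have := Nat.card_pos (α := Qk K)
    omega
  have hai : a⁻¹ = a := inv_eq_of_mul_eq_one_right ha2
  set d := ⁅x0, a⁆ with hddef
  have hdK : d ∈ K := by
    rw [hddef, commutatorElement_def, show x0 * a * x0⁻¹ * a⁻¹ = x0 * (a * x0⁻¹ * a⁻¹) by group]
    exact mul_mem hx0 (conj_mem_normalizer (hJK haJ) (inv_mem hx0))
  have hdE : d ∈ E W := by
    rw [hddef, commutatorElement_def]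
    exact mul_mem (conj_mem_normalizer (o.Pl_le_normalizer_E hW.1 (o.comp_le_Pl hK hKL hx0)) haE)
      (inv_mem haE)
  have hdinv : a * d * a⁻¹ = d⁻¹ := by
    rw [hddef, commutatorElement_def, hai]
    calc a * (x0 * a * x0⁻¹ * a) * a = a * x0 * a * x0⁻¹ * (a * a) := by group
      _ = a⁻¹ * x0 * a⁻¹ * x0⁻¹ := by rw [ha2, hai, mul_one]
      _ = (x0 * a * x0⁻¹ * a)⁻¹ := by group
  obtain ⟨n, hn⟩ := comp_card_Qk hK
  set x := d ^ 2 ^ n with hx
  have hx3 : x ^ 3 = 1 := by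
    rw [hx, ← pow_mul, mul_comm, pow_mul]
    have := pow_card_eq_one' (x := (⟨d ^ 3, comp_pow3 hK hdK⟩ : Qk K))
    rw [hn] at this
    exact congrArg Subtype.val this
  have hx1 : x ≠ 1 := by
    intro e
    refine hd (comp_two_le hK (P := zpowers d) ?_ (zpowers_le.2 hdK) (mem_zpowers d))
    obtain ⟨i, -, hi⟩ := (Nat.dvd_prime_pow Nat.prime_two).1 (orderOf_dvd_of_pow_eq_one e)
    exact IsPGroup.of_card (n := i) (by rw [Nat.card_zpowers, hi])
  have hxK : x ∈ K := pow_mem hdK _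
  have hxo : orderOf x = 3 := orderOf_eq_prime hx3 hx1
  refine ⟨W, hW, x, hxK, hxo, pow_mem hdE _, fun h => o.comp_not_le_X hK
    (comp_induct hK hxK hxo h hXn), ?_, a, haE, haX, ha2 ▸ one_mem _,
    fun ξ hξ => o.comm ξ hξ a (J_le T haJ), ?_⟩
  · rw [← pow_two, ← pow_succ, hx3]; exact one_mem _
  · have e : a * x * a⁻¹ = x⁻¹ := by
      rw [hx, ← inv_pow, ← hdinv]
      exact map_pow (MulAut.conj a) d _
    rw [e, inv_mul_cancel]
    exact one_mem _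

theorem comp_data' (o : Ovg T L V X Ws E)
    {K : Subgroup G} (hK : IsJComponent T K) (hKL : K ≤ L) (hQN : Qk L ≤ normalizer (K : Set G)) :
    ∃ W ∈ Jset T X Ws E, wOf K = W ∧ K ≤ Dm X E W ∧ Qk K ≤ Qk L ∧
      ∃ x, Good L X E W x ∧ oc (Qk L ⊔ zpowers x) = K := by
  obtain ⟨W, hW, x, hxK, hxo, hgood⟩ := o.exists_block_elem hK hKL
  have hWs := hW.1
  obtain ⟨hxE, hxX, hx3, -⟩ := id hgood
  have hKD : K ≤ Dm X E W := comp_induct hK hxK hxo
    ((o.mem_Dm hWs).2 ⟨hxE, o.Q_le hx3⟩)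
    ((o.comp_le_Pl hK hKL).trans (o.Pl_le_normalizer_Dm hWs))
  have hQK : Qk K ≤ Qk L := by
    refine o.two _ (isPGroup_pCoreOf 2 K) fun u hu => ?_
    have h3 := ((o.mem_Dm hWs).1 (hKD (pCoreOf_le 2 K hu))).2
    obtain ⟨n, hn⟩ := comp_card_Qk hK
    obtain ⟨m, hm⟩ := exists_pow_eq_self_of_coprime (x := u) (n := 3) (by
      have hd : orderOf u ∣ 2 ^ n := hn ▸ (Qk K).orderOf_dvd_natCard hu
      exact Nat.Coprime.coprime_dvd_right hd (Nat.Coprime.pow_right n (by norm_num)))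
    rw [← hm]
    refine pow_mem ?_ m
    rw [pow_succ, pow_two]; exact h3
  refine ⟨W, hW, ?_, hKD, hQK, x, hgood, ?_⟩
  · -- the four-group
    have hc4 := o.blocks.card_W W hWs
    have hexp := o.wexp hWs
    have hxN := o.blocks.norm W hWs hxE
    have hnfix : ∀ v ∈ W, v ≠ 1 → x * v * x⁻¹ ≠ v := fun v hv hv1 h =>
      hv1 (o.fixed_of_three hWs hxE hxX (o.Q_le hx3) hv (mul_inv_eq_iff_eq_mul.1 h))
    obtain ⟨v, hv, hv1, -⟩ := four_exists_other hc4 (1 : G)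
    set h := x * v * x⁻¹ * v⁻¹ with hh
    have hhW : h ∈ W := mul_mem (conj_mem_normalizer hxN hv) (inv_mem hv)
    have hh1 : h ≠ 1 := fun e => hnfix v hv hv1 (mul_inv_eq_one.1 e)
    have hvQ : ∀ w ∈ W, w ∈ Qk L := fun w hw =>
      omegaCenterOf_le _ (o.V_le (o.blocks.le_V W hWs hw))
    have hhK : h ∈ Qk K := by
      have h1 : h ∈ K ⊓ Qk L := by
        refine ⟨?_, hvQ h hhW⟩
        rw [hh, show x * v * x⁻¹ * v⁻¹ = x * (v * x⁻¹ * v⁻¹) by group]
        exact mul_mem hxK (conj_mem_normalizer (hQN (hvQ v hv)) (inv_mem hxK))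
      exact comp_two_le hK ((isPGroup_pCoreOf 2 L).to_le inf_le_right) inf_le_left h1
    have hWK : W ⊓ Qk K = W := four_eq_of_invariant hc4 hexp inf_le_left ⟨hhW, hhK⟩ hh1
      ⟨conj_mem_normalizer hxN hhW, conj_mem_normalizer (le_normalizer_pCoreOf 2 K hxK) hhK⟩
      (hnfix h hhW hh1)
    have hWU : W ≤ omegaCenterOf (Qk K) := by
      intro w hw
      refine mem_omegaCenterOf.2 ⟨(hWK.ge hw).2, fun q hq => ?_, hexp w hw⟩
      exact (mem_omegaCenterOf.1 (o.V_le (o.blocks.le_V W hWs hw))).2.1 q (hQK hq)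
    have hhw : h ∈ wOf K := by
      rw [wOf, commutator_comm]
      exact commutator_mem_commutator hxK (hWU hv)
    have hWw : W ⊓ wOf K = W := four_eq_of_invariant hc4 hexp inf_le_left ⟨hhW, hhw⟩ hh1
      ⟨conj_mem_normalizer hxN hhW,
        conj_mem_normalizer (normalizer_le_normalizer_wOf K (le_normalizer hxK)) hhw⟩
      (hnfix h hhW hh1)
    exact (eq_of_le_of_card_ge (inf_eq_left.1 hWw) (by rw [comp_wcard hK, hc4])).symm
  · -- the odd closure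
    refine le_antisymm ((closure_le K).2 ?_) ?_
    · rintro y ⟨hy, hyo⟩
      have hKH : K ≤ Qk L ⊔ zpowers x := by
        rw [← comp_gen_three hK hxK hxo]
        exact sup_le_sup_right hQK _
      obtain ⟨n, hn⟩ := IsPGroup.iff_card.1 (isPGroup_pCoreOf 2 L)
      refine odd_mem_of_two_index (K := K) (Y := Qk L ⊔ zpowers x) (n := n) (sup_le hQN
        (zpowers_le.2 (le_normalizer hxK))) ?_ hy hyo
      have he : K ⊔ Qk L = Qk L ⊔ zpowers x := le_antisymm (sup_le hKH le_sup_left)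
        (sup_le le_sup_right ((zpowers_le.2 hxK).trans le_sup_left))
      have h1 := card_sup_mul_inf (A := K) (B := Qk L) hQN
      rw [← card_mul_relIndex' (le_sup_left : K ≤ K ⊔ Qk L)] at h1
      rw [← he, ← hn]
      refine ⟨Nat.card ↥(K ⊓ Qk L), ?_⟩
      apply Nat.eq_of_mul_eq_mul_left (Nat.card_pos (α := K))
      rw [← h1, mul_assoc]
    · nth_rewrite 1 [← comp_gen hK]
      refine closure_mono fun y hy => ⟨?_, hy.2⟩
      have hKH : K ≤ Qk L ⊔ zpowers x := by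
        rw [← comp_gen_three hK hxK hxo]
        exact sup_le_sup_right hQK _
      exact hKH hy.1

theorem comp_data (o : Ovg T L V X Ws E) (z : ZN G) (hT : IsPGroup 2 ↥T) (hT1 : T ≠ ⊥)
    {K : Subgroup G} (hK : IsJComponent T K) (hKL : K ≤ L) :
    ∃ W ∈ Jset T X Ws E, wOf K = W ∧ K ≤ Dm X E W ∧ Qk K ≤ Qk L ∧
      ∃ x, Good L X E W x ∧ oc (Qk L ⊔ zpowers x) = K :=
  o.comp_data' hK hKL (o.comp_core_normalizes z hT hT1 hK hKL)

/-- Components in `L` with the same four-group are equal; more generally the stabiliser in `L`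
of `W_K` normalises `K`. -/
theorem comp_conj_eq (o : Ovg T L V X Ws E) (z : ZN G) (hT : IsPGroup 2 ↥T) (hT1 : T ≠ ⊥)
    {K K' : Subgroup G} (hK : IsJComponent T K) (hKL : K ≤ L) (hK' : IsJComponent T K')
    (hK'L : K' ≤ L) {g : G} (hg : g ∈ L) (he : cjg g (wOf K) = wOf K') : cjg g K = K' := by
  obtain ⟨W, hW, hWe, -, -, x, hx, hxK⟩ := o.comp_data z hT hT1 hK hKL
  obtain ⟨W', hW', hWe', -, -, x', hx', hxK'⟩ := o.comp_data z hT hT1 hK' hK'L
  rw [hWe, hWe'] at he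
  have h := o.Good_conj hW.1 hg hx
  rw [he] at h
  rw [← hxK, ← hxK', cjg_oc, ← o.uniq_span hW'.1 hx' h]
  congr 1
  rw [cjg, Subgroup.map_sup, MonoidHom.map_zpowers,
    conj_map_of_mem (le_normalizer_pCoreOf 2 L hg)]
  rfl

theorem stab_normalizes (o : Ovg T L V X Ws E) (z : ZN G) (hT : IsPGroup 2 ↥T) (hT1 : T ≠ ⊥)
    {K : Subgroup G} (hK : IsJComponent T K) (hKL : K ≤ L) {g : G} (hg : g ∈ L)
    (hgW : g ∈ normalizer (wOf K : Set G)) : g ∈ normalizer (K : Set G) :=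
  cjg_eq_self.1 (o.comp_conj_eq z hT hT1 hK hKL hK hKL hg (cjg_eq_self.2 hgW))

end Ovg

end Cfsg.Agent.JComp
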