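import Cfsg.Agent.Lib.JComp.JZero

/-!
Maximal straddling 2-subgroups, components outside `M`, and their maximal 2-local overgroups.
-/

set_option autoImplicit false
set_option linter.unusedSectionVars false
set_option linter.style.haveILetI false

namespace Cfsg.Agent.JComp

open Subgroup Cfsg Cfsg.Agent.CharP

variable {G : Type*} [Group G] [Finite G]

/-- The standing hypotheses on `S` and `M`. -/
structure Hyp (S : Sylow 2 G) (M : Subgroup G) : Prop where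
  zn : ZN G
  hO : pCore 2 G = ⊥
  hM : IsTwoLocal M
  hMJ : normalizer (Jt (S : Subgroup G) : Set G) ≤ M

theorem exists_normalizes_not_mem {P U : Subgroup G} (hU : IsPGroup 2 ↥U) (hPU : P ≤ U)
    (hne : P ≠ U) : ∃ t ∈ U, t ∉ P ∧ t ∈ normalizer (P : Set G) := by
  haveI := hU.isNilpotent
  have hlt : P.subgroupOf U < ⊤ := lt_top_iff_ne_top.2 fun h => hne (le_antisymm hPU
    (subgroupOf_eq_top.1 h))
  obtain ⟨t, ht, htP⟩ := SetLike.exists_of_lt (Group.normalizerCondition_of_isNilpotent _ hlt)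
  refine ⟨t, t.2, fun h => htP (mem_subgroupOf.2 h), mem_normalizer_of_cjg_le ?_⟩
  rintro _ ⟨p, hp, rfl⟩
  exact mem_subgroupOf.1 ((mem_normalizer_iff.1 ht ⟨p, hPU hp⟩).1 (mem_subgroupOf.2 hp))

/-- A Sylow subgroup of `L ∩ M` whose normalizer stays in `M` is one of `L`. -/
theorem sylowTwo_of_inf {L M T : Subgroup G} (hT : IsSylowTwoIn T (L ⊓ M))
    (h : ∀ t ∈ L, t ∈ normalizer (T : Set G) → t ∈ M) : IsSylowTwoIn T L := by
  obtain ⟨U, hU, hTU⟩ := exists_sylowTwo_ge (L := L) hT.2.1 (hT.1.trans inf_le_left)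
  rcases eq_or_ne T U with rfl | hne
  · exact hU
  exfalso
  obtain ⟨t, htU, htT, htN⟩ := exists_normalizes_not_mem hU.2.1 hTU hne
  have hle : T ⊔ zpowers t ≤ L ⊓ M :=
    sup_le hT.1 (zpowers_le.2 ⟨hU.1 htU, h t (hU.1 htU) htN⟩)
  have := sylowTwo_eq_of_le hT (hU.2.1.to_le (sup_le hTU (zpowers_le.2 htU))) hle le_sup_left
  exact htT (this.le (mem_sup_right (mem_zpowers t)))

theorem isTwoLocal_normalizer {P : Subgroup G} (hP : IsPGroup 2 ↥P) (hP1 : P ≠ ⊥) :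
    IsTwoLocal (normalizer (P : Set G)) := ⟨P, hP, hP1, rfl⟩

theorem exists_maxTwoLocal {L : Subgroup G} (hL : IsTwoLocal L) :
    ∃ L', IsMaximalTwoLocal L' ∧ L ≤ L' := by
  obtain ⟨L', ⟨h1, h2⟩, hmax⟩ := Set.exists_max_image {L' : Subgroup G | IsTwoLocal L' ∧ L ≤ L'}
    (fun L' => Nat.card L') (Set.toFinite _) ⟨L, hL, le_rfl⟩
  exact ⟨L', ⟨h1, fun N hN hle => (eq_of_le_of_card_ge hle (hmax N ⟨hN, h2.trans hle⟩)).symm⟩, h2⟩

theorem IsTwoLocal.core_ne_bot {L : Subgroup G} (hL : IsTwoLocal L) : Qk L ≠ ⊥ := by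
  obtain ⟨R, hR, hR1, rfl⟩ := hL
  exact fun h => hR1 (le_bot_iff.1 ((le_pCoreOf le_normalizer le_rfl hR).trans h.le))

theorem Hyp.S_le {S : Sylow 2 G} {M : Subgroup G} (h : Hyp S M) : (S : Subgroup G) ≤ M :=
  (le_normalizer_J _).trans h.hMJ

section

variable {S : Sylow 2 G} {M T : Subgroup G}

theorem straddle_props (hT : T ∈ maxStraddlingTwoSubgroups M) :
    IsPGroup 2 ↥T ∧ T ≠ ⊥ ∧ T ≤ M := ⟨hT.1.1, hT.1.2.1, hT.1.2.2.1⟩

/-- A straddling subgroup containing `J(T)` has the same `J` and is no larger. -/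
theorem straddle_max (hT : T ∈ maxStraddlingTwoSubgroups M) {T1 : Subgroup G}
    (h1 : T1 ∈ straddlingTwoSubgroups M) (hJ : Jt T ≤ T1) :
    Jt T1 = Jt T ∧ Nat.card T1 ≤ Nat.card T := by
  obtain ⟨ha, h⟩ := hT.2 T1 h1
  have heq : aOrd T1 = aOrd T := le_antisymm ha (aOrd_le_of_J_le hJ)
  obtain ⟨hJc, hc⟩ := h heq
  have he : Jt T = Jt T1 := eq_of_le_of_card_ge (J_le_J hJ ha) hJc
  exact ⟨he.symm, hc (congrArg (fun H : Subgroup G => Nat.card H) he.symm)⟩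

theorem straddle_mem {T1 L : Subgroup G} (hp : IsPGroup 2 ↥T1) (hne : T1 ≠ ⊥) (hM : T1 ≤ M)
    (hL : IsTwoLocal L) (hle : T1 ≤ L) (hLM : ¬ L ≤ M) : T1 ∈ straddlingTwoSubgroups M :=
  ⟨hp, hne, hM, L, hL, hle, hLM⟩

theorem J_ne (hT : T ∈ maxStraddlingTwoSubgroups M) : Jt T ≠ ⊥ :=
  J_ne_bot (straddle_props hT).1 (straddle_props hT).2.1

theorem normalizer_J_le (h : Hyp S M) (hT : T ∈ maxStraddlingTwoSubgroups M) :
    normalizer (Jt T : Set G) ≤ M := by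
  obtain ⟨hTp, hT1, hTM⟩ := straddle_props hT
  by_contra hN
  set L0 := normalizer (Jt T : Set G)
  have hL0 : IsTwoLocal L0 := isTwoLocal_normalizer (isPGroup_J hTp) (J_ne hT)
  obtain ⟨T2, hT2, hTT2⟩ := exists_sylowTwo_ge (L := L0 ⊓ M) hTp (le_inf (le_normalizer_J T) hTM)
  have hstr : T2 ∈ straddlingTwoSubgroups M := straddle_mem hT2.2.1
    (fun hb => hT1 (le_bot_iff.1 (hTT2.trans hb.le))) (hT2.1.trans inf_le_right) hL0
    (hT2.1.trans inf_le_left) hN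
  obtain ⟨-, hc⟩ := straddle_max hT hstr ((J_le T).trans hTT2)
  obtain rfl := eq_of_le_of_card_ge hTT2 hc
  -- `T` is then a Sylow subgroup of `M`
  obtain ⟨U, hU, hTU⟩ := exists_sylowTwo_ge (L := M) hTp hTM
  have hTU' : T = U := by
    by_contra hne
    obtain ⟨t, htU, htT, htN⟩ := exists_normalizes_not_mem hU.2.1 hTU hne
    have hle : T ⊔ zpowers t ≤ L0 ⊓ M :=
      sup_le hT2.1 (zpowers_le.2 ⟨normalizer_le_normalizer_J T htN, hU.1 htU⟩)
    have := sylowTwo_eq_of_le hT2 (hU.2.1.to_le (sup_le hTU (zpowers_le.2 htU))) hle le_sup_left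
    exact htT (this.le (mem_sup_right (mem_zpowers t)))
  have hS : IsSylowTwoIn (S : Subgroup G) M :=
    isSylowTwoIn_iff.2 ((isSylIn_top_iff.2 ⟨S, rfl⟩).mono h.S_le le_top)
  obtain ⟨m, hm, hme⟩ := sylowTwo_conj hS hU
  refine hN ?_
  show normalizer (Jt T : Set G) ≤ M
  rw [hTU', ← hme, J_cjg]
  intro g hg
  have hg' : m⁻¹ * g * m ∈ normalizer (Jt (S : Subgroup G) : Set G) := by
    rw [← cjg_eq_self] at hg ⊢
    rw [← cjg_cjg, ← cjg_cjg, hg, cjg_inv_cjg]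
  have := mul_mem (mul_mem hm (h.hMJ hg')) (inv_mem hm)
  rwa [show m * (m⁻¹ * g * m) * m⁻¹ = g by group] at this

theorem straddle_sylow (h : Hyp S M) (hT : T ∈ maxStraddlingTwoSubgroups M) {L T0 : Subgroup G}
    (hL : IsTwoLocal L) (hLM : ¬ L ≤ M) (hT0 : IsSylowTwoIn T0 L) (hJ : Jt T ≤ T0) :
    Jt T0 = Jt T ∧ T0 ∈ straddlingTwoSubgroups M ∧ L ∈ jOvergroups T0 ∧
      (T ≤ L → IsSylowTwoIn T L) := by
  obtain ⟨hTp, hT1, hTM⟩ := straddle_props hT
  have hNJ := normalizer_J_le h hT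
  have hJL : Jt T ≤ L := hJ.trans hT0.1
  obtain ⟨T1, hS1, hJ1⟩ := exists_sylowTwo_ge (L := L ⊓ M) (isPGroup_J hTp)
    (le_inf hJL ((J_le T).trans hTM))
  have hstr1 : T1 ∈ straddlingTwoSubgroups M := straddle_mem hS1.2.1
    (fun hb => J_ne hT (le_bot_iff.1 (hJ1.trans hb.le))) (hS1.1.trans inf_le_right) hL
    (hS1.1.trans inf_le_left) hLM
  obtain ⟨hJe, -⟩ := straddle_max hT hstr1 hJ1
  have hS1L : IsSylowTwoIn T1 L := sylowTwo_of_inf hS1 fun t _ ht =>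
    hNJ (hJe ▸ normalizer_le_normalizer_J T1 ht)
  have hJ0 : Jt T0 = Jt T := (J_eq_of_sylow hS1L hT0 (hJe.le.trans hJ)).trans hJe
  have hT0M : T0 ≤ M := (le_normalizer_J T0).trans (hJ0 ▸ hNJ)
  have hT0ne : T0 ≠ ⊥ := fun hb => J_ne hT (le_bot_iff.1 (hJ.trans hb.le))
  have hstr0 : T0 ∈ straddlingTwoSubgroups M := straddle_mem hT0.2.1 hT0ne hT0M hL hT0.1 hLM
  refine ⟨hJ0, hstr0, h.zn.mem_jOvergroups hL hT0 fun hJQ => hLM ?_, fun hTL => ?_⟩
  · have hJQ' : Jt (Qk L) = Jt T0 :=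
      J_eq_of_le_of_le hJQ (pCoreOf_le_of_isSylIn (isSylowTwoIn_iff.1 hT0))
    refine le_trans ?_ hNJ
    rw [← hJ0, ← hJQ']
    exact (le_normalizer_pCoreOf 2 L).trans (normalizer_le_normalizer_J _)
  · obtain ⟨U, hU, hTU⟩ := exists_sylowTwo_ge (L := L) hTp hTL
    have hJU : Jt U = Jt T :=
      (J_eq_of_sylow hS1L hU (hJe.le.trans ((J_le T).trans hTU))).trans hJe
    have hUM : U ≤ M := (le_normalizer_J U).trans (hJU ▸ hNJ)
    have hstrU : U ∈ straddlingTwoSubgroups M := straddle_mem hU.2.1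
      (fun hb => hT1 (le_bot_iff.1 (hTU.trans hb.le))) hUM hL hU.1 hLM
    obtain ⟨-, hc⟩ := straddle_max hT hstrU ((J_le T).trans hTU)
    exact (eq_of_le_of_card_ge hTU hc) ▸ hU

theorem overgroup_of_local (h : Hyp S M) (hT : T ∈ maxStraddlingTwoSubgroups M) {L : Subgroup G}
    (hL : IsTwoLocal L) (hLM : ¬ L ≤ M) (hJL : Jt T ≤ L) :
    ∃ T0 : Subgroup G, IsPGroup 2 ↥T0 ∧ T0 ≠ ⊥ ∧ Jt T0 = Jt T ∧ L ∈ jOvergroups T0 ∧
      (T ≤ L → T0 = T) := by
  obtain ⟨hTp, hT1, -⟩ := straddle_props hT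
  by_cases hTL : T ≤ L
  · obtain ⟨U, hU, hJU⟩ := exists_sylowTwo_ge (L := L) hTp hTL
    obtain ⟨hJ0, -, hov, hsyl⟩ := straddle_sylow h hT hL hLM hU ((J_le T).trans hJU)
    have hUT : U = T := sylowTwo_eq_of_le (hsyl hTL) hU.2.1 hU.1 hJU
    exact ⟨T, hTp, hT1, rfl, hUT ▸ hov, fun _ => rfl⟩
  · obtain ⟨U, hU, hJU⟩ := exists_sylowTwo_ge (L := L) (isPGroup_J hTp) hJL
    obtain ⟨hJ0, -, hov, -⟩ := straddle_sylow h hT hL hLM hU hJU
    exact ⟨U, hU.2.1, fun hb => J_ne hT (le_bot_iff.1 (hJU.trans hb.le)), hJ0, hov,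
      fun h' => absurd h' hTL⟩

/-- A component not inside `M` is in `jComponentsZero`. -/
theorem jZero_of_not_le (h : Hyp S M) (hT : T ∈ maxStraddlingTwoSubgroups M) {K : Subgroup G}
    (hK : IsJComponent T K) (hKM : ¬ K ≤ M) : K ∈ jComponentsZero T := by
  obtain ⟨hW, hW1⟩ := wOf_two T K hK
  refine ⟨hK, fun U hJU hU => ?_⟩
  exact (straddle_sylow h hT (isTwoLocal_normalizer hW hW1)
    (fun hle => hKM ((le_normalizer.trans (normalizer_le_normalizer_wOf K)).trans hle)) hU hJU).1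

/-- An overgroup outside `M` has a component outside `M`. -/
theorem exists_outside (h : Hyp S M) (hT : T ∈ maxStraddlingTwoSubgroups M) {L T0 : Subgroup G}
    (hT0 : IsPGroup 2 ↥T0) (hT01 : T0 ≠ ⊥) (hJ0 : Jt T0 = Jt T) (hov : L ∈ jOvergroups T0)
    (hLM : ¬ L ≤ M) : ∃ K, IsJComponent T K ∧ K ≤ L ∧ ¬ K ≤ M := by
  obtain ⟨V, X, Ws, E, o⟩ := exists_ovg h.zn hT0 hT01 hov
  by_contra hcon
  push Not at hcon
  exact hLM (o.le_of_comps h.zn hT0 hT01 (inf_le_right.trans (hJ0 ▸ normalizer_J_le h hT))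
    fun K hK hKL => hcon K (comp_congr hJ0.symm hK) hKL)

theorem outside_nonempty (h : Hyp S M) (hT : T ∈ maxStraddlingTwoSubgroups M) :
    (jComponentsOutside M T).Nonempty := by
  obtain ⟨hTp, hT1, hTM⟩ := straddle_props hT
  obtain ⟨-, -, -, L, hL, hTL, hLM⟩ := hT.1
  obtain ⟨T0, hT0, hT01, hJ0, hov, he⟩ := overgroup_of_local h hT hL hLM ((J_le T).trans hTL)
  obtain ⟨K, hK, hKL, hKM⟩ := exists_outside h hT hT0 hT01 hJ0 hov hLM
  refine ⟨K, jZero_of_not_le h hT hK hKM, hKM, fun hb => IsTwoLocal.core_ne_bot hL ?_⟩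
  rw [← le_bot_iff, ← hb]
  refine le_pCoreOf ?_ ((sup_le hKL hTL).trans (le_normalizer_pCoreOf 2 L)) (isPGroup_pCoreOf 2 L)
  exact (pCoreOf_le_of_isSylIn (isSylowTwoIn_iff.1 (he hTL ▸ hov.1))).trans le_sup_right

/-! ### The maximal 2-local subgroup of a component outside `M` -/

/-- `L` is a maximal 2-local subgroup containing `⟨K, J⟩` for a component `K` outside `M`;
all such coincide. -/
theorem max_unique (h : Hyp S M) (hT : T ∈ maxStraddlingTwoSubgroups M) {K L1 L2 : Subgroup G}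
    (hK : IsJComponent T K) (hKM : ¬ K ≤ M) (h1 : IsMaximalTwoLocal L1)
    (hK1 : K ⊔ Jt T ≤ L1) (h2 : IsMaximalTwoLocal L2) (hK2 : K ⊔ Jt T ≤ L2) : L1 = L2 := by
  have hTp := (straddle_props hT).1
  -- reduce to the case of a maximal subgroup above `N(W_K)`
  obtain ⟨hW, hW1⟩ := wOf_two T K hK
  obtain ⟨Ls, hLs, hNLs⟩ := exists_maxTwoLocal (isTwoLocal_normalizer hW hW1)
  have hKN : K ≤ normalizer (wOf K : Set G) := le_normalizer.trans (normalizer_le_normalizer_wOf K)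
  have hJN : Jt T ≤ normalizer (wOf K : Set G) :=
    (comp_J_le_normalizer hK).trans (normalizer_le_normalizer_wOf K)
  have hKLs : K ⊔ Jt T ≤ Ls := (sup_le hKN hJN).trans hNLs
  suffices key : ∀ L, IsMaximalTwoLocal L → K ⊔ Jt T ≤ L → L = Ls from
    (key L1 h1 hK1).trans (key L2 h2 hK2).symm
  intro L hL hKL
  have hnot : ∀ {L : Subgroup G}, K ⊔ Jt T ≤ L → ¬ L ≤ M :=
    fun hle hLM => hKM ((le_sup_left.trans hle).trans hLM)
  obtain ⟨Ta, hTa, hTa1, hJa, hova, -⟩ :=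
    overgroup_of_local h hT hL.1 (hnot hKL) (le_sup_right.trans hKL)
  obtain ⟨Tb, hTb, hTb1, hJb, hovb, -⟩ :=
    overgroup_of_local h hT hLs.1 (hnot hKLs) (le_sup_right.trans hKLs)
  obtain ⟨V, X, Ws, E, o⟩ := exists_ovg h.zn hTa hTa1 hova
  obtain ⟨V', X', Ws', E', o'⟩ := exists_ovg h.zn hTb hTb1 hovb
  obtain ⟨W, hW', hWe, -⟩ :=
    o.comp_data h.zn hTa hTa1 (comp_congr hJa hK) (le_sup_left.trans hKL)
  -- `L` is the normaliser of the span of its blocks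
  have span : ∀ {T' L V X : Subgroup G} {Ws : Set (Subgroup G)} {E : Subgroup G → Subgroup G},
      Ovg T' L V X Ws E → IsMaximalTwoLocal L → (Jset T' X Ws E).Nonempty →
      L = normalizer ((⨆ U ∈ Jset T' X Ws E, U : Subgroup G) : Set G) := by
    intro T' L V X Ws E o hL hne
    set WL := ⨆ U ∈ Jset T' X Ws E, U
    have hWL : WL ≤ omegaCenterOf (Qk L) :=
      iSup₂_le fun U hU => (o.blocks.le_V U hU.1).trans o.V_le
    have hp : IsPGroup 2 ↥WL := (isPGroup_pCoreOf 2 L).to_le (hWL.trans (omegaCenterOf_le _))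
    obtain ⟨U, hU⟩ := hne
    have hne' : WL ≠ ⊥ := fun hb => by
      have h4 := o.blocks.card_W U hU.1
      rw [show U = ⊥ from le_bot_iff.1 ((le_biSup (f := id) hU).trans hb.le), card_bot] at h4
      omega
    have hle : L ≤ normalizer (WL : Set G) := by
      intro g hg
      refine mem_normalizer_of_cjg_le ?_
      rw [cjg, Subgroup.map_iSup]
      refine iSup_le fun U => ?_
      rw [Subgroup.map_iSup]
      exact iSup_le fun hU => le_biSup (f := id) (o.Jset_conj hU hg)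
    exact (hL.2 _ (isTwoLocal_normalizer hp hne') hle).symm
  -- the components of `L` lie in `Ls`
  have sub1 : ∀ U ∈ Jset Ta X Ws E, ∃ K', IsJComponent T K' ∧ K' ≤ Ls ∧ wOf K' = U := by
    intro U hU
    obtain ⟨K', hK', hK'L, hWU⟩ := o.exists_comp hTa hU
    refine ⟨K', comp_congr hJa.symm hK', le_trans ?_ hNLs, hWU⟩
    rw [hWe]
    exact (o.comp_le_Pl hK' hK'L).trans (o.Pl_fix hW'.1)
  have hblock : ∀ U ∈ Jset Ta X Ws E, U ∈ Jset Tb X' Ws' E' := by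
    intro U hU
    obtain ⟨K', hK', hK'L, hWU⟩ := sub1 U hU
    obtain ⟨U', hU', hUe, -⟩ := o'.comp_data h.zn hTb hTb1 (comp_congr hJb hK') hK'L
    rwa [← hWU, hUe]
  have hne : (Jset Ta X Ws E).Nonempty := ⟨W, hW'⟩
  have hLeq := span o hL hne
  have sub2 : ∀ U ∈ Jset Tb X' Ws' E', U ∈ Jset Ta X Ws E := by
    intro U hU
    obtain ⟨K', hK', hK'L, hWU⟩ := o'.exists_comp hTb hU
    have hK'N : K' ≤ L := by
      rw [hLeq]
      intro g hg
      refine mem_normalizer_of_cjg_le ?_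
      rw [cjg, Subgroup.map_iSup]
      refine iSup_le fun A => ?_
      rw [Subgroup.map_iSup]
      refine iSup_le fun hA => ?_
      have hfix := (o'.comp_le_Pl hK' hK'L).trans (o'.Pl_fix (hblock A hA).1)
      rw [show A.map (MulAut.conj g).toMonoidHom = A from cjg_eq_self.2 (hfix hg)]
      exact le_biSup (f := id) hA
    obtain ⟨U', hU', hUe, -⟩ :=
      o.comp_data h.zn hTa hTa1 (comp_congr hJa (comp_congr hJb.symm hK')) hK'N
    rwa [← hWU, hUe]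
  have hset : Jset Tb X' Ws' E' = Jset Ta X Ws E :=
    Set.Subset.antisymm sub2 hblock
  rw [hLeq, span o' hLs ⟨W, hblock W hW'⟩, hset]

theorem outside_local (h : Hyp S M) (hT : T ∈ maxStraddlingTwoSubgroups M) {K : Subgroup G}
    (hK : K ∈ jComponentsOutside M T) :
    ∃ L, IsMaximalTwoLocal L ∧ K ⊔ T ≤ L ∧ ¬ L ≤ M ∧ IsSylowTwoIn T L ∧ L ∈ jOvergroups T ∧
      (K.subgroupOf L).IsSubnormal ∧
      ∀ L', IsMaximalTwoLocal L' → K ⊔ Jt T ≤ L' → L' = L := by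
  obtain ⟨hK0, hKM, hO⟩ := hK
  obtain ⟨hTp, hT1, -⟩ := straddle_props hT
  obtain ⟨L, hL, hle⟩ := exists_maxTwoLocal (isTwoLocal_normalizer (isPGroup_pCoreOf 2 (K ⊔ T)) hO)
  have hKT : K ⊔ T ≤ L := (le_normalizer_pCoreOf 2 (K ⊔ T)).trans hle
  have hKJ : K ⊔ Jt T ≤ L := (sup_le_sup_left (J_le T) K).trans hKT
  have hLM : ¬ L ≤ M := fun hLM => hKM ((le_sup_left.trans hKT).trans hLM)
  have hTL : T ≤ L := le_sup_right.trans hKT
  obtain ⟨T0, hT0, hT01, hJ0, hov, he⟩ := overgroup_of_local h hT hL.1 hLM ((J_le T).trans hTL)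
  obtain rfl := he hTL
  obtain ⟨V, X, Ws, E, o⟩ := exists_ovg h.zn hTp hT1 hov
  exact ⟨L, hL, hKT, hLM, hov.1, hov,
    o.comp_isSubnormal h.zn hTp hT1 hK0.1 (le_sup_left.trans hKT),
    fun L' hL' hKL' => max_unique h hT hK0.1 hKM hL' hKL' hL hKJ⟩

end

end Cfsg.Agent.JComp
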