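import Cfsg.Agent.Lib.JComp.Model
import Cfsg.Agent.Lib.Involutions.StronglyEmbedded
import Cfsg.Agent.S2947

/-!
A Sylow 2-subgroup lies in a second maximal 2-local subgroup when `N(J) ≤ L`.
-/

set_option autoImplicit false
set_option linter.unusedSectionVars false
set_option linter.style.haveILetI false

namespace Cfsg.Agent.JComp

open Subgroup Cfsg Cfsg.Agent.CharP Cfsg.Agent.PLocal.ThompsonSubgroup
open scoped commutatorElement

variable {G : Type*} [Group G] [Finite G] {S : Sylow 2 G} {M T K L : Subgroup G}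

theorem exists_maxStraddling (h : (straddlingTwoSubgroups M).Nonempty) :
    ∃ T, T ∈ maxStraddlingTwoSubgroups M := by
  obtain ⟨T1, hT1, hmax1⟩ := Set.exists_max_image (straddlingTwoSubgroups M)
    (fun T => maxElemAbelianOrder T) (Set.toFinite _) h
  obtain ⟨T2, ⟨hT2, ha2⟩, hmax2⟩ := Set.exists_max_image
    {T | T ∈ straddlingTwoSubgroups M ∧ maxElemAbelianOrder T = maxElemAbelianOrder T1}
    (fun T => Nat.card ↥(thompsonSubgroupOf 2 T)) (Set.toFinite _) ⟨T1, hT1, rfl⟩
  obtain ⟨T3, ⟨hT3, ha3, hj3⟩, hmax3⟩ := Set.exists_max_image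
    {T | T ∈ straddlingTwoSubgroups M ∧ maxElemAbelianOrder T = maxElemAbelianOrder T1 ∧
      Nat.card ↥(thompsonSubgroupOf 2 T) = Nat.card ↥(thompsonSubgroupOf 2 T2)}
    (fun T => Nat.card ↥T) (Set.toFinite _) ⟨T2, hT2, ha2, rfl⟩
  exact ⟨T3, hT3, fun U hU => ⟨ha3 ▸ hmax1 U hU, fun ha => ⟨hj3 ▸ hmax2 U ⟨hU, ha.trans ha3⟩,
    fun hj => hmax3 U ⟨hU, ha.trans ha3, hj.trans hj3⟩⟩⟩⟩

/-- An overgroup is not strongly embedded. -/
theorem not_stronglyEmbedded (hTp : IsPGroup 2 ↥T) (hT1 : T ≠ ⊥) (hov : L ∈ jOvergroups T) :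
    ¬ IsStronglyEmbedded L := by
  intro hse
  haveI : Fact (Nat.Prime 2) := ⟨Nat.prime_two⟩
  have hQ := core_ne_bot hT1 hov
  obtain ⟨z, hz, hzo, -⟩ := exists_order_prime_central (p := 2) (isPGroup_pCoreOf 2 L) le_rfl
    le_normalizer hQ
  refine hov.2.1 (J_le_of_forall fun A hA a ha => ?_)
  rcases eq_or_ne a 1 with rfl | ha1
  · exact one_mem _
  have hao : orderOf a = 2 :=
    orderOf_eq_prime (by rw [pow_two]; exact isElementaryAbelian_two_sq hA.2.1 ha) ha1
  obtain ⟨g, hg⟩ := isConj_iff.1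
    (Involutions.StronglyEmbedded.isConj_involutions hse hzo hao)
  have hgL : g ∈ L := Involutions.StronglyEmbedded.mem_of_conj hse (pCoreOf_le 2 L hz) hzo
    (hg ▸ hov.1.1 (hA.1 ha))
  rw [← hg]
  exact conj_mem_normalizer (le_normalizer_pCoreOf 2 L hgL) hz

theorem sylowTwo_card_le {U : Subgroup G} (h : IsSylowTwoIn T L) (hU : IsPGroup 2 ↥U)
    (hle : U ≤ L) : Nat.card U ≤ Nat.card T := by
  obtain ⟨U', hU', hUU'⟩ := exists_sylowTwo_ge (L := L) hU hle
  obtain ⟨l, -, hl⟩ := sylowTwo_conj h hU'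
  calc Nat.card U ≤ Nat.card U' := card_le_of_le hUU'
    _ = Nat.card T := by rw [← hl, card_cjg]

/-- `N(J(S)) ≤ L` and `L` an overgroup of `S`: `L` is not the only maximal 2-local subgroup
containing `S`. -/
theorem unique_absurd (h : Hyp S M) (am : ∀ H : Subgroup G, Amal ↥H) (hL : IsMaximalTwoLocal L)
    (hNJ : normalizer (Jt (S : Subgroup G) : Set G) ≤ L)
    (hov : L ∈ jOvergroups (S : Subgroup G))
    (huniq : ∀ L', IsMaximalTwoLocal L' → (S : Subgroup G) ≤ L' → L' = L) : False := by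
  haveI : Fact (Nat.Prime 2) := ⟨Nat.prime_two⟩
  have hL' : Hyp S L := ⟨h.zn, h.hO, hL.1, hNJ⟩
  have hS1 : (S : Subgroup G) ≠ ⊥ := by
    intro hb
    exact hov.2.1 ((J_le _).trans (hb.le.trans bot_le))
  -- a maximal straddling subgroup of `L`
  obtain ⟨T, hT⟩ := exists_maxStraddling (M := L) (Set.nonempty_iff_ne_empty.2 fun he =>
    not_stronglyEmbedded S.isPGroup' hS1 hov
      ((S2947.result h.zn.char2 h.zn.solv h.zn.hz h.hO S L hL.1 hNJ).2 he))
  obtain ⟨hTp, hT1, hTL⟩ := straddle_props hT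
  obtain ⟨S', hS', hTS'⟩ := hL'.exists_sylow_above hT
  have hSL : (S : Subgroup G) ≤ L := hL'.S_le
  have hS'L : (S' : Subgroup G) ≤ L := hS'.S_le
  have hsylS' : IsSylowTwoIn (S' : Subgroup G) L :=
    isSylowTwoIn_iff.2 ((isSylIn_top_iff.2 ⟨S', rfl⟩).mono hS'L le_top)
  have hne : T ≠ (S' : Subgroup G) := by
    intro e
    obtain ⟨-, -, -, L'', hL'', hTL'', hnL⟩ := hT.1
    obtain ⟨L3, hL3, hle⟩ := exists_maxTwoLocal hL''
    obtain ⟨l, hl, hle'⟩ := sylowTwo_conj hov.1 hsylS'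
    have hS3 : cjg l (S : Subgroup G) ≤ L3 := by rw [hle', ← e]; exact hTL''.trans hle
    have h3 := huniq _ (maxLocal_cjg hL3 l⁻¹) (by
      have := cjg_mono (g := l⁻¹) hS3
      rwa [cjg_inv_cjg] at this)
    refine hnL (hle.trans (le_of_eq ?_))
    rw [← cjg_inv_cjg' l L3, h3]
    exact cjg_eq_self.2 (le_normalizer hl)
  -- a pair of models
  obtain ⟨K, hK⟩ := outside_nonempty hS' hT
  obtain ⟨L1, hL1, hKL1, -, hsyl1, hov1, -, -⟩ := outside_local hS' hT hK
  obtain ⟨n, hnS, hnT, hnN, hnL1⟩ := exists_outer_of_ne hTS' hne hsyl1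
  obtain ⟨hnorm, hZ4⟩ := normalizes_of_outer hS' hT hK.1.1 hK.2.1 hL1 hKL1 hov1
    (normalizer_le_normalizer_J T hnN) hnL1
  have m1 : Member L T K L1 := ⟨hK.1.1, hK.2.1, hnorm, hL1, hKL1, hov1⟩
  have p := m1.twoComps hS' hT hnN hnL1
  have m2 := p.m2
  obtain ⟨mod1, mod2⟩ := (p.amalgam hS' hT am).models
  have e1 := m1.model_eq h.zn hTp hT1 mod1
  have e2 := m2.model_eq h.zn hTp hT1 mod2
  set V1 := Qk L1 with hV1
  set V2 := Qk (cjg n L1) with hV2
  have hV2n : V2 = cjg n V1 := Qk_cjg n L1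
  have el1 : ∀ a ∈ V1, a * a = 1 := by rw [hV1, e1]; exact m1.core_elem h.zn hTp hT1 mod1
  have el2 : ∀ a ∈ V2, a * a = 1 := by rw [hV2, e2]; exact m2.core_elem h.zn hTp hT1 mod2
  have c2 : centralizer (V2 : Set G) ≤ V2 := by rw [hV2, e2]; exact m2.cent h.zn hTp hT1
  have hV1T : V1 ≤ T := pCoreOf_le_of_isSylIn (isSylowTwoIn_iff.1 m1.ov.1)
  have hV2T : V2 ≤ T := pCoreOf_le_of_isSylIn (isSylowTwoIn_iff.1 m2.ov.1)
  have hidx : V1.relIndex T = 2 := by
    have hmul := relIndex_mul_relIndex V1 T (K ⊔ T) hV1T le_sup_right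
    rw [(m1.sylow h.zn hTp hT1).2, hV1, e1, (m1.core_index h.zn hTp hT1).2] at hmul
    rw [hV1, e1]; omega
  obtain ⟨v2, hv2, hv2V1⟩ : ∃ v ∈ V2, v ∉ V1 := by
    by_contra hcon
    push Not at hcon
    have he : V2 = V1 := eq_of_le_of_card_ge hcon (by rw [hV2n, card_cjg])
    refine p.ne ?_
    exact (maxLocal_eq m1.max).trans
      ((congrArg (fun X : Subgroup G => normalizer (X : Set G)) he.symm).trans
        (maxLocal_eq m2.max).symm)
  have hsplit : ∀ t ∈ T, t ∈ V1 ∨ t * v2 ∈ V1 := by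
    intro t ht
    by_cases htV : t ∈ V1
    · exact Or.inl htV
    refine Or.inr ?_
    have hmem : (⟨t, ht⟩ * ⟨v2, hV2T hv2⟩ : ↥T) ∈ V1.subgroupOf T := by
      rw [mul_mem_iff_of_index_two hidx, mem_subgroupOf, mem_subgroupOf]
      exact iff_of_false htV hv2V1
    exact mem_subgroupOf.1 hmem
  have comm1 : ∀ a ∈ V1, ∀ b ∈ V1, a * b = b * a := fun a ha b hb =>
    isElementaryAbelian_two_comm (isElementaryAbelian_two_of el1) ha hb
  have comm2 : ∀ a ∈ V2, ∀ b ∈ V2, a * b = b * a := fun a ha b hb =>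
    isElementaryAbelian_two_comm (isElementaryAbelian_two_of el2) ha hb
  have inv_mem12 : ∀ t ∈ T, t * t = 1 → t ∈ V1 ∨ t ∈ V2 := by
    intro t ht ht2
    rcases hsplit t ht with h1 | h1
    · exact Or.inl h1
    refine Or.inr ?_
    have ht' : t = t * v2 * v2 := by rw [mul_assoc, el2 v2 hv2, mul_one]
    have hcomm : (t * v2) * v2 = v2 * (t * v2) := by
      have a1 := el1 _ h1
      rw [ht'] at ht2
      calc t * v2 * v2 = (v2 * (t * v2)) * ((t * v2 * v2) * (t * v2 * v2)) := by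
            rw [show v2 * (t * v2) * (t * v2 * v2 * (t * v2 * v2)) =
              v2 * ((t * v2) * (t * v2)) * v2 * (t * v2 * v2) by group, a1, mul_one, el2 v2 hv2,
              one_mul]
        _ = v2 * (t * v2) := by rw [ht2, mul_one]
    have hC : t * v2 ∈ centralizer (V2 : Set G) := by
      intro y hy
      rcases hsplit y (hV2T hy) with h2 | h2
      · exact comm1 y h2 _ h1
      · have e3 := comm1 _ h2 _ h1
        calc y * (t * v2) = y * v2 * ((t * v2) * v2) := by
              rw [hcomm, show y * v2 * (v2 * (t * v2)) = y * (v2 * v2) * (t * v2) by group,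
                el2 v2 hv2, mul_one]
          _ = (y * v2 * (t * v2)) * v2 := by group
          _ = (t * v2 * (y * v2)) * v2 := by rw [e3]
          _ = t * v2 * y := by
              rw [show t * v2 * (y * v2) * v2 = t * v2 * y * (v2 * v2) by group, el2 v2 hv2,
                mul_one]
    rw [ht']
    exact mul_mem (c2 hC) hv2
  have elem_le : ∀ {A : Subgroup G}, A ≤ T → (∀ a ∈ A, a * a = 1) → A ≤ V1 ∨ A ≤ V2 := by
    intro A hAT hA
    by_contra hcon
    rw [not_or, SetLike.not_le_iff_exists, SetLike.not_le_iff_exists] at hcon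
    obtain ⟨⟨a, ha, ha1⟩, b, hb, hb2⟩ := hcon
    have ha2 := (inv_mem12 a (hAT ha) (hA a ha)).resolve_left ha1
    have hb1 := (inv_mem12 b (hAT hb) (hA b hb)).resolve_right hb2
    rcases inv_mem12 _ (mul_mem (hAT ha) (hAT hb)) (hA _ (mul_mem ha hb)) with h3 | h3
    · exact ha1 (by have := mul_mem h3 (inv_mem hb1); rwa [mul_inv_cancel_right] at this)
    · exact hb2 (by have := mul_mem (inv_mem ha2) h3; rwa [inv_mul_cancel_left] at this)
  have elem_inv : ∀ {A : Subgroup G}, A ≤ T → (∀ a ∈ A, a * a = 1) →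
      n ∈ normalizer (A : Set G) → A ≤ V1 ⊓ V2 := by
    intro A hAT hA hnA
    rcases elem_le hAT hA with h1 | h1
    · refine le_inf h1 ?_
      rw [hV2n, ← cjg_eq_self.2 hnA]; exact cjg_mono h1
    · refine le_inf ?_ h1
      rw [hV2n, ← cjg_eq_self.2 hnA] at h1
      exact (map_le_map_iff_of_injective (MulAut.conj n).injective).1 h1
  have hD : V1 ⊓ V2 ≤ Z0 T := fun d hd => omegaCenterOf_le_Z0 T (mem_omegaCenterOf.2
    ⟨hV1T hd.1, fun t ht => by
      rcases hsplit t ht with h1 | h1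
      · exact comm1 t h1 d hd.1
      · calc t * d = t * v2 * (v2 * d) := by
              rw [show t * v2 * (v2 * d) = t * (v2 * v2) * d by group, el2 v2 hv2, mul_one]
          _ = t * v2 * d * v2 := by rw [comm2 v2 hv2 d hd.2]; group
          _ = d * (t * v2) * v2 := by rw [comm1 _ h1 d hd.1]
          _ = d * t := by
              rw [show d * (t * v2) * v2 = d * t * (v2 * v2) by group, el2 v2 hv2, mul_one],
      el1 d hd.1⟩)
  -- the normal elementary abelian subgroup of `L`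
  set V := omegaCenterOf (Qk L) with hV
  have hQS' : Qk L ≤ (S' : Subgroup G) := pCoreOf_le_of_isSylIn (isSylowTwoIn_iff.1 hsylS')
  have hVS' : V ≤ (S' : Subgroup G) := (omegaCenterOf_le _).trans hQS'
  have hVel : ∀ a ∈ V, a * a = 1 := fun a ha => (mem_omegaCenterOf.1 ha).2.2
  have hLV : L ≤ normalizer (V : Set G) :=
    (le_normalizer_pCoreOf 2 L).trans (normalizer_le_normalizer_omegaCenterOf _)
  have hZV : omegaCenterOf (S' : Subgroup G) ≤ V := by
    intro z hz
    obtain ⟨hzS, hzc, hz2⟩ := mem_omegaCenterOf.1 hz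
    exact mem_omegaCenterOf.2
      ⟨hov.2.2 fun y hy => hzc y (hQS' hy), fun y hy => hzc y (hQS' hy), hz2⟩
  have hnL : n ∈ L := hS'L hnS
  by_cases hVT : V ≤ T
  · have hVD := elem_inv hVT hVel (hLV hnL)
    have hVZ : V ≤ Z0 T := hVD.trans hD
    -- `L` centralises `Ω₁ Z(S')`
    have hfix : ∀ g ∈ L, ∀ u ∈ omegaCenterOf (S' : Subgroup G), g * u * g⁻¹ = u := by
      intro g hg u hu
      rcases eq_or_ne u 1 with rfl | hu1
      · group
      have huV := hZV hu
      have hw : g * u * g⁻¹ ∈ V := conj_mem_normalizer (hLV hg) huV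
      have hw1 : g * u * g⁻¹ ≠ 1 := fun e => hu1 (conj_eq_one_iff.1 e)
      by_cases hc : CK T K = ⊥
      · have h2 : Nat.card (Z0 T) ≤ 2 := by rw [card_CK hTp m1.comp, hc, card_bot]
        exact (card_two_cases h2 (hVZ huV) hu1 (hVZ hw)).resolve_left hw1
      obtain ⟨c, hcK, hc1⟩ : ∃ c ∈ CK T K, c ≠ 1 := by
        by_contra hcon; push Not at hcon
        exact hc ((eq_bot_iff_forall _).2 hcon)
      have hCc : centralizer ({c} : Set G) ≤ L1 := CK_centralizer_le hS' hT m1.comp m1.nM hL1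
        ((sup_le_sup_left (J_le T) K).trans hKL1) hcK hc1
      have hcn : n * c * n⁻¹ ≠ c := fun e =>
        hnL1 (hCc (mem_centralizer_singleton_iff.2 (mul_inv_eq_iff_eq_mul.1 e)))
      have hcn0 : n * c * n⁻¹ ∈ Z0 T := conj_mem_normalizer
        (normalizer_J_le_normalizer_Z0 T (normalizer_le_normalizer_J T hnN)) hcK.1
      have h4 : Nat.card (Z0 T) = 4 := by
        refine le_antisymm hZ4 ?_
        have h1 : 2 ≤ Nat.card (CK T K) := by
          haveI : Nontrivial ↥(CK T K) := ⟨⟨⟨c, hcK⟩, 1, fun e => hc1 (congrArg Subtype.val e)⟩⟩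
          exact Finite.one_lt_card (α := ↥(CK T K))
        rw [card_CK hTp m1.comp]; omega
      have big : ∀ {v : G}, (∀ y ∈ (S' : Subgroup G), y * v = v * y) →
          ∀ g : G, g * v * g⁻¹ ≠ c ∧ g * v * g⁻¹ ≠ n * c * n⁻¹ := by
        intro v hv g
        have key : ∀ {d : G}, centralizer ({d} : Set G) ≤ L1 → g * v * g⁻¹ ≠ d := by
          intro d hd e
          have hle : cjg g (S' : Subgroup G) ≤ L1 := by
            refine le_trans ?_ hd
            rintro _ ⟨y, hy, rfl⟩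
            rw [mem_centralizer_singleton_iff, ← e, MulEquiv.coe_toMonoidHom,
              MulAut.conj_apply]
            calc g * y * g⁻¹ * (g * v * g⁻¹) = g * (y * v) * g⁻¹ := by group
              _ = g * (v * y) * g⁻¹ := by rw [hv y hy]
              _ = g * v * g⁻¹ * (g * y * g⁻¹) := by group
          have := sylowTwo_card_le hsyl1 (S'.isPGroup'.map _) hle
          rw [card_cjg] at this
          exact hne (eq_of_le_of_card_ge hTS' this)
        refine ⟨key hCc, fun e => ?_⟩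
        have hle : cjg g (S' : Subgroup G) ≤ cjg n L1 := by
          refine le_trans ?_ (cjg_mono hCc)
          rintro _ ⟨y, hy, rfl⟩
          rw [mem_cjg, mem_centralizer_singleton_iff, MulEquiv.coe_toMonoidHom,
            MulAut.conj_apply]
          have e' : c = n⁻¹ * (g * v * g⁻¹) * n := by rw [e]; group
          rw [e']
          calc n⁻¹ * (g * y * g⁻¹) * n * (n⁻¹ * (g * v * g⁻¹) * n)
              = n⁻¹ * g * (y * v) * g⁻¹ * n := by group
            _ = n⁻¹ * g * (v * y) * g⁻¹ * n := by rw [hv y hy]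
            _ = n⁻¹ * (g * v * g⁻¹) * n * (n⁻¹ * (g * y * g⁻¹) * n) := by group
        have := sylowTwo_card_le m2.ov.1 (S'.isPGroup'.map _) hle
        rw [card_cjg] at this
        exact hne (eq_of_le_of_card_ge hTS' this)
      have hcent : ∀ y ∈ (S' : Subgroup G), y * u = u * y := (mem_omegaCenterOf.1 hu).2.1
      obtain ⟨hu2, hu3⟩ := big hcent 1
      rw [one_mul, inv_one, mul_one] at hu2 hu3
      obtain ⟨hw2, hw3⟩ := big hcent g
      have hexp : ∀ a ∈ Z0 T, a * a = 1 := fun a ha => (mem_omegaCenterOf.1 ha).2.2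
      have hcn1 : n * c * n⁻¹ ≠ 1 := fun e => hc1 (conj_eq_one_iff.1 e)
      rcases four_cases h4 hexp hcK.1 hcn0 hc1 hcn1 hcn.symm (hVZ huV) with a | a | a | a
      · exact absurd a hu1
      · exact absurd a hu2
      · exact absurd a hu3
      rcases four_cases h4 hexp hcK.1 hcn0 hc1 hcn1 hcn.symm (hVZ hw) with b | b | b | b
      · exact absurd b hw1
      · exact absurd b hw2
      · exact absurd b hw3
      exact b.trans a.symm
    have hLN : L ≤ normalizer ((S' : Subgroup G) : Set G) := fun g hg => h.zn.hz S' fun u hu =>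
      (mul_inv_eq_iff_eq_mul.1 (hfix g hg u hu)).symm
    exact hov.2.1 ((J_le _).trans ((two_subgroup_le_of_normalizer S' S.isPGroup'
      (hSL.trans hLN)).trans (le_pCoreOf hS'L hLN S'.isPGroup')))
  · have hUp : IsPGroup 2 ↥(V ⊔ T) := S'.isPGroup'.to_le (sup_le hVS' hTS')
    obtain ⟨t, htU, htT, htN⟩ := exists_normalizes_not_mem hUp (le_sup_right : T ≤ V ⊔ T)
      (fun e => hVT (le_sup_left.trans e.ge))
    obtain ⟨v, hv, t', ht', rfl⟩ :=
      exists_mul_of_le_normalizer ((hTS'.trans hS'L).trans hLV) htU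
    have hvT : v ∉ T := fun hv' => htT (mul_mem hv' ht')
    have hvN : v ∈ normalizer (T : Set G) := by
      have := mul_mem htN (inv_mem (le_normalizer ht'))
      rwa [mul_inv_cancel_right] at this
    have hVT' : V ⊓ T ≤ V1 ⊓ V2 := elem_inv inf_le_right (fun a ha => hVel a ha.1)
      (normalizer_inf_le_normalizer_inf V T ⟨hLV hnL, hnN⟩)
    have hvV1 : v ∈ L1 := by
      rw [maxLocal_eq hL1]
      refine mem_normalizer_of_cjg_le ?_
      rintro _ ⟨u, hu, rfl⟩
      rw [MulEquiv.coe_toMonoidHom, MulAut.conj_apply]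
      have h1 : v * u * v⁻¹ * u⁻¹ ∈ V ⊓ T := by
        refine mem_inf.2 ⟨?_, mul_mem (conj_mem_normalizer hvN (hV1T hu))
          (inv_mem (hV1T hu))⟩
        rw [show v * u * v⁻¹ * u⁻¹ = v * (u * v⁻¹ * u⁻¹) by group]
        exact mul_mem hv (conj_mem_normalizer (hLV (hS'L (hTS' (hV1T hu)))) (inv_mem hv))
      have h2 : v * u * v⁻¹ * u⁻¹ * u ∈ V1 := mul_mem (hVT' h1).1 hu
      rwa [inv_mul_cancel_right] at h2
    have := sylowTwo_eq_of_le hsyl1
      (S'.isPGroup'.to_le (sup_le hTS' (zpowers_le.2 (hVS' hv))))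
      (sup_le hsyl1.1 (zpowers_le.2 hvV1)) le_sup_left
    exact hvT (this.le (mem_sup_right (mem_zpowers v)))

end Cfsg.Agent.JComp
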